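import Cfsg.Agent.Chevalley.TwTorus.Sc.Lat
import Cfsg.Agent.H37.CartanMap
import Cfsg.Agent.Chevalley.TwTorus.Main

/-!
Isometries of the lattice of type E6 with a twelfth root of unity as an eigenvalue modulo a prime:
regularity of the eigenvector and cyclicity of the twisted quotient.
-/
set_option autoImplicit false
set_option maxRecDepth 100000
set_option linter.unusedSectionVars false

namespace Cfsg.Agent.Chevalley.TwTorus.Sc

open Matrix Polynomial Cfsg.Agent.H37

/-- Twice the simple roots of E6 inside the lattice of E8, by columns. -/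
def rootE6 : Matrix (Fin 8) (Fin 6) ℤ :=
  !![1, 2, -2, 0, 0, 0; -1, 2, 2, -2, 0, 0; -1, 0, 0, 2, -2, 0; -1, 0, 0, 0, 2, -2;
    -1, 0, 0, 0, 0, 2; -1, 0, 0, 0, 0, 0; -1, 0, 0, 0, 0, 0; 1, 0, 0, 0, 0, 0]

theorem gramE6_eq : rootE6.transpose * rootE6 = (4 : ℤ) • cartanE6 := by decide +kernel

theorem det_cartanE6 : cartanE6.det = 3 := by decide +kernel

theorem cartanE6_symm : cartanE6.transpose = cartanE6 := by decide +kernel

theorem cartanE6_diag : ∀ i, cartanE6 i i = 2 := by decide +kernel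

theorem cartanE6_comm (x y : Fin 6 → ℤ) :
    dotProduct x (cartanE6.mulVec y) = dotProduct y (cartanE6.mulVec x) := by
  rw [dotProduct_mulVec, ← mulVec_transpose, cartanE6_symm, dotProduct_comm]

theorem cartanE6_even (x : Fin 6 → ℤ) : 2 ∣ dotProduct x (cartanE6.mulVec x) := by
  refine ⟨x 0 * x 0 + x 1 * x 1 + x 2 * x 2 + x 3 * x 3 + x 4 * x 4 + x 5 * x 5
    - x 0 * x 2 - x 1 * x 3 - x 2 * x 3 - x 3 * x 4 - x 4 * x 5, ?_⟩
  simp [cartanE6, mulVec, dotProduct, Fin.sum_univ_six]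
  ring

theorem cartanE6_pos (x : Fin 6 → ℤ) (hx : x ≠ 0) : 0 < dotProduct x (cartanE6.mulVec x) := by
  have h : dotProduct (rootE6.mulVec x) (rootE6.mulVec x) = 4 * dotProduct x (cartanE6.mulVec x) := by
    rw [dotProduct_mulVec, ← mulVec_transpose, mulVec_mulVec, gramE6_eq, smul_mulVec,
      dotProduct_comm, dotProduct_smul, smul_eq_mul]
  have hne : rootE6.mulVec x ≠ 0 := fun h0 => hx (by
    refine eq_zero_of_mulVec_eq_zero (M := cartanE6) (by rw [det_cartanE6]; norm_num) ?_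
    have h1 := congrArg rootE6.transpose.mulVec h0
    rw [mulVec_mulVec, gramE6_eq, smul_mulVec, mulVec_zero] at h1
    exact (smul_eq_zero.1 h1).resolve_left (by norm_num))
  have hpos : 0 < dotProduct (rootE6.mulVec x) (rootE6.mulVec x) := by
    refine lt_of_le_of_ne (Finset.sum_nonneg fun i _ => mul_self_nonneg _) fun h0 => hne ?_
    exact dotProduct_self_eq_zero.1 h0.symm
  omega

theorem cartanE6_conn (f : Fin 6 → Prop) (hf : ∀ i j, cartanE6 i j ≠ 0 → (f i ↔ f j)) :
    (∀ i, f i) ∨ (∀ i, ¬ f i) := by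
  have e02 := hf 0 2 (by decide +kernel)
  have e23 := hf 2 3 (by decide +kernel)
  have e13 := hf 1 3 (by decide +kernel)
  have e34 := hf 3 4 (by decide +kernel)
  have e45 := hf 4 5 (by decide +kernel)
  by_cases h : f 3
  · refine Or.inl fun i => ?_
    fin_cases i
    · exact e02.2 (e23.2 h)
    · exact e13.2 h
    · exact e23.2 h
    · exact h
    · exact e34.1 h
    · exact e45.1 (e34.1 h)
  · refine Or.inr fun i hi => h ?_
    fin_cases i
    · exact e23.1 (e02.1 hi)
    · exact e13.1 hi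
    · exact e23.1 hi
    · exact hi
    · exact e34.2 hi
    · exact e34.2 (e45.2 hi)

/-- A basis of vectors of norm two has determinant at most four. -/
theorem det_le_four (L : Matrix (Fin 6) (Fin 6) ℤ)
    (h : ∀ j, dotProduct (fun i => L i j) (cartanE6.mulVec fun i => L i j) = 2) :
    L.det.natAbs ≤ 4 := by
  have hb := gram_det_le' (rootE6 * L) (L := 8) (by norm_num) fun j => by
    rw [transpose_mul, Matrix.mul_assoc, ← Matrix.mul_assoc rootE6.transpose, gramE6_eq,
      Matrix.smul_mul, Matrix.mul_smul, Matrix.smul_apply, smul_eq_mul,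
      show (L.transpose * (cartanE6 * L)) j j
        = dotProduct (fun i => L i j) (cartanE6.mulVec fun i => L i j) from rfl, h j]
    norm_num
  rw [transpose_mul, Matrix.mul_assoc, ← Matrix.mul_assoc rootE6.transpose, gramE6_eq,
    Matrix.smul_mul, Matrix.mul_smul, det_smul, det_mul, det_mul, det_transpose, det_cartanE6,
    Fintype.card_fin] at hb
  by_contra hlt
  have h5 : 5 * 5 ≤ L.det.natAbs * L.det.natAbs := Nat.mul_le_mul (by omega) (by omega)
  have h25 : (25 : ℤ) ≤ L.det * L.det := by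
    rw [← Int.natAbs_mul_self (a := L.det)]; exact_mod_cast h5
  push_cast at hb
  nlinarith

/-- Vanishing against a basis. -/
theorem dvd_of_basis (L : Matrix (Fin 6) (Fin 6) ℤ) {m : ℤ} {a : Fin 6 → ℤ}
    (h : ∀ j, m ∣ dotProduct (fun i => L i j) (cartanE6.mulVec a)) (j : Fin 6) :
    m ∣ 3 * L.det * a j := by
  have h' : ∀ i, m ∣ (L.transpose * cartanE6).mulVec a i := fun i => by
    rw [← mulVec_mulVec]; exact h i
  have h1 := dvd_mulVec (L.transpose * cartanE6).adjugate h' j
  rw [mulVec_mulVec, adjugate_mul, smul_mulVec, one_mulVec, Pi.smul_apply, smul_eq_mul, det_mul,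
    det_transpose, det_cartanE6] at h1
  rwa [mul_comm (3 : ℤ)]

variable {M : Matrix (Fin 6) (Fin 6) ℤ}

theorem iso6 (hiso : M.transpose * cartanE6 * M = cartanE6) (hfin : ∃ N, 0 < N ∧ M ^ N = 1)
    (hdisc : ∀ i j, (3 : ℤ) ∣ ((1 - M) * cartanE6.adjugate) i j) (hsing : (P12 M).det = 0) :
    Iso6 cartanE6 M :=
  ⟨cartanE6_symm, cartanE6_diag, cartanE6_even, cartanE6_pos, cartanE6_conn, det_cartanE6, hiso,
    hfin, hdisc, hsing⟩

variable (H : Iso6 cartanE6 M)
include H

theorem isom_pow (k : ℕ) (x y : Fin 6 → ℤ) :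
    dotProduct ((M ^ k).mulVec x) (cartanE6.mulVec ((M ^ k).mulVec y))
      = dotProduct x (cartanE6.mulVec y) := by
  conv_rhs => rw [← H.pow_iso k]
  rw [← mulVec_mulVec, ← mulVec_mulVec, dotProduct_mulVec x, ← mulVec_transpose, transpose_transpose]

theorem norm_pow {v : Fin 6 → ℤ} (hv : dotProduct v (cartanE6.mulVec v) = 2) (k : ℕ) :
    dotProduct ((M ^ k).mulVec v) (cartanE6.mulVec ((M ^ k).mulVec v)) = 2 := by
  rw [isom_pow H, hv]

theorem exists_mixed : ∃ v, dotProduct v (cartanE6.mulVec v) = 2 ∧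
    (P3 M).mulVec v ≠ 0 ∧ (P12 M).mulVec v ≠ 0 := by
  have hn : ∀ i : Fin 6, dotProduct (Pi.single i (1 : ℤ)) (cartanE6.mulVec (Pi.single i 1)) = 2 :=
    fun i => by simp [cartanE6_diag i]
  by_contra hne
  push Not at hne
  have hP : P12 M = 0 := Matrix.ext_of_mulVec_single fun i => by
    rw [hne _ (hn i) (H.norm_two_not_ker (hn i)), zero_mulVec]
  have h6 : M ^ 6 = -1 := by
    have e : M ^ 6 + 1 = (M ^ 2 + 1) * P12 M := by rw [P12]; noncomm_ring
    rw [hP, Matrix.mul_zero] at e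
    exact eq_neg_of_add_eq_zero_left e
  have hfac : (1 - M) * (1 + M + M ^ 2 + M ^ 3 + M ^ 4 + M ^ 5)
      = (2 : ℤ) • (1 : Matrix (Fin 6) (Fin 6) ℤ) := by
    have e : (1 - M) * (1 + M + M ^ 2 + M ^ 3 + M ^ 4 + M ^ 5) = 1 - M ^ 6 := by noncomm_ring
    rw [e, h6, two_smul, sub_neg_eq_add]
  have hd := congrArg Matrix.det hfac
  rw [det_mul, det_smul, det_one, Fintype.card_fin] at hd
  have h1 := H.det_twist6 1
  rw [one_smul] at h1
  rw [h1] at hd
  norm_num at hd
  omega

/-- The eigenvector modulo `r` is regular. -/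
theorem regular {q : ℕ} {r : ℕ} [hr : Fact r.Prime] (hr13 : 13 ≤ r)
    (hrq : (r : ℤ) ∣ (q : ℤ) ^ 4 - (q : ℤ) ^ 2 + 1) {b : Fin 6 → ℤ} (hb : ∃ j, ¬ (r : ℤ) ∣ b j)
    (hMb : ∀ j, (r : ℤ) ∣ (q : ℤ) * b j - M.mulVec b j)
    {v : Fin 6 → ℤ} (hv : dotProduct v (cartanE6.mulVec v) = 2) :
    ¬ (r : ℤ) ∣ dotProduct v (cartanE6.mulVec b) := by
  intro hdiv
  have hp : Prime (r : ℤ) := Nat.prime_iff_prime_int.1 hr.out
  have hq0 : ¬ (r : ℤ) ∣ (q : ℤ) := fun h => by
    have h1 : (r : ℤ) ∣ 1 := by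
      have h2 : (r : ℤ) ∣ (q : ℤ) ^ 4 - (q : ℤ) ^ 2 :=
        dvd_sub (dvd_pow h (by norm_num)) (dvd_pow h (by norm_num))
      simpa using dvd_sub hrq h2
    exact hp.not_dvd_one h1
  have hb3 : ¬ (r : ℤ) ∣ (q : ℤ) ^ 2 + (q : ℤ) + 1 := fun h => by
    have h2 : (r : ℤ) ∣ 2 * (q : ℤ) ^ 2 := by
      have e : (2 : ℤ) * (q : ℤ) ^ 2 = ((q : ℤ) ^ 2 - q + 1) * ((q : ℤ) ^ 2 + q + 1)
          - ((q : ℤ) ^ 4 - (q : ℤ) ^ 2 + 1) := by ring
      rw [e]
      exact dvd_sub (dvd_mul_of_dvd_right h _) hrq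
    rcases hp.dvd_or_dvd h2 with h | h
    · have := Nat.le_of_dvd (by norm_num) ((Int.natCast_dvd_natCast (n := 2)).1 h); omega
    · exact hq0 (hp.dvd_of_dvd_pow h)
  -- pairings along the orbit
  have hstep : ∀ x : Fin 6 → ℤ, (r : ℤ) ∣ (q : ℤ) * dotProduct (M.mulVec x) (cartanE6.mulVec b)
      - dotProduct x (cartanE6.mulVec b) := fun x => by
    have e : (q : ℤ) * dotProduct (M.mulVec x) (cartanE6.mulVec b) - dotProduct x (cartanE6.mulVec b)
        = dotProduct (M.mulVec x) (cartanE6.mulVec ((q : ℤ) • b - M.mulVec b)) := by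
      rw [mulVec_sub, dotProduct_sub, mulVec_smul, dotProduct_smul, smul_eq_mul, H.isom]
    rw [e]
    exact Finset.dvd_sum fun i _ => dvd_mul_of_dvd_right
      (dvd_mulVec cartanE6 (v := (q : ℤ) • b - M.mulVec b) (fun j => by simpa using hMb j) i) _
  have horb : ∀ k : ℕ, (r : ℤ) ∣ dotProduct ((M ^ k).mulVec v) (cartanE6.mulVec b) := by
    intro k
    induction k with
    | zero => simpa using hdiv
    | succ k ih =>
      rw [pow_succ', ← mulVec_mulVec]
      have := dvd_add (hstep ((M ^ k).mulVec v)) ih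
      rw [sub_add_cancel] at this
      exact (hp.dvd_or_dvd this).resolve_left hq0
  obtain ⟨L, hL0, hLn, hLd⟩ : ∃ L : Matrix (Fin 6) (Fin 6) ℤ, L.det ≠ 0 ∧
      (∀ j, dotProduct (fun i => L i j) (cartanE6.mulVec fun i => L i j) = 2) ∧
      ∀ j, (r : ℤ) ∣ dotProduct (fun i => L i j) (cartanE6.mulVec b) := by
    by_cases h12 : (P12 M).mulVec v = 0
    · obtain ⟨y, hy, -, hy12⟩ := exists_mixed H
      set L : Matrix (Fin 6) (Fin 6) ℤ := Matrix.of fun i j => Iso6.mixed M v y j i with hLdef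
      have hv0 : v ≠ 0 := fun h => by rw [h] at hv; simp at hv
      have hL0 : L.det ≠ 0 := H.mixed_det hv0 h12 hy12
      have hcol : ∀ j, (fun i => L i j) = Iso6.mixed M v y j := fun j => rfl
      have hnorm : ∀ j, dotProduct (fun i => L i j) (cartanE6.mulVec fun i => L i j) = 2 := by
        intro j
        rw [hcol]
        fin_cases j
        · exact hv
        · exact (H.isom v v).trans hv
        · exact norm_pow H hv 2
        · exact norm_pow H hv 3
        · exact hy
        · exact (H.isom y y).trans hy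
      refine ⟨L, hL0, hnorm, ?_⟩
      have hL4 := det_le_four L hnorm
      set c := L.adjugate.mulVec ((P3 M).mulVec y) with hc
      have hcsum : ∑ k, c k • Iso6.mixed M v y k = L.det • (P3 M).mulVec y := by
        rw [show ∑ k, c k • Iso6.mixed M v y k = L.mulVec c from ?_, hc, mulVec_mulVec, mul_adjugate,
          smul_mulVec, one_mulVec]
        funext i
        simp only [Finset.sum_apply, Pi.smul_apply, smul_eq_mul, mulVec, dotProduct, L, Matrix.of_apply]
        exact Finset.sum_congr rfl fun j _ => mul_comm _ _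
      obtain ⟨h4, h5⟩ := H.mixed_coeff h12 hy12 hcsum (by
        rw [mulVec_smul, mulVec_mulVec, H.CH, zero_mulVec, smul_zero])
      have hP3 : (r : ℤ) ∣ L.det * dotProduct ((P3 M).mulVec y) (cartanE6.mulVec b) := by
        rw [← smul_eq_mul, ← smul_dotProduct, ← hcsum, Fin.sum_univ_six, h4, h5]
        simp only [zero_smul, add_zero, add_dotProduct, smul_dotProduct, smul_eq_mul]
        refine dvd_add (dvd_add (dvd_add ?_ ?_) ?_) ?_ <;> refine dvd_mul_of_dvd_right ?_ _
        · exact hdiv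
        · exact by simpa [Iso6.mixed] using horb 1
        · exact horb 2
        · exact horb 3
      have hdetr : ¬ (r : ℤ) ∣ L.det := fun h => by
        have := Nat.le_of_dvd (Int.natAbs_pos.2 hL0) (Int.natCast_dvd.1 h)
        omega
      have hP3' := (hp.dvd_or_dvd hP3).resolve_left hdetr
      rw [P3, add_mulVec, add_mulVec, one_mulVec, sq, ← mulVec_mulVec, add_dotProduct,
        add_dotProduct] at hP3'
      have h1 := hstep y
      have h2 := hstep (M.mulVec y)
      set t0 := dotProduct y (cartanE6.mulVec b)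
      set t1 := dotProduct (M.mulVec y) (cartanE6.mulVec b)
      set t2 := dotProduct (M.mulVec (M.mulVec y)) (cartanE6.mulVec b)
      have hx : (r : ℤ) ∣ ((q : ℤ) ^ 2 + (q : ℤ) + 1) * t0 := by
        have e : ((q : ℤ) ^ 2 + (q : ℤ) + 1) * t0 = (q : ℤ) ^ 2 * (t2 + t1 + t0)
            - ((q : ℤ) * ((q : ℤ) * t2 - t1) + ((q : ℤ) + 1) * ((q : ℤ) * t1 - t0)) := by ring
        rw [e]
        exact dvd_sub (dvd_mul_of_dvd_right hP3' _)
          (dvd_add (dvd_mul_of_dvd_right h2 _) (dvd_mul_of_dvd_right h1 _))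
      have ht0 : (r : ℤ) ∣ t0 := (hp.dvd_or_dvd hx).resolve_left hb3
      have ht1 : (r : ℤ) ∣ t1 := by
        have := dvd_add h1 ht0
        rw [sub_add_cancel] at this
        exact (hp.dvd_or_dvd this).resolve_left hq0
      intro j
      rw [hcol]
      fin_cases j
      · exact hdiv
      · exact by simpa [Iso6.mixed] using horb 1
      · exact horb 2
      · exact horb 3
      · exact ht0
      · exact ht1
    · exact ⟨_, H.orbit_det (H.norm_two_not_ker hv) h12, fun j => norm_pow H hv j,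
        fun j => horb j⟩
  obtain ⟨j, hj⟩ := hb
  have h4 := det_le_four L hLn
  rcases hp.dvd_or_dvd (dvd_of_basis L hLd j) with h | h
  · rcases hp.dvd_or_dvd h with h | h
    · have := Nat.le_of_dvd (by norm_num) ((Int.natCast_dvd_natCast (n := 3)).1 h); omega
    · have := Nat.le_of_dvd (Int.natAbs_pos.2 hL0) (Int.natCast_dvd.1 h); omega
  · exact hj h

/-- The quotient by the twisted endomorphism has no noncyclic torsion away from six. -/
theorem torsion_cyclic (q : ℤ) {l : ℕ} (hl : l.Prime) (hl5 : 5 ≤ l) :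
    ∃ f : Fin 6 → ℤ, ∀ (m : ℤ) (a : Fin 6 → ℤ),
      (∀ j, m ∣ (q • (1 : Matrix (Fin 6) (Fin 6) ℤ) - M).mulVec a j) →
      (∀ j, m ∣ (l : ℤ) * a j) → m ∣ dotProduct f a → ∀ j, m ∣ a j := by
  obtain ⟨v, hv, hv3, hv12⟩ := exists_mixed H
  set w := (M ^ 5).mulVec v with hw
  refine ⟨cartanE6.mulVec w, fun m a hB hla hfa j => ?_⟩
  rw [dotProduct_comm, cartanE6_comm] at hfa
  have hk : ∀ k : ℕ, ∀ i, m ∣ (M ^ k).mulVec a i - q ^ k * a i := by
    intro k
    induction k with
    | zero => intro i; simp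
    | succ k ih =>
      intro i
      have e : (M ^ (k + 1)).mulVec a i - q ^ (k + 1) * a i
          = M.mulVec ((M ^ k).mulVec a - q ^ k • a) i
            - q ^ k * (q • (1 : Matrix (Fin 6) (Fin 6) ℤ) - M).mulVec a i := by
        rw [pow_succ' M, ← mulVec_mulVec, mulVec_sub, mulVec_smul, sub_mulVec, smul_mulVec,
          one_mulVec]
        simp only [Pi.sub_apply, Pi.smul_apply, smul_eq_mul]
        ring
      rw [e]
      exact dvd_sub (dvd_mulVec M (fun i => by simpa using ih i) i) (dvd_mul_of_dvd_right (hB i) _)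
  have hcols : ∀ j : Fin 6, m ∣ dotProduct ((M ^ (j : ℕ)).mulVec v) (cartanE6.mulVec a) := by
    intro j
    set k := 5 - (j : ℕ)
    have h5 : (M ^ k).mulVec ((M ^ (j : ℕ)).mulVec v) = w := by
      rw [hw, mulVec_mulVec, ← pow_add]
      congr 2
      have := j.isLt
      omega
    have e : dotProduct ((M ^ (j : ℕ)).mulVec v) (cartanE6.mulVec a)
        = dotProduct w (cartanE6.mulVec ((M ^ k).mulVec a - q ^ k • a))
          + q ^ k * dotProduct w (cartanE6.mulVec a) := by
      rw [mulVec_sub, dotProduct_sub, mulVec_smul, dotProduct_smul, smul_eq_mul, sub_add_cancel,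
        ← h5, isom_pow H]
    rw [e]
    exact dvd_add (Finset.dvd_sum fun i _ => dvd_mul_of_dvd_right
      (dvd_mulVec cartanE6 (fun i => by simpa using hk k i) i) _) (dvd_mul_of_dvd_right hfa _)
  set L : Matrix (Fin 6) (Fin 6) ℤ := Matrix.of fun i j => (M ^ (j : ℕ)).mulVec v i with hL
  have hL0 : L.det ≠ 0 := H.orbit_det hv3 hv12
  have h4 : L.det.natAbs ≤ 4 := det_le_four L fun j => norm_pow H hv j
  have hd := dvd_of_basis L (a := a) hcols j
  have hcop : IsCoprime ((3 : ℤ) * L.det) (l : ℤ) := by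
    refine ((Nat.prime_iff_prime_int.1 hl).coprime_iff_not_dvd.2 fun h => ?_).symm
    rcases (Nat.prime_iff_prime_int.1 hl).dvd_or_dvd h with h | h
    · have := Nat.le_of_dvd (by norm_num) ((Int.natCast_dvd_natCast (n := 3)).1 h); omega
    · have := Nat.le_of_dvd (Int.natAbs_pos.2 hL0) (Int.natCast_dvd.1 h); omega
  obtain ⟨u, s, hus⟩ := hcop
  have e : a j = u * (3 * L.det * a j) + s * ((l : ℤ) * a j) := by
    rw [← mul_assoc, ← mul_assoc s, ← add_mul, hus, one_mul]
  rw [e]
  exact dvd_add (dvd_mul_of_dvd_right hd _) (dvd_mul_of_dvd_right (hla j) _)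

end Cfsg.Agent.Chevalley.TwTorus.Sc
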