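import Cfsg.Agent.Chevalley.TwTorus.Sc.Fixed
import Cfsg.Agent.Chevalley.TwTorus.Field
import Cfsg.Agent.H38.St.Centre

/-!
Steinberg's group as a framed group: functoriality in the field and Frobenius maps.
-/
set_option autoImplicit false
set_option linter.style.haveILetI false
set_option linter.unusedSectionVars false

namespace Cfsg.Agent.Chevalley.TwTorus.Sc

open Cfsg.Lie Cfsg.Lie.ChevalleyDatum Cfsg.Agent.H37 Cfsg.Agent.H38.St

variable {D : ChevalleyDatum} {F E : Type*} [Field F] [Field E]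

/-- The free generators under a field homomorphism. -/
def mapFree (f : F →+* E) : FreeGroup (Fin D.nroots × F) →* FreeGroup (Fin D.nroots × E) :=
  FreeGroup.map fun p => (p.1, f p.2)

theorem mapFree_stX (f : F →+* E) (r : ℕ) (t : F) :
    mapFree f (D.stX r t) = D.stX r (f t) := by
  by_cases h : r < D.nroots
  · simp [stX, h, mapFree]
  · simp [stX, h]

theorem mapFree_stWord (f : F →+* E) (w : List (ℕ × F)) :
    mapFree f (D.stWord w) = D.stWord (w.map fun p => (p.1, f p.2)) := by
  rw [stWord, map_list_prod, stWord, List.map_map, List.map_map]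
  congr 1
  exact List.map_congr_left fun p _ => mapFree_stX f p.1 p.2

theorem map_commWord (f : F →+* E) (r s : ℕ) (t u : F) :
    (D.commWord F r s t u).map (fun p => (p.1, f p.2)) = D.commWord E r s (f t) (f u) := by
  rw [commWord, commWord, List.map_map]
  exact List.map_congr_left fun c _ => by simp

theorem map_hWord (f : F →+* E) (r : ℕ) (t : F) :
    (D.hWord r t).map (fun p => (p.1, f p.2)) = D.hWord r (f t) := by
  simp [hWord, nWord]

theorem mapFree_rels (f : F →+* E) {x : FreeGroup (Fin D.nroots × F)}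
    (hx : x ∈ D.steinbergRels F) : mapFree f x ∈ D.steinbergRels E := by
  rcases hx with (⟨r, t, u, hr, rfl⟩ | ⟨r, s, t, u, hr, hs, h1, h2, rfl⟩) | ⟨r, t, u, hr, ht, hu, rfl⟩
  · refine Or.inl (Or.inl ⟨r, f t, f u, hr, ?_⟩)
    simp only [map_mul, map_inv, mapFree_stX, map_add]
  · refine Or.inl (Or.inr ⟨r, s, f t, f u, hr, hs, h1, h2, ?_⟩)
    simp only [map_mul, map_inv, mapFree_stX, mapFree_stWord, map_commWord]
  · refine Or.inr ⟨r, f t, f u, hr, (map_ne_zero f).2 ht, (map_ne_zero f).2 hu, ?_⟩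
    simp only [map_mul, map_inv, stH, mapFree_stWord, map_hWord]

/-- Steinberg's group in a field homomorphism. -/
def mapSt (f : F →+* E) : D.SteinbergGroup F →* D.SteinbergGroup E :=
  PresentedGroup.toGroup
    (f := fun p => PresentedGroup.mk (D.steinbergRels E) (FreeGroup.of (p.1, f p.2)))
    fun x hx => by
      have e : FreeGroup.lift (fun p : Fin D.nroots × F =>
          PresentedGroup.mk (D.steinbergRels E) (FreeGroup.of (p.1, f p.2)))
          = (PresentedGroup.mk (D.steinbergRels E)).comp (mapFree f) :=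
        FreeGroup.ext_hom _ _ fun p => by simp [mapFree]
      rw [e, MonoidHom.comp_apply]
      exact PresentedGroup.one_of_mem (mapFree_rels f hx)

theorem mapSt_of (f : F →+* E) (p : Fin D.nroots × F) :
    mapSt f (PresentedGroup.of p : D.SteinbergGroup F) = PresentedGroup.of (p.1, f p.2) :=
  PresentedGroup.toGroup.of _

theorem mapSt_stGen (f : F →+* E) (r : ℕ) (t : F) :
    mapSt f (D.stGen F r t) = D.stGen E r (f t) := by
  by_cases h : r < D.nroots
  · rw [stGen, stGen, stX, dif_pos h, stX, dif_pos h]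
    exact mapSt_of f _
  · simp [stGen, stX, h]

theorem mapSt_comp {K : Type*} [Field K] (f : F →+* E) (g : E →+* K) (x : D.SteinbergGroup F) :
    mapSt g (mapSt f x) = mapSt (g.comp f) x := by
  rw [← MonoidHom.comp_apply]
  congr 1
  refine PresentedGroup.ext fun p => ?_
  rw [MonoidHom.comp_apply, mapSt_of, mapSt_of, mapSt_of]
  rfl

theorem mapSt_id (x : D.SteinbergGroup F) : mapSt (RingHom.id F) x = x := by
  conv_rhs => rw [← MonoidHom.id_apply (D.SteinbergGroup F) x]
  congr 1
  exact PresentedGroup.ext fun p => by rw [mapSt_of]; rfl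

/-- A field automorphism on Steinberg's group. -/
def fieldSt (σ : E ≃+* E) : MulAut (D.SteinbergGroup E) where
  toFun := mapSt σ.toRingHom
  invFun := mapSt σ.symm.toRingHom
  left_inv x := by
    rw [mapSt_comp]
    exact (congrArg (fun h => mapSt (D := D) h x) (RingHom.ext σ.symm_apply_apply)).trans (mapSt_id x)
  right_inv x := by
    rw [mapSt_comp]
    exact (congrArg (fun h => mapSt (D := D) h x) (RingHom.ext σ.apply_symm_apply)).trans (mapSt_id x)
  map_mul' := map_mul _

section

variable (C : Chevalley.Cert D) (hA : Adj D)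

theorem mapSt_N (f : F →+* E) (r : ℕ) (t : F) :
    mapSt f ((stFull C hA (F := F)).N r t) = (stFull C hA (F := E)).N r (f t) := by
  show mapSt f (D.stGen F r t * D.stGen F (D.neg r) (-t⁻¹) * D.stGen F r t)
    = D.stGen E r (f t) * D.stGen E (D.neg r) (-(f t)⁻¹) * D.stGen E r (f t)
  rw [map_mul, map_mul, mapSt_stGen, mapSt_stGen, map_neg, map_inv₀]

theorem mapSt_hS (f : F →+* E) (i : ℕ) (t : F) :
    mapSt f ((stFull C hA (F := F)).hS i t) = (stFull C hA (F := E)).hS i (f t) := by
  rw [Full.hS, Full.hS, map_mul, mapSt_N, mapSt_N, map_neg, map_one]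

theorem rho_mapSt (f : F →+* E) (x : D.SteinbergGroup F) :
    (stFull C hA (F := E)).rho (mapSt f x)
      = Matrix.GeneralLinearGroup.map f ((stFull C hA (F := F)).rho x) := by
  rw [← MonoidHom.comp_apply, ← MonoidHom.comp_apply]
  congr 1
  refine PresentedGroup.ext fun p => ?_
  obtain ⟨⟨r, hr⟩, t⟩ := p
  have e : (PresentedGroup.of (⟨r, hr⟩, t) : D.SteinbergGroup F) = D.stGen F r t := by
    simp [stGen, stX, hr]; rfl
  rw [e, MonoidHom.comp_apply, MonoidHom.comp_apply, mapSt_stGen]
  refine ((stFull C hA (F := E)).rho_f (r := r) hr (f t)).trans ?_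
  exact (C.map_xU f r t).symm.trans
    (congrArg (Matrix.GeneralLinearGroup.map f) ((stFull C hA (F := F)).rho_f (r := r) hr t).symm)

end

/-- Reindexing of torus parameters. -/
def reidx (Q : H37.Chev.Data D E) : (Fin Q.X.n → Eˣ) →* (Fin D.rank → Eˣ) where
  toFun c m := c ⟨m.val, Q.rank_eq ▸ m.isLt⟩
  map_one' := rfl
  map_mul' _ _ := rfl

theorem reidx_single (Q : H37.Chev.Data D E) (m : Fin Q.X.n) (t : Eˣ) :
    reidx Q (Pi.mulSingle m t) = Pi.mulSingle (M := fun _ => Eˣ) ⟨m.val, Q.rank_eq.symm ▸ m.isLt⟩ t := by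
  funext j
  by_cases h : j.val = m.val
  · have h1 : (⟨j.val, Q.rank_eq ▸ j.isLt⟩ : Fin Q.X.n) = m := Fin.ext h
    have h2 : j = ⟨m.val, Q.rank_eq.symm ▸ m.isLt⟩ := Fin.ext h
    show Pi.mulSingle (M := fun _ => Eˣ) m t _ = _
    rw [h1, h2, Pi.mulSingle_eq_same, Pi.mulSingle_eq_same]
  · show Pi.mulSingle (M := fun _ => Eˣ) m t _ = _
    rw [Pi.mulSingle_eq_of_ne fun e => h (congrArg Fin.val e),
      Pi.mulSingle_eq_of_ne fun e => h (congrArg Fin.val e)]

theorem reidx_injective (Q : H37.Chev.Data D E) : Function.Injective (reidx Q) := fun a b h =>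
  funext fun j => congrFun h ⟨j.val, Q.rank_eq.symm ▸ j.isLt⟩

theorem reidx_surjective (Q : H37.Chev.Data D E) : Function.Surjective (reidx Q) := fun c =>
  ⟨fun j => c ⟨j.val, Q.rank_eq.symm ▸ j.isLt⟩, rfl⟩

/-- Steinberg's group over a finite field with the centre of full order is framed. -/
theorem exists_frame [Finite E] (Q : H37.Chev.Data D E) (hrel : RelOK Q.K Q.X.M) (hA : Adj D)
    (hker : Nat.card (Subgroup.center (D.SteinbergGroup E))
      = Nat.card {c : Fin D.rank → Eˣ // torus D E c = 1}) :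
    ∃ Fr : Frame Q (D.SteinbergGroup E),
      Fr.S = (stFull Q.K hA).rsys hrel st_gen ∧
      ∀ (m : Fin Q.X.n) (t : Eˣ),
        Fr.tor (Pi.mulSingle m t) = (stFull Q.K hA (F := E)).hS m (t : E) := by
  obtain ⟨η, hη, hρ, hr⟩ := exists_eta (F := E) Q.K hA
  set S := stFull Q.K hA (F := E)
  have hinj : Function.Injective η := by
    have hcen : ∀ c : {c : Fin D.rank → Eˣ // torus D E c = 1},
        η c.1 ∈ Subgroup.center (D.SteinbergGroup E) := fun c => by
      refine S.ker_central hrel st_gen ?_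
      rw [← MonoidHom.comp_apply, hρ]
      exact c.2
    have hsurj : Function.Surjective fun c : {c : Fin D.rank → Eˣ // torus D E c = 1} =>
        (⟨η c.1, hcen c⟩ : Subgroup.center (D.SteinbergGroup E)) := fun g => by
      obtain ⟨h1, h2⟩ := center_le_eta Q hrel hA g.2
      rw [← hr] at h2
      obtain ⟨c, hc⟩ := h2
      refine ⟨⟨c, ?_⟩, Subtype.ext hc⟩
      rw [← hρ, MonoidHom.comp_apply, hc, h1]
    have hpos : 0 < Nat.card {c : Fin D.rank → Eˣ // torus D E c = 1} := by
      haveI : Nonempty {c : Fin D.rank → Eˣ // torus D E c = 1} := ⟨⟨1, map_one _⟩⟩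
      exact Nat.card_pos
    haveI : Finite (Subgroup.center (D.SteinbergGroup E)) :=
      Nat.finite_of_card_ne_zero (by omega)
    have hb := (Nat.bijective_iff_surjective_and_card _).2 ⟨hsurj, hker.symm⟩
    rw [injective_iff_map_eq_one]
    intro c hc
    have h1 : torus D E c = 1 := by rw [← hρ, MonoidHom.comp_apply, hc, map_one]
    exact congrArg Subtype.val (hb.1 (a₁ := ⟨c, h1⟩) (a₂ := ⟨1, map_one _⟩)
      (Subtype.ext (by show η c = η 1; rw [hc, map_one])))
  have hsing : ∀ (m : Fin Q.X.n) (t : Eˣ),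
      η.comp (reidx Q) (Pi.mulSingle m t) = S.hS m (t : E) := fun m t => by
    rw [MonoidHom.comp_apply, reidx_single, hη]
  refine ⟨⟨S.rsys hrel st_gen, η.comp (reidx Q), fun a b h => reidx_injective Q (hinj h), ?_,
    fun s hs u v h => S.f_eq_of_rho hs (congrArg S.rho h), ?_, ?_⟩, rfl, hsing⟩
  · show (η.comp (reidx Q)).range = S.H
    rw [← hr]
    refine le_antisymm ?_ ?_
    · rintro _ ⟨c, rfl⟩
      exact ⟨_, rfl⟩
    · rintro _ ⟨c, rfl⟩
      obtain ⟨d, rfl⟩ := reidx_surjective Q c
      exact ⟨d, rfl⟩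
  · intro m t s hs u
    rw [hsing]
    show S.hS m (t : E) * S.f s u * (S.hS m (t : E))⁻¹ = S.f s _
    rw [S.hS_conj (Q.rank_eq.symm ▸ m.isLt) hs t.ne_zero, Units.val_zpow_eq_zpow_val]
  · intro i m t
    rw [map_mul, map_inv, hsing, hsing]
    show S.nn i * S.hS m (t : E) * (S.nn i)⁻¹ = _
    rw [S.nn_conj_hS (Q.rank_eq.symm ▸ i.isLt) (Q.rank_eq.symm ▸ m.isLt) t.ne_zero,
      Units.val_zpow_eq_zpow_val]
    have h1 : S.hS m (t : E) ∈ (η.comp (reidx Q)).range := ⟨_, hsing m t⟩
    have h2 : S.hS i ((t : E) ^ D.cartan m (D.simple i)) ∈ (η.comp (reidx Q)).range :=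
      ⟨_, (hsing i (t ^ D.cartan m (D.simple i))).trans (by rw [Units.val_zpow_eq_zpow_val])⟩
    obtain ⟨a, ha⟩ := h1
    obtain ⟨b, hb⟩ := h2
    rw [← ha, ← hb, ← map_inv, ← map_mul, ← map_mul, mul_comm]

section Frob

variable {p : ℕ} [Fact p.Prime] [Finite F] [CharP F p] {d : ℕ} [NeZero d]

/-- The Frobenius lift on Steinberg's group. -/
theorem frobLift (Q : H37.Chev.Data D (FiniteField.Extension F p d)) (hA : Adj D)
    (hrel : RelOK Q.K Q.X.M) (Fr : Frame Q (D.SteinbergGroup (FiniteField.Extension F p d)))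
    (hS : Fr.S = (stFull Q.K hA).rsys hrel st_gen)
    (htor : ∀ (m : Fin Q.X.n) (t : (FiniteField.Extension F p d)ˣ),
      Fr.tor (Pi.mulSingle m t) = (stFull Q.K hA (F := FiniteField.Extension F p d)).hS m t) :
    FrobLift Fr (mapSt (algebraMap F (FiniteField.Extension F p d))) (fieldSt (frobE F p d))
      (frobE F p d) := by
  classical
  set E := FiniteField.Extension F p d
  set f := algebraMap F E
  have hx : ∀ r t, Fr.S.x r t = D.stGen E r t := fun r t => by rw [hS]; rfl
  refine ⟨fun r hr t => ?_, fun c => ?_, fun g => ?_, fun r hr t ht => ?_, fun c hc => ?_, fun i => ?_⟩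
  · rw [hx, hx]
    exact mapSt_stGen _ r t
  · let P : (Fin Q.X.n → Eˣ) →* (Fin Q.X.n → Eˣ) :=
      { toFun := fun c m => Units.map (frobE F p d : E →* E) (c m)
        map_one' := funext fun m => map_one _
        map_mul' := fun a b => funext fun m => map_mul _ _ _ }
    have h : (fieldSt (D := D) (frobE F p d)).toMonoidHom.comp Fr.tor = Fr.tor.comp P := by
      refine hom_ext_pi _ _ fun m t => ?_
      have hP : P (Pi.mulSingle m t) = Pi.mulSingle m (Units.map (frobE F p d : E →* E) t) :=
        funext fun j => Pi.apply_mulSingle (fun _ => Units.map (frobE F p d : E →* E))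
          (fun _ => map_one _) m t j
      rw [MonoidHom.comp_apply, MonoidHom.comp_apply, hP, htor, htor]
      exact mapSt_hS Q.K hA _ m (t : E)
    exact DFunLike.congr_fun h c
  · show mapSt _ (mapSt f g) = mapSt f g
    rw [mapSt_comp]
    refine congrArg (fun h => mapSt (D := D) h g) (RingHom.ext fun a => ?_)
    exact frobE_eq_iff.2 ⟨a, rfl⟩
  · obtain ⟨a, rfl⟩ := frobE_eq_iff.1 ht
    exact ⟨D.stGen F r a, by rw [hx, mapSt_stGen]⟩
  · choose a ha using fun m => frobE_eq_iff.1 (hc m)
    refine Subgroup.pi_mem_of_mulSingle_mem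
      (H := (mapSt (D := D) f).range.comap Fr.tor) c fun m => ?_
    rw [Subgroup.mem_comap, htor]
    exact ⟨(stFull Q.K hA (F := F)).hS m (a m), by rw [mapSt_hS, ha]⟩
  · refine ⟨(stFull Q.K hA (F := F)).N (D.simple i) 1, ?_⟩
    rw [mapSt_N, map_one, hS]
    rfl

end Frob

/-- Extension of scalars is injective on Steinberg's group. -/
theorem mapSt_injective [Finite F] (Q : H37.Chev.Data D F) (hrel : RelOK Q.K Q.X.M) (hA : Adj D)
    (QE : H37.Chev.Data D E) (f : F →+* E) (Fr : Frame QE (D.SteinbergGroup E))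
    (htor : ∀ (m : Fin QE.X.n) (t : Eˣ),
      Fr.tor (Pi.mulSingle m t) = (stFull Q.K hA (F := E)).hS m t) :
    Function.Injective (mapSt (D := D) f) := by
  classical
  obtain ⟨η, hη, hρ, hr⟩ := exists_eta (F := F) Q.K hA
  rw [injective_iff_map_eq_one]
  intro x hx
  have h1 : (stFull Q.K hA (F := F)).rho x = 1 := by
    have h := rho_mapSt Q.K hA f x
    rw [hx, map_one] at h
    refine Units.ext (Matrix.map_injective f.injective ?_)
    exact (congrArg Units.val h).symm.trans (by simp)
  have hmem := (stFull Q.K hA (F := F)).ker_le hrel st_gen h1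
  rw [← hr] at hmem
  obtain ⟨c, rfl⟩ := hmem
  let P : (Fin D.rank → Fˣ) →* (Fin QE.X.n → Eˣ) :=
    { toFun := fun c m => Units.map (f : F →* E) (c ⟨m.val, QE.rank_eq.symm ▸ m.isLt⟩)
      map_one' := funext fun m => map_one _
      map_mul' := fun a b => funext fun m => map_mul _ _ _ }
  have h : (mapSt (D := D) f).comp η = Fr.tor.comp P := by
    refine hom_ext_pi _ _ fun m t => ?_
    have hP : P (Pi.mulSingle m t)
        = Pi.mulSingle ⟨m.val, QE.rank_eq ▸ m.isLt⟩ (Units.map (f : F →* E) t) := by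
      funext j
      by_cases hj : j.val = m.val
      · have h1 : (⟨j.val, QE.rank_eq.symm ▸ j.isLt⟩ : Fin D.rank) = m := Fin.ext hj
        have h2 : j = ⟨m.val, QE.rank_eq ▸ m.isLt⟩ := Fin.ext hj
        show Units.map _ _ = _
        rw [h1, h2, Pi.mulSingle_eq_same, Pi.mulSingle_eq_same]
      · show Units.map _ _ = _
        rw [Pi.mulSingle_eq_of_ne fun e => hj (congrArg Fin.val e),
          Pi.mulSingle_eq_of_ne fun e => hj (congrArg Fin.val e), map_one]
    rw [MonoidHom.comp_apply, MonoidHom.comp_apply, hP, htor, hη, mapSt_hS]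
    rfl
  have h2 : Fr.tor (P c) = 1 := by rw [← MonoidHom.comp_apply, ← h, MonoidHom.comp_apply, hx]
  have hc : c = 1 := by
    funext m
    have h3 := congrFun (Fr.tor_inj (h2.trans (map_one _).symm)) ⟨m.val, QE.rank_eq ▸ m.isLt⟩
    exact Units.ext (f.injective (by simpa [P] using congrArg Units.val h3))
  rw [hc, map_one]

/-- Steinberg's group over a finite field is finite. -/
theorem finite_st [Finite F] (Q : H37.Chev.Data D F) (hrel : RelOK Q.K Q.X.M) (hA : Adj D) :
    Finite (D.SteinbergGroup F) := by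
  obtain ⟨θ, -, hker, -⟩ := steinberg Q hrel hA
  obtain ⟨η, -, -, hr⟩ := exists_eta (F := F) Q.K hA
  haveI : Finite θ.ker := by
    rw [hker]
    have hle : Subgroup.center (D.SteinbergGroup F) ≤ η.range := fun g hg => by
      rw [hr]; exact (center_le_eta Q hrel hA hg).2
    haveI : Finite η.range := Finite.of_surjective _ η.rangeRestrict_surjective
    exact Finite.of_injective _ (Subgroup.inclusion_injective hle)
  haveI : Finite (D.SteinbergGroup F ⧸ θ.ker) :=
    Finite.of_injective _ (QuotientGroup.kerLift_injective θ)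
  exact Finite.of_equiv _ (Subgroup.groupEquivQuotientProdSubgroup (s := θ.ker)).symm

end Cfsg.Agent.Chevalley.TwTorus.Sc
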