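import Cfsg.Agent.Chevalley.TwTorus.Sc.Gen
import Cfsg.Agent.Chevalley.TwTorus.Sc.St
import Cfsg.Agent.Chevalley.TwTorus.Sc.E6Lat
import Cfsg.Agent.Chevalley.TwTorus.Cases
import Cfsg.Agent.H38.St.CentreData
import Cfsg.Agent.H37.Weyl.Summary

/-!
The self-centralising cyclic torus of the group of type E6.
-/
set_option autoImplicit false
set_option maxRecDepth 100000
set_option linter.style.haveILetI false
set_option linter.unusedSectionVars false

namespace Cfsg.Agent.Chevalley.TwTorus.Sc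

open Cfsg.Lie Cfsg.Agent.H37 Cfsg.Agent.H37.RootSys Cfsg.Agent.Chevalley.Weights Matrix Polynomial

section Weyl

variable {F : Type*} [Field F]

theorem cartanT_E6 : cartanT (H37.Chev.dataE6 F) = cartanE6 := by
  refine Matrix.ext fun i m => ?_
  show chevE6.cartan m.val (chevE6.simple i.val) = _
  have h := of_decide_eq_true ((show ∀ i m : Fin 6,
    decide (chevE6.cartan m.val (chevE6.simple i.val) = cartanE6 i m) = true by decide +kernel) i m)
  exact h

theorem detT_E6 : (cartanT (H37.Chev.dataE6 F)).det ≠ 0 := by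
  rw [cartanT_E6]
  exact ne_of_eq_of_ne det_cartanE6 (by norm_num)

theorem pr_simple (i : Fin 6) (a : Fin 6 → ℤ) :
    pr 6 chevE6 (chevE6.simple i) a = cartanE6.mulVec a i := by
  rw [← cartanT_E6 (F := ZMod 2)]
  exact Finset.sum_congr rfl fun m _ => mul_comm _ _

theorem pr_root {s : ℕ} (hs : s < chevE6.nroots) (a : Fin 6 → ℤ) :
    pr 6 chevE6 s a = dotProduct (fun i : Fin 6 => E6.tab.cf chevE6 s i) (cartanE6.mulVec a) := by
  refine (pr_cartan (H37.Chev.dataE6 (ZMod 2)) hs a).trans ?_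
  exact Finset.sum_congr rfl fun i _ => congrArg (E6.tab.cf chevE6 s i * ·) (pr_simple i a)

theorem root_norm : ∀ s : Fin 72, (fun i : Fin 6 => E6.tab.cf chevE6 s.val i) ⬝ᵥ
    cartanE6.mulVec (fun i : Fin 6 => E6.tab.cf chevE6 s.val i) = 2 := by decide +kernel

/-- The matrix of a Weyl group element on the coroot lattice. -/
noncomputable def wm (w : (H37.Chev.dataE6 F).X.M.Group) : Matrix (Fin 6) (Fin 6) ℤ :=
  wmat (H37.Chev.dataE6 F) w

theorem wm_mul (v w : (H37.Chev.dataE6 F).X.M.Group) : wm (v * w) = wm v * wm w :=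
  wmat_mul _ detT_E6 v w

theorem wm_one : wm (1 : (H37.Chev.dataE6 F).X.M.Group) = 1 := wmat_one _ detT_E6

theorem wm_simple (i : Fin 6) (a : Fin 6 → ℤ) :
    (wm ((H37.Chev.dataE6 F).X.M.simple i)).mulVec a
      = a - cartanE6.mulVec a i • Pi.single i 1 := by
  rw [← pr_simple]
  exact Frame.wmat_simple detT_E6 i a

theorem wm_iso (w : (H37.Chev.dataE6 F).X.M.Group) :
    (wm w).transpose * cartanE6 * wm w = cartanE6 := by
  refine Sys.gen_induction (M := (H37.Chev.dataE6 F).X.M)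
    (p := fun w => (wm w).transpose * cartanE6 * wm w = cartanE6) ?_ ?_ w
  · rw [wm_one]; simp
  · intro (i : Fin 6) w ih
    have hi : (wm ((H37.Chev.dataE6 F).X.M.simple i)).transpose * cartanE6 *
        wm ((H37.Chev.dataE6 F).X.M.simple i) = cartanE6 := by
      refine Matrix.ext fun k l => ?_
      set S := wm ((H37.Chev.dataE6 F).X.M.simple i) with hS
      have e : (S.transpose * cartanE6 * S) k l
          = dotProduct (S.mulVec (Pi.single k 1)) (cartanE6.mulVec (S.mulVec (Pi.single l 1))) := by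
        rw [Matrix.mul_assoc, Matrix.mul_apply]
        refine Finset.sum_congr rfl fun m _ => ?_
        rw [Matrix.mulVec_mulVec, mulVec_single_one, mulVec_single_one]
        rfl
      have hS' : ∀ a : Fin 6 → ℤ, S.mulVec a = a - cartanE6.mulVec a i • Pi.single i 1 :=
        fun a => wm_simple i a
      rw [e, hS', hS', mulVec_sub, mulVec_smul, dotProduct_sub, sub_dotProduct,
        sub_dotProduct, smul_dotProduct, smul_dotProduct, dotProduct_smul, dotProduct_smul,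
        single_one_dotProduct, single_one_dotProduct, single_one_dotProduct, mulVec_single_one,
        mulVec_single_one, mulVec_single_one]
      simp only [Matrix.col_apply, smul_eq_mul, single_one_dotProduct, cartanE6_diag]
      have hs : cartanE6 k i = cartanE6 i k := by
        rw [← transpose_apply cartanE6, cartanE6_symm]
      rw [hs]
      ring
    rw [wm_mul, transpose_mul]
    calc (wm w).transpose * (wm ((H37.Chev.dataE6 F).X.M.simple i)).transpose * cartanE6 *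
          (wm ((H37.Chev.dataE6 F).X.M.simple i) * wm w)
        = (wm w).transpose * ((wm ((H37.Chev.dataE6 F).X.M.simple i)).transpose * cartanE6 *
          wm ((H37.Chev.dataE6 F).X.M.simple i)) * wm w := by simp only [Matrix.mul_assoc]
      _ = _ := by rw [hi, ih]

theorem wm_disc (w : (H37.Chev.dataE6 F).X.M.Group) (i j : Fin 6) :
    (3 : ℤ) ∣ ((1 - wm w) * cartanE6.adjugate) i j := by
  revert i j
  refine Sys.gen_induction (M := (H37.Chev.dataE6 F).X.M)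
    (p := fun w => ∀ i j, (3 : ℤ) ∣ ((1 - wm w) * cartanE6.adjugate) i j) ?_ ?_ w
  · intro i j; rw [wm_one]; simp
  · intro (k : Fin 6) w ih i j
    set S := wm ((H37.Chev.dataE6 F).X.M.simple k) with hS
    have e : (1 - wm ((H37.Chev.dataE6 F).X.M.simple k * w)) * cartanE6.adjugate
        = (1 - S) * cartanE6.adjugate + S * ((1 - wm w) * cartanE6.adjugate) := by
      rw [wm_mul, ← hS]; noncomm_ring
    rw [e, Matrix.add_apply]
    refine dvd_add ?_ ?_
    swap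
    · rw [Matrix.mul_apply]
      exact Finset.dvd_sum fun l _ => dvd_mul_of_dvd_right (ih l j) _
    have e2 : ((1 - S) * cartanE6.adjugate) i j
        = ((1 - S).mulVec (cartanE6.adjugate.mulVec (Pi.single j 1))) i := by
      rw [mulVec_mulVec, mulVec_single_one]; rfl
    have hS' : ∀ a : Fin 6 → ℤ, S.mulVec a = a - cartanE6.mulVec a k • Pi.single k 1 :=
      fun a => wm_simple k a
    rw [e2, sub_mulVec, one_mulVec, hS', sub_sub_cancel, mulVec_mulVec, mul_adjugate,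
      det_cartanE6, smul_mulVec, one_mulVec, Pi.smul_apply, Pi.smul_apply, smul_eq_mul, smul_eq_mul]
    exact dvd_mul_of_dvd_left (dvd_mul_right _ _) _

end Weyl

theorem card_weyl {F : Type*} [Field F] :
    Nat.card (H37.Chev.dataE6 F).X.M.Group = [2, 5, 6, 8, 9, 12].prod := by
  haveI := (H37.Chev.dataE6 F).X.good.finite
  haveI : Fintype (H37.Chev.dataE6 F).X.M.Group := Fintype.ofFinite _
  have h1 := (H37.Chev.dataE6 F).X.good.sum_pow_inv_eq (R := ℕ) 1
    (show (H37.Chev.dataE6 F).X.C.degCheck _ [2, 5, 6, 8, 9, 12] = true from Weyl.degsE6)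
  simpa [Nat.card_eq_fintype_card] using h1

theorem relE6 {F : Type*} [Field F] :
    H38.St.RelOK (H37.Chev.dataE6 F).K (H37.Chev.dataE6 F).X.M :=
  H38.St.relOK_of_check _ H37.Chev.typeE6.M (w := Chevalley.E6.tab.w) rfl (by decide +kernel)

theorem adjE6 : H38.St.Adj chevE6 := H38.St.adj_of_check (by decide +kernel)

theorem center_E6 (F : Type*) [Field F] [Finite F] :
    Nat.card (Subgroup.center (chevE6.SteinbergGroup F)) = Nat.gcd 3 (Nat.card F - 1) := by
  haveI : Fintype F := Fintype.ofFinite F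
  rw [Nat.card_eq_fintype_card (α := F)]
  exact H38.St.center_card (H37.Chev.dataE6 F) Chevalley.E7.cert relE6 adjE6 H38.CT.chkE6 rfl
    H38.St.embE6_ok H38.St.subE6_ok H38.St.latE6 H38.St.latE6_ok

theorem center_eq_ker (F : Type*) [Field F] [Finite F] :
    Nat.card (Subgroup.center (chevE6.SteinbergGroup F))
      = Nat.card {c : Fin chevE6.rank → Fˣ // torus chevE6 F c = 1} := by
  haveI : Fintype F := Fintype.ofFinite F
  rw [center_E6, Nat.card_congr (H38.St.latE6.kerEquiv (H37.Chev.dataE6 F).K H38.St.latE6_ok)]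
  have h3 : Nat.card {z : Fˣ // z ^ H38.St.latE6.d = 1}
      = Nat.card (powMonoidHom H38.St.latE6.d : Fˣ →* Fˣ).ker :=
    Nat.card_congr (Equiv.subtypeEquivRight fun z => Iff.rfl)
  rw [h3, IsCyclic.card_powMonoidHom_ker, Nat.card_units, Nat.gcd_comm 3]
  rfl

theorem E6_values {q : ℕ} (hq : 1 < q) :
    q ^ 2 ≤ q ^ 4 ∧ (((q ^ 4 - q ^ 2 + 1) * (q ^ 2 + q + 1) : ℕ) : ℤ)
      = ((q : ℤ) ^ 4 - (q : ℤ) ^ 2 + 1) * ((q : ℤ) ^ 2 + q + 1) := by
  have h : q ^ 2 ≤ q ^ 4 := Nat.pow_le_pow_right (by omega) (by norm_num)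
  refine ⟨h, ?_⟩
  push_cast [Nat.cast_sub h]
  ring

theorem E6_small (q : ℕ) (hq : 1 < q) {l : ℕ} (hl : l.Prime)
    (h : l * l ∣ (q ^ 4 - q ^ 2 + 1) * (q ^ 2 + q + 1)) : 5 ≤ l := by
  have hne : ∀ k : ℕ, (∀ x : ZMod k, (x ^ 4 - x ^ 2 + 1) * (x ^ 2 + x + 1) ≠ 0) →
      ¬ k ∣ (q ^ 4 - q ^ 2 + 1) * (q ^ 2 + q + 1) := fun k hk hd => hk (q : ZMod k) (by
    have := (ZMod.intCast_zmod_eq_zero_iff_dvd _ k).2 (Int.natCast_dvd_natCast.2 hd)
    rw [(E6_values hq).2] at this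
    push_cast at this
    exact this)
  by_contra hlt
  have h2 := hl.two_le
  interval_cases l
  · exact hne 2 (by decide) (dvd_trans (by norm_num) h)
  · exact hne 9 (by decide) h
  · norm_num at hl

theorem hlat_E6 {F : Type*} [Field F] {q r : ℕ} [Fact r.Prime] (hq1 : 1 < q) (hr12 : ¬ r ∣ 12)
    (hr13 : 13 ≤ r) (hdegs : ¬ r ∣ [2, 5, 6, 8, 9, 12].prod) (hre : r ∣ q ^ 4 - q ^ 2 + 1)
    (w : (H37.Chev.dataE6 F).X.M.Group) (b : Fin (H37.Chev.dataE6 F).X.n → ℤ)
    (hb : ∃ j, ¬ (r : ℤ) ∣ b j)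
    (hMb : ∀ j, (r : ℤ) ∣ (q : ℤ) * b j - (wmat (H37.Chev.dataE6 F) w⁻¹).mulVec b j) :
    (∀ s, s < chevE6.nroots → ¬ (r : ℤ) ∣ pr (H37.Chev.dataE6 F).X.n chevE6 s b) ∧
      ((q : ℤ) • (1 : Matrix (Fin (H37.Chev.dataE6 F).X.n) (Fin (H37.Chev.dataE6 F).X.n) ℤ)
          - wmat (H37.Chev.dataE6 F) w⁻¹).det
        = (((q ^ 4 - q ^ 2 + 1) * (q ^ 2 + q + 1) : ℕ) : ℤ) ∧
      ∀ l : ℕ, l.Prime → l * l ∣ (q ^ 4 - q ^ 2 + 1) * (q ^ 2 + q + 1) →
        ∃ f : Fin (H37.Chev.dataE6 F).X.n → ℤ, ∀ (m : ℤ) (a : Fin (H37.Chev.dataE6 F).X.n → ℤ),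
        (∀ j, m ∣ ((q : ℤ) • (1 : Matrix (Fin (H37.Chev.dataE6 F).X.n)
          (Fin (H37.Chev.dataE6 F).X.n) ℤ) - wmat (H37.Chev.dataE6 F) w⁻¹).mulVec a j) →
        (∀ j, m ∣ (l : ℤ) * a j) → m ∣ dotProduct f a → ∀ j, m ∣ a j := by
  classical
  haveI := (H37.Chev.dataE6 F).X.good.finite
  obtain ⟨hle, hcastE⟩ := E6_values hq1
  have hcast : ((q ^ 4 - q ^ 2 + 1 : ℕ) : ℤ) = (q : ℤ) ^ 4 - (q : ℤ) ^ 2 + 1 := by
    push_cast [Nat.cast_sub hle]; rfl
  have he : (cyclotomic 12 ℤ).eval (q : ℤ) = ((q ^ 4 - q ^ 2 + 1 : ℕ) : ℤ) := by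
    rw [hcast, cyclotomic_twelve]; simp
  have hrq : (r : ℤ) ∣ (q : ℤ) ^ 4 - (q : ℤ) ^ 2 + 1 := by
    rw [← hcast]; exact_mod_cast hre
  have hrW : ¬ r ∣ Nat.card (H37.Chev.dataE6 F).X.M.Group := by rw [card_weyl]; exact hdegs
  have hpow : wm w⁻¹ ^ Nat.card (H37.Chev.dataE6 F).X.M.Group = 1 := by
    exact ((wmat_pow _ detT_E6 w⁻¹ _).symm.trans (congrArg _ pow_card_eq_one')).trans
      (wmat_one _ detT_E6)
  have hsing : (P12 (wm w⁻¹)).det = 0 := by
    rw [← aeval_twelve]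
    exact det_cyclo_eq_zero (wm w⁻¹) Nat.card_pos hpow hrW hr12 (q := (q : ℤ))
      (by rw [he]; exact_mod_cast hre) hb fun j => dvd_sub_comm.1 (hMb j)
  have H := iso6 (wm_iso w⁻¹) ⟨_, Nat.card_pos, hpow⟩ (wm_disc w⁻¹) hsing
  refine ⟨fun s hs => ?_, ?_, fun l hl hll => torsion_cyclic H (q : ℤ) hl (E6_small q hq1 hl hll)⟩
  · rw [show pr (H37.Chev.dataE6 F).X.n chevE6 s b = _ from pr_root hs b]
    exact regular H hr13 hrq hb hMb (root_norm ⟨s, hs⟩)
  · exact (H.det_twist6 (q : ℤ)).trans hcastE.symm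

theorem hstab_E6 {F : Type*} [Field F] {r : ℕ} [Fact r.Prime]
    (hdegs : ¬ r ∣ [2, 5, 6, 8, 9, 12].prod) (b : Fin (H37.Chev.dataE6 F).X.n → ℤ)
    (hb : ∀ s, s < chevE6.nroots → ¬ (r : ℤ) ∣ pr (H37.Chev.dataE6 F).X.n chevE6 s b)
    (v : (H37.Chev.dataE6 F).X.M.Group)
    (hv : ∀ j, (r : ℤ) ∣ (wmat (H37.Chev.dataE6 F) v).mulVec b j - b j) : v = 1 := by
  refine stab_eq_one (H37.Chev.dataE6 (ZMod 2)) ?_ detT_E6 (r := r) ?_ (b := b) hb (w := v) hv
  · have h := H37.Chev.diag_E6 (ZMod 2)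
    rw [show Nat.card (ZMod 2) = 2 from Nat.card_zmod 2] at h ⊢
    simpa using h
  · rw [card_weyl]; exact hdegs

/-- The cyclic torus of E6 with its coordinates. -/
theorem exists_data_E6 {F : Type*} [Field F] [Fintype F] {q : ℕ} (hq : Fintype.card F = q)
    (p : ℕ) [Fact p.Prime] [CharP F p] :
    ∃ (Fr : Frame (H37.Chev.dataE6 (FiniteField.Extension F p 12))
        (chevE6.SteinbergGroup (FiniteField.Extension F p 12))) (r : ℕ),
      r.Prime ∧ 13 ≤ r ∧ r ∣ q ^ 4 - q ^ 2 + 1 ∧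
      Fr.S = (H38.St.stFull (H37.Chev.dataE6 (FiniteField.Extension F p 12)).K adjE6).rsys relE6
        H38.St.st_gen ∧
      (∀ (m : Fin (H37.Chev.dataE6 (FiniteField.Extension F p 12)).X.n)
          (t : (FiniteField.Extension F p 12)ˣ),
        Fr.tor (Pi.mulSingle m t) = (H38.St.stFull (H37.Chev.dataE6 (FiniteField.Extension F p 12)).K
          adjE6 (F := FiniteField.Extension F p 12)).hS m (t : FiniteField.Extension F p 12)) ∧
      ∃ (x : chevE6.SteinbergGroup F) (ω : (FiniteField.Extension F p 12)ˣ)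
        (g : chevE6.SteinbergGroup (FiniteField.Extension F p 12))
        (h₀ : chevE6.SteinbergGroup (FiniteField.Extension F p 12))
        (w : (H37.Chev.dataE6 (FiniteField.Extension F p 12)).X.M.Group)
        (b : Fin 6 → ℤ),
      (∀ u, u ∈ Subgroup.zpowers ω) ∧ orderOf x = r ∧
      IsCyclic ↥(Subgroup.centralizer ({x} : Set (chevE6.SteinbergGroup F))) ∧
      Nat.card ↥(Subgroup.centralizer ({x} : Set (chevE6.SteinbergGroup F)))
        = (q ^ 4 - q ^ 2 + 1) * (q ^ 2 + q + 1) ∧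
      h₀ ∈ Fr.S.H ∧
      g⁻¹ * fieldSt (frobE F p 12) g = h₀ * Fr.S.rep w ∧ (∃ j, ¬ (r : ℤ) ∣ b j) ∧
      (∀ j, (r : ℤ) ∣ (q : ℤ) * b j - (wm w⁻¹).mulVec b j) ∧
      mapSt (algebraMap F (FiniteField.Extension F p 12)) x = g * Fr.tor (powTuple ω
        ((((Nat.card (FiniteField.Extension F p 12) - 1) / r : ℕ) : ℤ) • b)) * g⁻¹ ∧
      ∀ z ∈ Subgroup.centralizer ({x} : Set (chevE6.SteinbergGroup F)), ∃ a : Fin 6 → ℤ,
        mapSt (algebraMap F (FiniteField.Extension F p 12)) z = g * Fr.tor (powTuple ω a) * g⁻¹ ∧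
        ∀ j, ((Nat.card (FiniteField.Extension F p 12) - 1 : ℕ) : ℤ) ∣
          (q : ℤ) * a j - (wm w⁻¹).mulVec a j := by
  classical
  haveI : NeZero (12 : ℕ) := ⟨by norm_num⟩
  have hq1 : 1 < q := hq ▸ Fintype.one_lt_card
  obtain ⟨hle, hcastE⟩ := E6_values hq1
  have hcast : ((q ^ 4 - q ^ 2 + 1 : ℕ) : ℤ) = (q : ℤ) ^ 4 - (q : ℤ) ^ 2 + 1 := by
    push_cast [Nat.cast_sub hle]; rfl
  have he : (cyclotomic 12 ℤ).eval (q : ℤ) = ((q ^ 4 - q ^ 2 + 1 : ℕ) : ℤ) := by
    rw [hcast, cyclotomic_twelve]; simp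
  have hne : ∀ k : ℕ, (∀ x : ZMod k, x ^ 4 - x ^ 2 + 1 ≠ 0) → ¬ k ∣ q ^ 4 - q ^ 2 + 1 :=
    fun k hk hd => hk (q : ZMod k) (by
      have := (ZMod.intCast_zmod_eq_zero_iff_dvd _ k).2 (Int.natCast_dvd_natCast.2 hd)
      rw [hcast] at this
      push_cast at this
      exact this)
  have h16 : q ^ 2 < q ^ 4 := Nat.pow_lt_pow_right hq1 (by norm_num)
  obtain ⟨r, hr, hre⟩ := Nat.exists_prime_and_dvd (show q ^ 4 - q ^ 2 + 1 ≠ 1 by omega)
  haveI := Fact.mk hr
  have hr12 : ¬ r ∣ 12 := fun h => by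
    rcases (Nat.Prime.dvd_mul hr).1 (show r ∣ 2 ^ 2 * 3 from h) with h | h
    · exact hne 2 (by decide)
        ((Nat.prime_dvd_prime_iff_eq hr Nat.prime_two).1 (hr.dvd_of_dvd_pow h) ▸ hre)
    · exact hne 3 (by decide) ((Nat.prime_dvd_prime_iff_eq hr Nat.prime_three).1 h ▸ hre)
  have hr13 : 13 ≤ r := by
    have h := modEq_one_of_dvd (by norm_num) he hre hr12
    have := hr.two_le
    have := Nat.le_of_dvd (by omega) h
    omega
  have hdegs : ¬ r ∣ [2, 5, 6, 8, 9, 12].prod := fun h => by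
    rcases (Nat.Prime.dvd_mul hr).1 (show r ∣ 2 ^ 7 * (3 ^ 4 * 5) from by simpa using h) with h | h
    · have := Nat.le_of_dvd (by norm_num) (hr.dvd_of_dvd_pow h); omega
    rcases (Nat.Prime.dvd_mul hr).1 h with h | h
    · have := Nat.le_of_dvd (by norm_num) (hr.dvd_of_dvd_pow h); omega
    · have := Nat.le_of_dvd (by norm_num) h; omega
  have hfac : (q ^ 4 - q ^ 2 + 1) * (q ^ 2 + q + 1) ∣ q ^ 12 - 1 := by
    rw [← Int.natCast_dvd_natCast, hcastE, Nat.cast_sub (Nat.one_le_pow _ _ (by omega))]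
    exact ⟨((q : ℤ) ^ 2 + 1) * ((q : ℤ) + 1) * ((q : ℤ) ^ 2 - q + 1) * ((q : ℤ) - 1),
      by push_cast; ring⟩
  set E := FiniteField.Extension F p 12
  haveI : Fintype E := Fintype.ofFinite E
  haveI : Finite (chevE6.SteinbergGroup E) := finite_st (H37.Chev.dataE6 E) relE6 adjE6
  haveI : Finite (chevE6.SteinbergGroup F) := finite_st (H37.Chev.dataE6 F) relE6 adjE6
  obtain ⟨Fr, hS, htor⟩ := exists_frame (H37.Chev.dataE6 E) relE6 adjE6 (center_eq_ker E)
  have A := frobLift (F := F) (H37.Chev.dataE6 E) adjE6 relE6 Fr hS htor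
  have hι : Function.Injective (mapSt (D := chevE6) (algebraMap F E)) :=
    mapSt_injective (H37.Chev.dataE6 F) relE6 adjE6 (H37.Chev.dataE6 E) _ Fr htor
  have hrG : r ∣ Nat.card (chevE6.SteinbergGroup F) := by
    obtain ⟨θ, hsurj, -, -⟩ := H38.St.steinberg (H37.Chev.dataE6 F) relE6 adjE6
    refine dvd_trans ?_ (Subgroup.card_dvd_of_surjective θ hsurj)
    have hcard := (H37.Chev.dataE6 F).card_group (degs := [2, 5, 6, 8, 9, 12]) Weyl.degsE6 rfl
      (H37.Chev.diag_E6 F)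
    have h12 : r ∣ q ^ 36 * ([2, 5, 6, 8, 9, 12].map fun e => q ^ e - 1).prod :=
      dvd_mul_of_dvd_right ((hre.trans (dvd_trans (dvd_mul_right _ _) hfac)).trans
        (List.dvd_prod (a := q ^ 12 - 1) (by simp))) _
    have h' : r ∣ Nat.gcd 3 (q - 1) * Nat.card ↥(chevE6.group F) := by
      rw [Nat.card_eq_fintype_card (α := F), hq] at hcard
      rw [hcard]
      exact h12
    refine ((Nat.Prime.dvd_mul hr).1 h').resolve_left fun h => ?_
    have := Nat.le_of_dvd (Nat.gcd_pos_of_pos_left _ (by norm_num)) h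
    have := Nat.gcd_le_left (n := q - 1) (show 0 < 3 by norm_num)
    omega
  have hrW : ¬ r ∣ Nat.card (H37.Chev.dataE6 E).X.M.Group := by rw [card_weyl]; exact hdegs
  haveI := (H37.Chev.dataE6 E).X.good.finite
  obtain ⟨x, ω, g, h₀, w, b, hd⟩ := exists_cyclic_data (Q := H37.Chev.dataE6 E)
    (G := chevE6.SteinbergGroup E) (G₀ := chevE6.SteinbergGroup F) hq Fr hι A
    (degs := [2, 5, 6, 8, 9, 12])
    Weyl.degsE6 detT_E6 (e := (q ^ 4 - q ^ 2 + 1) * (q ^ 2 + q + 1)) hfac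
    (r := r) (dvd_mul_of_dvd_left hre _) hdegs hrG
    (hlat_E6 hq1 hr12 hr13 hdegs hre) (hstab_E6 hdegs)
  exact ⟨Fr, r, hr, hr13, hre, hS, htor, x, ω, g, h₀, w, b, hd⟩

/-- The cyclic centraliser in Steinberg's group. -/
theorem exists_cyclic_st {F : Type*} [Field F] [Fintype F] {q : ℕ} (hq : Fintype.card F = q) :
    ∃ r : ℕ, r.Prime ∧ 3 < r ∧ ∃ x : chevE6.SteinbergGroup F, orderOf x = r ∧
      IsCyclic ↥(Subgroup.centralizer ({x} : Set (chevE6.SteinbergGroup F))) ∧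
      Nat.card ↥(Subgroup.centralizer ({x} : Set (chevE6.SteinbergGroup F)))
        = (q ^ 4 - q ^ 2 + 1) * (q ^ 2 + q + 1) := by
  obtain ⟨p, hp⟩ := CharP.exists F
  haveI : Fact p.Prime := ⟨CharP.char_is_prime F p⟩
  obtain ⟨-, r, hr, hr13, -, -, -, x, -, -, -, -, -, -, hx, hc, he, -⟩ := exists_data_E6 hq p
  exact ⟨r, hr, by omega, x, hx, hc, he⟩

theorem exists_torus_E6 {F : Type*} [Field F] [Fintype F] (q : ℕ) (hq : Fintype.card F = q) :
    ∃ H : Subgroup ↥(chevE6.group F), IsCyclic ↥H ∧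
      Nat.card ↥H = (q ^ 4 - q ^ 2 + 1) * (q ^ 2 + q + 1) / Nat.gcd 3 (q - 1) ∧
      Subgroup.centralizer (H : Set ↥(chevE6.group F)) = H := by
  classical
  obtain ⟨r, hr, hr3, x, hx, hcyc, hcard⟩ := exists_cyclic_st hq
  haveI : Finite (chevE6.SteinbergGroup F) := finite_st (H37.Chev.dataE6 F) relE6 adjE6
  obtain ⟨θ, hsurj, hker, -⟩ := H38.St.steinberg (H37.Chev.dataE6 F) relE6 adjE6
  set C := Subgroup.centralizer ({x} : Set (chevE6.SteinbergGroup F)) with hC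
  haveI : IsCyclic ↥C := hcyc
  have hzC : θ.ker ≤ C := by
    rw [hker]
    exact Subgroup.center_le_centralizer _
  have hxC : x ∈ C := Subgroup.mem_centralizer_singleton_iff.2 rfl
  have hg : Nat.card θ.ker = Nat.gcd 3 (q - 1) := by
    rw [hker, center_E6, Nat.card_eq_fintype_card, hq]
  refine ⟨C.map θ, ?_, ?_, le_antisymm ?_ ?_⟩
  · exact isCyclic_of_surjective (θ.subgroupMap C) (θ.subgroupMap_surjective C)
  · have h1 : Nat.card ↥(C.map θ) * Nat.gcd 3 (q - 1)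
        = (q ^ 4 - q ^ 2 + 1) * (q ^ 2 + q + 1) := by
      rw [← hcard, ← hg]
      have hr' : (θ.comp C.subtype).range = C.map θ := by
        rw [MonoidHom.range_comp, Subgroup.range_subtype]
      have hk : Nat.card (θ.comp C.subtype).ker = Nat.card θ.ker :=
        Nat.card_congr (Equiv.ofBijective
          (fun z : (θ.comp C.subtype).ker => (⟨((z : C) : chevE6.SteinbergGroup F), z.2⟩ : θ.ker))
          ⟨fun a b h => Subtype.ext (Subtype.ext (congrArg Subtype.val h :)),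
            fun z => ⟨⟨⟨z.1, hzC z.2⟩, z.2⟩, rfl⟩⟩)
      rw [← hk, ← hr', ← Subgroup.index_ker, Subgroup.index_mul_card]
    rw [← h1, Nat.mul_div_cancel _ (Nat.gcd_pos_of_pos_left _ (by norm_num))]
  · intro z hz
    obtain ⟨y, rfl⟩ := hsurj z
    have hcomm := Subgroup.mem_centralizer_iff.1 hz (θ x) ⟨x, hxC, rfl⟩
    set c := y * x * y⁻¹ * x⁻¹ with hc
    have hcker : c ∈ θ.ker := by
      rw [MonoidHom.mem_ker, hc, map_mul, map_mul, map_mul, map_inv, map_inv, ← hcomm]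
      group
    have hcen : c ∈ Subgroup.center (chevE6.SteinbergGroup F) := hker ▸ hcker
    have hcr : c ^ r = 1 := by
      have e : (y * x * y⁻¹) ^ r = (c * x) ^ r := by rw [hc, inv_mul_cancel_right]
      have hcx : Commute c x := (Subgroup.mem_center_iff.1 hcen x).symm
      rw [conj_pow, hcx.mul_pow, ← hx, pow_orderOf_eq_one, mul_one, mul_inv_cancel, mul_one] at e
      rw [hx] at e
      exact e.symm
    have hc3 : c ^ Nat.gcd 3 (q - 1) = 1 := by
      have : (⟨c, hcker⟩ : θ.ker) ^ Nat.card θ.ker = 1 := pow_card_eq_one'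
      rw [hg] at this
      exact congrArg Subtype.val this
    have hcop : Nat.Coprime r (Nat.gcd 3 (q - 1)) :=
      (Nat.Prime.coprime_iff_not_dvd hr).2 fun h => by
        have := Nat.le_of_dvd (by norm_num) (h.trans (Nat.gcd_dvd_left 3 (q - 1)))
        omega
    have hc1 : c = 1 := orderOf_eq_one_iff.1 (Nat.eq_one_of_dvd_coprimes hcop
      (orderOf_dvd_of_pow_eq_one hcr) (orderOf_dvd_of_pow_eq_one hc3))
    refine ⟨y, Subgroup.mem_centralizer_singleton_iff.2 ?_, rfl⟩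
    exact mul_inv_eq_iff_eq_mul.1 (mul_inv_eq_one.1 hc1)
  · rintro _ ⟨a, ha, rfl⟩
    refine Subgroup.mem_centralizer_iff.2 ?_
    rintro _ ⟨b, hb, rfl⟩
    rw [← map_mul, ← map_mul]
    exact congrArg θ (congrArg Subtype.val
      (IsCyclic.commGroup.mul_comm (⟨b, hb⟩ : C) ⟨a, ha⟩))

end Cfsg.Agent.Chevalley.TwTorus.Sc
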