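import Cfsg.Agent.Chevalley.TwTorus.Sc.E7Twist

/-!
The self-centralising cyclic torus of the group of type E7.
-/
set_option autoImplicit false
set_option maxRecDepth 100000
set_option linter.style.haveILetI false
set_option linter.unusedSectionVars false
set_option maxHeartbeats 1600000

namespace Cfsg.Agent.Chevalley.TwTorus.Sc

open Cfsg.Lie Cfsg.Lie.ChevalleyDatum Cfsg.Agent.H37 Cfsg.Agent.H37.RootSys
open Cfsg.Agent.Chevalley.Weights Matrix Polynomial

theorem card_weyl7 {F : Type*} [Field F] :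
    Nat.card (H37.Chev.dataE7 F).X.M.Group = [2, 6, 8, 10, 12, 14, 18].prod := by
  haveI := (H37.Chev.dataE7 F).X.good.finite
  haveI : Fintype (H37.Chev.dataE7 F).X.M.Group := Fintype.ofFinite _
  have h1 := (H37.Chev.dataE7 F).X.good.sum_pow_inv_eq (R := ℕ) 1
    (show (H37.Chev.dataE7 F).X.C.degCheck _ [2, 6, 8, 10, 12, 14, 18] = true from Weyl.degsE7)
  simpa [Nat.card_eq_fintype_card] using h1

theorem cancel_q {q : ℕ} {X : ℤ} (k : ℕ) (hk : k ≤ 3)
    (h : (q : ℤ) ^ 3 + 1 ∣ (q : ℤ) ^ k * X) : (q : ℤ) ^ 3 + 1 ∣ X := by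
  have h1 := dvd_mul_of_dvd_right h ((q : ℤ) ^ (3 - k))
  rw [← mul_assoc, ← pow_add, show 3 - k + k = 3 by omega] at h1
  have h2 := dvd_sub (dvd_mul_right ((q : ℤ) ^ 3 + 1) X) h1
  rwa [add_mul, one_mul, add_sub_cancel_left] at h2

theorem arith7 {q : ℕ} (hq : 1 < q) (k l : Fin 3) {ε : ℤ} (hε : ε = 1 ∨ ε = -1)
    (h : (q : ℤ) ^ 3 + 1 ∣ 4 * ((q : ℤ) ^ k.val - ε * (q : ℤ) ^ l.val)) : k = l ∧ ε = 1 := by
  have hqZ : (2 : ℤ) ≤ q := by exact_mod_cast hq
  have h9 : (9 : ℤ) ≤ (q : ℤ) ^ 3 + 1 := by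
    have : (2 : ℤ) ^ 3 ≤ (q : ℤ) ^ 3 := pow_le_pow_left₀ (by norm_num) hqZ 3
    linarith
  have main : ∀ d : ℕ, 1 ≤ d → d ≤ 2 → ∀ ε : ℤ, ε = 1 ∨ ε = -1 →
      ¬ (q : ℤ) ^ 3 + 1 ∣ 4 * (1 - ε * (q : ℤ) ^ d) := by
    intro d hd1 hd2 ε hε hdiv
    by_cases h5 : q < 5
    · interval_cases q <;> interval_cases d <;> rcases hε with rfl | rfl <;>
        norm_num at hdiv
    · have hq5 : (5 : ℤ) ≤ q := by exact_mod_cast (not_lt.1 h5)
      have hsq : (25 : ℤ) ≤ (q : ℤ) ^ 2 := by nlinarith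
      have hcube : 5 * (q : ℤ) ^ 2 ≤ (q : ℤ) ^ 3 := by nlinarith
      have hpd : (q : ℤ) ^ d ≤ (q : ℤ) ^ 2 := pow_le_pow_right₀ (by linarith) hd2
      have hpd1 : (5 : ℤ) ≤ (q : ℤ) ^ d := le_trans hq5 (le_self_pow₀ (by linarith) (by omega))
      rcases hε with rfl | rfl
      · have := Int.le_of_dvd (by linarith) hdiv.neg_right
        linarith
      · have := Int.le_of_dvd (by linarith) hdiv
        linarith
  have hswap : ∀ a b : ℕ, a < b → b ≤ 2 → ∀ ε : ℤ, ε = 1 ∨ ε = -1 →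
      ¬ (q : ℤ) ^ 3 + 1 ∣ 4 * ((q : ℤ) ^ a - ε * (q : ℤ) ^ b) := by
    intro a b hab hb ε hε hdiv
    refine main (b - a) (by omega) (by omega) ε hε (cancel_q a (by omega) ?_)
    have e : (q : ℤ) ^ b = (q : ℤ) ^ a * (q : ℤ) ^ (b - a) := by
      rw [← pow_add, Nat.add_sub_cancel' hab.le]
    rw [e] at hdiv
    convert hdiv using 1
    ring
  rcases lt_trichotomy k.val l.val with hlt | heq | hgt
  · exact absurd h (hswap _ _ hlt (by omega) ε hε)
  · refine ⟨Fin.ext heq, ?_⟩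
    rcases hε with e | e
    · exact e
    · exfalso
      rw [e, heq] at h
      have h8 := cancel_q (q := q) (X := 8) l.val (by omega) (by convert h using 1; ring)
      have := Int.le_of_dvd (by norm_num) h8
      linarith
  · refine absurd ?_ (hswap _ _ hgt (by omega) ε hε)
    have h' := dvd_mul_of_dvd_right h ε
    rcases hε with e | e <;> rw [e] at h' ⊢
    · rw [show 4 * ((q : ℤ) ^ l.val - 1 * (q : ℤ) ^ k.val)
          = -(1 * (4 * ((q : ℤ) ^ k.val - 1 * (q : ℤ) ^ l.val))) by ring, dvd_neg]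
      exact h'
    · rw [show 4 * ((q : ℤ) ^ l.val - -1 * (q : ℤ) ^ k.val)
          = -(-1 * (4 * ((q : ℤ) ^ k.val - -1 * (q : ℤ) ^ l.val))) by ring, dvd_neg]
      exact h' 

/-- A generator of the torus, and two of its elements whose centralisers meet in it. -/
theorem exists_gen_E7 {F : Type*} [Field F] [Fintype F] {q : ℕ} (hq : Fintype.card F = q) :
    ∃ (r : ℕ) (z x y : chevE7.SteinbergGroup F), r.Prime ∧ 13 ≤ r ∧
      x ∈ Subgroup.zpowers z ∧ y ∈ Subgroup.zpowers z ∧ x ^ r = 1 ∧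
      orderOf z = (q ^ 4 - q ^ 2 + 1) * (q ^ 3 + 1) ∧
      ∀ u, u * x = x * u → u * y ^ 2 = y ^ 2 * u → u ∈ Subgroup.zpowers z := by
  classical
  obtain ⟨p, hp⟩ := CharP.exists F
  haveI : Fact p.Prime := ⟨CharP.char_is_prime F p⟩
  haveI : NeZero (12 : ℕ) := ⟨by norm_num⟩
  have hq1 : 1 < q := hq ▸ Fintype.one_lt_card
  obtain ⟨hle, hcast6⟩ := E6_values hq1
  set f12 := q ^ 4 - q ^ 2 + 1 with hf12
  have hcast : (f12 : ℤ) = (q : ℤ) ^ 4 - (q : ℤ) ^ 2 + 1 := by
    rw [hf12]; push_cast [Nat.cast_sub hle]; rfl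
  obtain ⟨Fr6, r, hr, hr13, hre, hS6, ht6, x6, ω, g6, h₀, w6, b, hω, hx6, hcyc, hcard6, hh₀, hg6,
    hb, hMb, hx6T, hall⟩ := exists_data_E6 hq p
  haveI := Fact.mk hr
  set E := FiniteField.Extension F p 12
  haveI : Fintype E := Fintype.ofFinite E
  haveI := (H37.Chev.dataE6 E).X.good.finite
  haveI := (H37.Chev.dataE7 E).X.good.finite
  haveI : Finite (chevE7.SteinbergGroup E) := finite_st (H37.Chev.dataE7 E) relE7 adjE7
  haveI : Finite (chevE7.SteinbergGroup F) := finite_st (H37.Chev.dataE7 F) relE7 adjE7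
  haveI : Finite (chevE6.SteinbergGroup F) := finite_st (H37.Chev.dataE6 F) relE6 adjE6
  obtain ⟨Fr, hS, htor⟩ := exists_frame (H37.Chev.dataE7 E) relE7 adjE7 (center_eq_ker7 E)
  have A := frobLift (F := F) (H37.Chev.dataE7 E) adjE7 relE7 Fr hS htor
  have hι : Function.Injective (mapSt (D := chevE7) (algebraMap F E)) :=
    mapSt_injective (H37.Chev.dataE7 F) relE7 adjE7 (H37.Chev.dataE7 E) _ Fr htor
  have hι6 : Function.Injective (mapSt (D := chevE6) (algebraMap F E)) :=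
    mapSt_injective (H37.Chev.dataE6 F) relE6 adjE6 (H37.Chev.dataE6 E) _ Fr6 ht6
  -- numbers
  have hrq : (r : ℤ) ∣ (q : ℤ) ^ 4 - (q : ℤ) ^ 2 + 1 := by
    rw [← hcast]; exact_mod_cast hre
  have hodd : ¬ 2 ∣ f12 := fun hd => by
    have h2 := (ZMod.intCast_zmod_eq_zero_iff_dvd _ 2).2 (Int.natCast_dvd_natCast.2 hd)
    rw [hcast] at h2
    push_cast at h2
    exact (show ∀ x : ZMod 2, x ^ 4 - x ^ 2 + 1 ≠ 0 by decide) _ h2
  have hcop : Nat.Coprime f12 (q ^ 3 + 1) := Nat.coprime_of_dvd fun l hl h1 h2 => hodd (by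
    have h1' : (l : ℤ) ∣ (f12 : ℤ) := Int.natCast_dvd_natCast.2 h1
    have h2' : (l : ℤ) ∣ ((q ^ 3 + 1 : ℕ) : ℤ) := Int.natCast_dvd_natCast.2 h2
    rw [hcast] at h1'
    push_cast at h2'
    have h3 : (l : ℤ) ∣ 2 := by
      have e : (2 : ℤ) = ((q : ℤ) ^ 2 + 1) * ((q : ℤ) ^ 4 - (q : ℤ) ^ 2 + 1)
          - ((q : ℤ) ^ 3 - 1) * ((q : ℤ) ^ 3 + 1) := by ring
      rw [e]
      exact dvd_sub (dvd_mul_of_dvd_right h1' _) (dvd_mul_of_dvd_right h2' _)
    have := (Nat.prime_dvd_prime_iff_eq hl Nat.prime_two).1 (Int.natCast_dvd_natCast.1 h3)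
    exact this ▸ h1)
  have hr3 : ¬ r ∣ q ^ 3 + 1 := fun h => hr.one_lt.ne' (Nat.eq_one_of_dvd_coprimes hcop hre h)
  have hrW : ¬ r ∣ Nat.card (H37.Chev.dataE7 E).X.M.Group := by
    rw [card_weyl7]
    intro h
    rcases (Nat.Prime.dvd_mul hr).1
      (show r ∣ 2 ^ 10 * (3 ^ 4 * (5 * 7)) from by simpa using h) with h | h
    · have := Nat.le_of_dvd (by norm_num) (hr.dvd_of_dvd_pow h); omega
    rcases (Nat.Prime.dvd_mul hr).1 h with h | h
    · have := Nat.le_of_dvd (by norm_num) (hr.dvd_of_dvd_pow h); omega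
    rcases (Nat.Prime.dvd_mul hr).1 h with h | h
    · have := Nat.le_of_dvd (by norm_num) h; omega
    · have := Nat.le_of_dvd (by norm_num) h; omega
  set m : ℕ := Nat.card E - 1 with hm
  have hEcard : Nat.card E = q ^ 12 := by
    rw [← hq, ← Nat.card_eq_fintype_card]; exact FiniteField.natCard_extension F p 12
  have hmZ : (m : ℤ) = (q : ℤ) ^ 12 - 1 := by
    rw [hm, hEcard, Nat.cast_sub (Nat.one_le_pow _ _ (by omega))]; push_cast; rfl
  have hm0 : (m : ℤ) ≠ 0 := by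
    have h1 : (2 : ℤ) ^ 12 ≤ (q : ℤ) ^ 12 := pow_le_pow_left₀ (by norm_num) (by exact_mod_cast hq1) 12
    omega
  set K : ℤ := ((q : ℤ) ^ 3 - 1) * ((q : ℤ) ^ 6 + 1) with hK
  have hmK : (m : ℤ) = ((q : ℤ) ^ 3 + 1) * K := by rw [hmZ, hK]; ring
  have hK0 : K ≠ 0 := fun h => hm0 (by rw [hmK, h, mul_zero])
  have hq3 : (q : ℤ) ^ 3 + 1 = ((q ^ 3 + 1 : ℕ) : ℤ) := by push_cast; rfl
  have hrm : r ∣ m := by
    refine Int.natCast_dvd_natCast.1 (hrq.trans ⟨((q : ℤ) ^ 2 + 1) * ((q : ℤ) ^ 6 - 1), ?_⟩)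
    rw [hmZ]; ring
  set mr : ℕ := m / r
  have hmr : (m : ℤ) = (r : ℤ) * (mr : ℤ) := by exact_mod_cast (Nat.mul_div_cancel' hrm).symm
  have hmr0 : (mr : ℤ) ≠ 0 := fun h => hm0 (by rw [hmr, h, mul_zero])
  have hdvd : ∀ k : ℤ, (m : ℤ) ∣ (mr : ℤ) * k ↔ (r : ℤ) ∣ k := fun k => by
    rw [hmr, mul_comm (r : ℤ)]; exact Int.mul_dvd_mul_iff_left hmr0
  have hωord : orderOf ω = m := by
    rw [orderOf_eq_card_of_forall_mem_zpowers hω, Nat.card_units]
  have hωz : ∀ k : ℤ, ω ^ k = 1 ↔ (m : ℤ) ∣ k := fun k => by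
    rw [← orderOf_dvd_iff_zpow_eq_one, hωord]
  have hωeq : ∀ k l : ℤ, ω ^ k = ω ^ l ↔ (m : ℤ) ∣ k - l := fun k l => by
    rw [← hωz, _root_.zpow_sub, mul_inv_eq_one]
  -- the Weyl group element
  set M := wm w6⁻¹ with hMdef
  set W := wm w6 with hWdef
  have hMW : M * W = 1 := by rw [← wm_mul, inv_mul_cancel, wm_one]
  have hWM : W * M = 1 := by rw [← wm_mul, mul_inv_cancel, wm_one]
  have hiso : Iso6 cartanE6 M := by
    have hrW6 : ¬ r ∣ Nat.card (H37.Chev.dataE6 E).X.M.Group := by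
      rw [card_weyl]
      intro h
      rcases (Nat.Prime.dvd_mul hr).1 (show r ∣ 2 ^ 7 * (3 ^ 4 * 5) from by simpa using h) with h | h
      · have := Nat.le_of_dvd (by norm_num) (hr.dvd_of_dvd_pow h); omega
      rcases (Nat.Prime.dvd_mul hr).1 h with h | h
      · have := Nat.le_of_dvd (by norm_num) (hr.dvd_of_dvd_pow h); omega
      · have := Nat.le_of_dvd (by norm_num) h; omega
    have hpow : M ^ Nat.card (H37.Chev.dataE6 E).X.M.Group = 1 :=
      ((wmat_pow _ detT_E6 w6⁻¹ _).symm.trans (congrArg _ pow_card_eq_one')).trans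
        (wmat_one _ detT_E6)
    have hsing : (P12 M).det = 0 := by
      rw [← aeval_twelve]
      refine det_cyclo_eq_zero M Nat.card_pos hpow hrW6 ?_ (q := (q : ℤ)) ?_ hb
        fun j => dvd_sub_comm.1 (hMb j)
      · intro h
        have := Nat.le_of_dvd (by norm_num) h
        omega
      · rw [cyclotomic_twelve]; simpa using hrq
    exact iso6 (wm_iso w6⁻¹) ⟨_, Nat.card_pos, hpow⟩ (wm_disc w6⁻¹) hsing
  obtain ⟨w, k₁, hk₁, hrep, hpad, hc⟩ := emb_rep hS6 ht6 hS htor w6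
  have X : Ext6 E w W M := ⟨hiso, hMW, hWM, hpad, hc⟩
  obtain ⟨s, T⟩ := X.exists_tri
  -- the twisted conjugation
  obtain ⟨k₀, hk₀, hk₀'⟩ : ∃ k ∈ Fr.S.H, k = emb E h₀ := by
    obtain ⟨c, hc⟩ := Fr6.exists_tor hh₀
    exact ⟨_, Fr.tor_mem (padU c), (hc ▸ emb_tor ht6 htor c).symm⟩
  have hg : (emb E g6)⁻¹ * fieldSt (frobE F p 12) (emb E g6) = k₀ * k₁ * Fr.S.rep w := by
    show (emb E g6)⁻¹ * mapSt _ (emb E g6) = _
    rw [mapSt_emb, ← map_inv, ← map_mul, mul_assoc, ← hrep, hk₀', ← map_mul]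
    exact congrArg (emb E) hg6
  obtain ⟨g, R, hR, hRR, hφ⟩ := exists_twisted hS A hq1
    (fun x => by rw [frobE_apply, Nat.card_eq_fintype_card, hq]) hEcard fieldSt_frobE_pow hω T
    (mul_mem hk₀ hk₁) hg
  set φ : MulAut (chevE7.SteinbergGroup E) := fieldSt (frobE F p 12)
  set M7 := wm7 w⁻¹
  have hM7 : M7 * wm7 w = 1 := by rw [← wm7_mul, inv_mul_cancel, wm7_one]
  have hM7' : wm7 w * M7 = 1 := by rw [← wm7_mul, mul_inv_cancel, wm7_one]
  set B := (q : ℤ) • (1 : Matrix (Fin 7) (Fin 7) ℤ) - M7 * R with hB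
  set e := f12 * (q ^ 3 + 1) with he
  have hdet : B.det = (e : ℤ) := by
    rw [hB, T.det_twist X hq1 hM7 hR, he]; push_cast [hcast]; rfl
  -- the torus
  let Tor : (Fin 7 → ℤ) → chevE7.SteinbergGroup E := fun a => g * Fr.tor (powTuple ω a) * g⁻¹
  have hptadd : ∀ a a' : Fin 7 → ℤ, Fr.tor (powTuple ω (a + a'))
      = Fr.tor (powTuple ω a) * Fr.tor (powTuple ω a') := fun a a' =>
    (congrArg Fr.tor (funext fun j => _root_.zpow_add ω (a j) (a' j))).trans
      (map_mul Fr.tor (powTuple ω a) (powTuple ω a'))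
  have hTadd : ∀ a a', Tor (a + a') = Tor a * Tor a' := fun a a' => by
    simp only [Tor, hptadd]
    group
  have hT0 : Tor 0 = 1 := by
    have h : Fr.tor (powTuple ω (0 : Fin 7 → ℤ)) = 1 :=
      (congrArg Fr.tor (funext fun j => zpow_zero ω)).trans (map_one Fr.tor)
    simp only [Tor, h, mul_one, mul_inv_cancel]
  have hTeq : ∀ a a', Tor a = Tor a' ↔ ∀ j, (m : ℤ) ∣ a j - a' j := fun a a' => by
    simp only [Tor, mul_left_inj, mul_right_inj]
    constructor
    · intro h j; exact (hωeq _ _).1 (congrFun (Fr.tor_inj h) j)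
    · intro h; exact congrArg Fr.tor (funext fun j => (hωeq _ _).2 (h j))
  have hTpow : ∀ (a : Fin 7 → ℤ) (k : ℕ), Tor a ^ k = 1 ↔ ∀ j, (m : ℤ) ∣ (k : ℤ) * a j := by
    intro a k
    have h : ∀ k : ℕ, Tor a ^ k = Tor ((k : ℤ) • a) := by
      intro k
      induction k with
      | zero => rw [pow_zero, Nat.cast_zero, zero_smul, hT0]
      | succ k ih => rw [pow_succ, ih, ← hTadd, Nat.cast_succ, add_smul, one_smul]
    rw [h, ← hT0, hTeq]
    simp
  have hfix : ∀ a, φ (Tor a) = Tor a ↔ ∀ j, (m : ℤ) ∣ B.mulVec a j := by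
    intro a
    rw [show φ (Tor a) = Tor ((R * wm7 w).mulVec ((q : ℤ) • a)) from hφ a, hTeq]
    constructor
    · intro h j
      have h1 := dvd_mulVec (M7 * R) (v := (R * wm7 w).mulVec ((q : ℤ) • a) - a) h j
      rw [mulVec_sub, mulVec_mulVec, show M7 * R * (R * wm7 w) = 1 by
        rw [Matrix.mul_assoc, ← Matrix.mul_assoc R R, hRR, Matrix.one_mul, hM7], one_mulVec] at h1
      rw [hB, sub_mulVec, smul_mulVec, one_mulVec]
      exact h1
    · intro h j
      have h1 := dvd_mulVec (R * wm7 w) (v := B.mulVec a) h j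
      rw [hB, sub_mulVec, smul_mulVec, one_mulVec, mulVec_sub, mulVec_mulVec a,
        show R * wm7 w * (M7 * R) = 1 by
          rw [Matrix.mul_assoc, ← Matrix.mul_assoc (wm7 w), hM7', Matrix.one_mul, hRR],
        one_mulVec] at h1
      exact h1
  let S : Subgroup (chevE7.SteinbergGroup F) :=
    { carrier := {u | ∃ a, mapSt (algebraMap F E) u = Tor a ∧ ∀ j, (m : ℤ) ∣ B.mulVec a j}
      one_mem' := ⟨0, by rw [map_one, hT0], fun j => by rw [mulVec_zero]; exact dvd_zero _⟩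
      mul_mem' := fun {u v} ⟨a, ea, ha⟩ ⟨a', ea', ha'⟩ => ⟨a + a', by rw [map_mul, ea, ea', hTadd],
        fun j => by rw [mulVec_add]; exact dvd_add (ha j) (ha' j)⟩
      inv_mem' := fun {u} ⟨a, ea, ha⟩ => ⟨-a, by
          rw [map_inv, ea]
          exact inv_eq_of_mul_eq_one_left (by rw [← hTadd, neg_add_cancel, hT0]),
        fun j => by rw [mulVec_neg]; exact (ha j).neg_right⟩ }
  have mk : ∀ a, (∀ j, (m : ℤ) ∣ B.mulVec a j) → ∃ u ∈ S, mapSt (algebraMap F E) u = Tor a := by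
    intro a ha
    obtain ⟨u, hu⟩ := A.mem_range_iff.2 ((hfix a).2 ha)
    exact ⟨u, ⟨a, hu, ha⟩, hu⟩
  have he0 : (e : ℤ) ≠ 0 := by
    have : 0 < e := Nat.mul_pos (Nat.succ_pos _) (Nat.succ_pos _)
    omega
  have hcardS : Nat.card S ≤ e := by
    have hidx := index_range B (by rw [hdet]; exact he0)
    rw [hdet, Int.natAbs_natCast] at hidx
    haveI : Finite ((Fin 7 → ℤ) ⧸ B.mulVecLin.range.toAddSubgroup) :=
      Nat.finite_of_card_ne_zero (by
        show B.mulVecLin.range.toAddSubgroup.index ≠ 0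
        rw [hidx]; exact_mod_cast he0)
    have hy : ∀ u : S, ∃ y : Fin 7 → ℤ, ∃ a, mapSt (algebraMap F E) u.1 = Tor a ∧
        B.mulVec a = (m : ℤ) • y := fun u => by
      obtain ⟨a, ea, ha⟩ := u.2
      choose y hy using ha
      exact ⟨y, a, ea, funext fun j => by rw [hy j, Pi.smul_apply, smul_eq_mul]⟩
    choose y a ea hBa using hy
    let f : S → (Fin 7 → ℤ) ⧸ B.mulVecLin.range.toAddSubgroup := fun u => (y u : _)
    have hf : Function.Injective f := fun u v huv => by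
      obtain ⟨z, hz⟩ := (QuotientAddGroup.eq.1 huv : _)
      have hz' : B.mulVec z = -y u + y v := hz
      have h0 : B.mulVec (a v - a u - (m : ℤ) • z) = 0 := by
        rw [mulVec_sub, mulVec_sub, mulVec_smul, hBa, hBa, hz', smul_add, smul_neg]; abel
      have h1 := sub_eq_zero.1 (eq_zero_of_mulVec_eq_zero (by rw [hdet]; exact he0) h0)
      refine Subtype.ext (hι ?_)
      rw [ea, ea, hTeq]
      intro j
      rw [← Pi.sub_apply, ← neg_sub (a v) (a u), h1, Pi.neg_apply, Pi.smul_apply, smul_eq_mul]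
      exact (dvd_mul_right _ _).neg_right
    calc Nat.card S ≤ Nat.card ((Fin 7 → ℤ) ⧸ B.mulVecLin.range.toAddSubgroup) :=
          Nat.card_le_card_of_injective f hf
      _ = e := hidx
  -- lifting from E6
  have hlift : ∀ a : Fin 6 → ℤ, (∀ j, (m : ℤ) ∣ (q : ℤ) * a j - M.mulVec a j) →
      (∀ j, (m : ℤ) ∣ (f12 : ℤ) * a j) →
      (∀ k, (m : ℤ) ∣ dotProduct (vec7 (s k)) (cartanE7.mulVec (pad a))) ∧
      ∀ j, (m : ℤ) ∣ B.mulVec (pad a) j := by
    intro a hMa h12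
    have hW : ∀ j, (m : ℤ) ∣ (q : ℤ) * W.mulVec a j - a j := fun j => by
      have h := dvd_mulVec W (v := (q : ℤ) • a - M.mulVec a) (fun i => by simpa using hMa i) j
      rw [mulVec_sub, mulVec_mulVec, hWM, one_mulVec, mulVec_smul] at h
      simpa using h
    have hz := fun k => T.pair_zero X hW (fun j => by rw [← hcast]; exact h12 j) k
    refine ⟨hz, fun j => ?_⟩
    have e1 : M7.mulVec (pad a) = pad (M.mulVec a) := by
      rw [show pad a = (wm7 w).mulVec (pad (M.mulVec a)) by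
        rw [hpad, mulVec_mulVec, hWM, one_mulVec], mulVec_mulVec, hM7, one_mulVec]
    rw [hB, sub_mulVec, smul_mulVec, one_mulVec, ← mulVec_mulVec, hR, mulVec_sub, mulVec_smul, e1,
      Pi.sub_apply, Pi.sub_apply, Pi.smul_apply, Pi.smul_apply, smul_eq_mul, smul_eq_mul, sub_sub_eq_add_sub,
      add_sub_right_comm]
    refine dvd_add ?_ (dvd_mul_of_dvd_left (hz 0) _)
    induction j using Fin.lastCases with
    | last => rw [pad_last, pad_last, mul_zero, sub_zero]; exact dvd_zero _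
    | cast j => rw [pad_castSucc, pad_castSucc]; exact hMa j
  -- the part of order the twelfth cyclotomic value
  obtain ⟨zz, hzz⟩ := IsCyclic.exists_generator
    (α := ↥(Subgroup.centralizer ({x6} : Set (chevE6.SteinbergGroup F))))
  have hzord : orderOf (zz : chevE6.SteinbergGroup F) = f12 * (q ^ 2 + q + 1) := by
    rw [Subgroup.orderOf_coe, orderOf_eq_card_of_forall_mem_zpowers hzz, hcard6]
  obtain ⟨a6, ha6, hMa6⟩ := hall zz zz.2
  let T6 : (Fin 6 → ℤ) → chevE6.SteinbergGroup E := fun a => g6 * Fr6.tor (powTuple ω a) * g6⁻¹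
  have hT6pow : ∀ (a : Fin 6 → ℤ) (k : ℕ), T6 a ^ k = 1 ↔ ∀ j, (m : ℤ) ∣ (k : ℤ) * a j := by
    intro a k
    simp only [T6, conj_pow, conj_eq_one_iff, ← map_pow]
    constructor
    · intro h j
      have h1 := congrFun (Fr6.tor_inj (h.trans (map_one _).symm)) j
      rw [← hωz, mul_comm, _root_.zpow_mul, zpow_natCast]
      exact h1
    · intro h
      rw [← map_one Fr6.tor]
      refine congrArg Fr6.tor (funext fun j => ?_)
      show (ω ^ a j) ^ k = 1
      rw [← zpow_natCast, ← _root_.zpow_mul, hωz, mul_comm]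
      exact h j
  have hTa6 : orderOf (T6 a6) = f12 * (q ^ 2 + q + 1) := by
    rw [show T6 a6 = mapSt (algebraMap F E) (zz : chevE6.SteinbergGroup F) from ha6.symm,
      orderOf_injective _ hι6, hzord]
  set c3 := q ^ 2 + q + 1 with hc3
  have h6all : ∀ j, (m : ℤ) ∣ ((f12 * c3 : ℕ) : ℤ) * a6 j :=
    (hT6pow a6 _).1 (by rw [← hTa6, pow_orderOf_eq_one])
  set a1 := (c3 : ℤ) • a6 with ha1
  obtain ⟨hz1, hB1⟩ := hlift a1 (fun j => by
      rw [ha1, mulVec_smul, Pi.smul_apply, Pi.smul_apply, smul_eq_mul, smul_eq_mul, mul_left_comm,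
        ← mul_sub]
      exact dvd_mul_of_dvd_right (hMa6 j) _)
    (fun j => by
      have := h6all j
      rw [ha1, Pi.smul_apply, smul_eq_mul, ← mul_assoc]
      exact_mod_cast this)
  obtain ⟨z1, hz1S, hz1T⟩ := mk _ hB1
  have hord1 : orderOf z1 = f12 := by
    rw [← orderOf_injective _ hι z1, hz1T]
    have h2 : orderOf (Tor (pad a1)) = orderOf (T6 a6 ^ c3) := by
      refine orderOf_eq_orderOf_iff.2 fun k => ?_
      rw [hTpow, ← pow_mul, hT6pow]
      constructor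
      · intro h j
        have := h j.castSucc
        rw [pad_castSucc, ha1, Pi.smul_apply, smul_eq_mul] at this
        rw [show ((c3 * k : ℕ) : ℤ) * a6 j = (k : ℤ) * ((c3 : ℤ) * a6 j) by push_cast; ring]
        exact this
      · intro h j
        induction j using Fin.lastCases with
        | last => rw [pad_last, mul_zero]; exact dvd_zero _
        | cast j =>
          rw [pad_castSucc, ha1, Pi.smul_apply, smul_eq_mul,
            show (k : ℤ) * ((c3 : ℤ) * a6 j) = ((c3 * k : ℕ) : ℤ) * a6 j by push_cast; ring]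
          exact h j
    rw [h2, orderOf_pow_of_dvd (Nat.succ_ne_zero _) (by rw [hTa6]; exact dvd_mul_left _ _), hTa6,
      Nat.mul_div_cancel _ (Nat.succ_pos _)]
  -- the part in the three orthogonal roots
  set β := fun k => vec7 (s k) with hβ
  set yv : Fin 7 → ℤ := β 0 + (q : ℤ) • β 1 + ((q : ℤ) ^ 2) • β 2 with hyv
  set a2 := K • yv with ha2
  have hpair : ∀ k : Fin 3, dotProduct (β k) (cartanE7.mulVec a2) = K * (2 * (q : ℤ) ^ k.val) := by
    intro k
    rw [ha2, hyv, mulVec_smul, dotProduct_smul, smul_eq_mul, mulVec_add, mulVec_add, mulVec_smul,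
      mulVec_smul, dotProduct_add, dotProduct_add, dotProduct_smul, dotProduct_smul, smul_eq_mul,
      smul_eq_mul]
    congr 1
    have h02 : ∀ j l : Fin 3, dotProduct (β j) (cartanE7.mulVec (β l)) = if j = l then 2 else 0 := by
      intro j l
      by_cases h : j = l
      · rw [if_pos h, h]; exact T.self l
      · rw [if_neg h]; exact T.orth j l h
    rw [h02, h02, h02]
    fin_cases k <;> simp <;> ring
  have hB2 : ∀ j, (m : ℤ) ∣ B.mulVec a2 j := by
    have hinv : ∀ {x y : Fin 7 → ℤ}, (wm7 w).mulVec x = y → M7.mulVec y = x := fun {x y} h => by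
      rw [← h, mulVec_mulVec, hM7, one_mulVec]
    have e1 : R.mulVec a2 = a2 - (K * 2) • β 0 := by
      rw [hR, show dotProduct (vec7 (s 0)) (cartanE7.mulVec a2) = _ from hpair 0]
      simp [β]
    have e2 : M7.mulVec a2 = K • (β 2 + (q : ℤ) • β 0 + ((q : ℤ) ^ 2) • β 1) := by
      rw [ha2, hyv, mulVec_smul, mulVec_add, mulVec_add, mulVec_smul, mulVec_smul,
        hinv (show (wm7 w).mulVec (β 2) = β 0 from T.shift 2),
        hinv (show (wm7 w).mulVec (β 0) = β 1 from T.shift 0),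
        hinv (show (wm7 w).mulVec (β 1) = β 2 from T.shift 1)]
    intro j
    rw [hB, sub_mulVec, smul_mulVec, one_mulVec, ← mulVec_mulVec, e1, mulVec_sub, e2, mulVec_smul,
      hinv (show (wm7 w).mulVec (β 2) = β 0 from T.shift 2), ha2, hyv, hmK]
    refine ⟨β 2 j, ?_⟩
    simp only [Pi.sub_apply, Pi.add_apply, Pi.smul_apply, smul_eq_mul]
    ring
  obtain ⟨z2, hz2S, hz2T⟩ := mk _ hB2
  have hord2 : orderOf z2 = q ^ 3 + 1 := by
    rw [← orderOf_injective _ hι z2, hz2T]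
    refine Nat.dvd_antisymm (orderOf_dvd_of_pow_eq_one ((hTpow _ _).2 fun j => ?_)) ?_
    · rw [ha2, Pi.smul_apply, smul_eq_mul, ← mul_assoc, ← hq3, ← hmK]
      exact dvd_mul_right _ _
    · set k := orderOf (Tor a2)
      have hk := (hTpow a2 k).1 (pow_orderOf_eq_one _)
      have h2 : (q : ℤ) ^ 3 + 1 ∣ (k : ℤ) * 2 := by
        have h : (m : ℤ) ∣ (k : ℤ) * dotProduct (β 0) (cartanE7.mulVec a2) := by
          rw [← smul_eq_mul, ← dotProduct_smul, ← mulVec_smul]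
          exact Finset.dvd_sum fun i _ => dvd_mul_of_dvd_right
            (dvd_mulVec cartanE7 (v := (k : ℤ) • a2) (fun j => by simpa using hk j) i) _
        rw [hpair 0, hmK, show (k : ℤ) * (K * (2 * (q : ℤ) ^ ((0 : Fin 3) : ℕ)))
          = ((k : ℤ) * 2) * K by simp; ring] at h
        exact Int.dvd_of_mul_dvd_mul_right hK0 h
      have h1 : (q : ℤ) ^ 3 + 1 ∣ (k : ℤ) * (1 + (q : ℤ) + (q : ℤ) ^ 2) := by
        have h := hk (Fin.last 6)
        have hy : yv (Fin.last 6) = 1 + (q : ℤ) + (q : ℤ) ^ 2 := by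
          simp only [hyv, β, Pi.add_apply, Pi.smul_apply, smul_eq_mul, T.last]
          ring
        rw [ha2, Pi.smul_apply, smul_eq_mul, hy, hmK,
          show (k : ℤ) * (K * (1 + (q : ℤ) + (q : ℤ) ^ 2))
            = ((k : ℤ) * (1 + (q : ℤ) + (q : ℤ) ^ 2)) * K by ring] at h
        exact Int.dvd_of_mul_dvd_mul_right hK0 h
      obtain ⟨c, hc⟩ : (2 : ℤ) ∣ (q : ℤ) * ((q : ℤ) + 1) := Int.even_mul_succ_self (q : ℤ) |>.two_dvd
      have h3 := dvd_sub h1 (dvd_mul_of_dvd_left h2 c)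
      rw [show (k : ℤ) * (1 + (q : ℤ) + (q : ℤ) ^ 2) - (k : ℤ) * 2 * c = k by
        linear_combination (k : ℤ) * hc, hq3] at h3
      exact Int.natCast_dvd_natCast.1 h3
  have hScomm : ∀ u ∈ S, ∀ v ∈ S, Commute u v := by
    rintro u ⟨a, ea, -⟩ v ⟨a', ea', -⟩
    refine hι ?_
    rw [map_mul, map_mul, ea, ea', ← hTadd, ← hTadd, add_comm]
  set z := z1 * z2 with hz
  have hzordE : orderOf z = e := by
    rw [hz, (hScomm _ hz1S _ hz2S).orderOf_mul_eq_mul_orderOf_of_coprime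
      (by rw [hord1, hord2]; exact hcop), hord1, hord2]
  have hSz : Subgroup.zpowers z = S := Subgroup.eq_of_le_of_card_ge
    (Subgroup.zpowers_le.2 (mul_mem hz1S hz2S)) (by rw [Nat.card_zpowers, hzordE]; exact hcardS)
  -- the element of prime order
  obtain ⟨hzx, hBx⟩ := hlift ((mr : ℤ) • b) (fun j => by
      rw [mulVec_smul, Pi.smul_apply, Pi.smul_apply, smul_eq_mul, smul_eq_mul, mul_left_comm,
        ← mul_sub, hdvd]
      exact hMb j)
    (fun j => by
      rw [Pi.smul_apply, smul_eq_mul, mul_left_comm, hdvd]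
      exact dvd_mul_of_dvd_left (by exact_mod_cast hre) _)
  obtain ⟨x, hxS, hxT⟩ := mk _ hBx
  refine ⟨r, z, x, z2, hr, hr13, hSz ▸ hxS, hSz ▸ hz2S, hι ?_, hzordE, fun u hux huy => ?_⟩
  · rw [map_pow, map_one, hxT, hTpow]
    intro j
    rw [pad_smul, Pi.smul_apply, smul_eq_mul, ← mul_assoc, ← hmr]
    exact dvd_mul_right _ _
  rw [hSz]
  -- a regular element
  set ax := pad ((mr : ℤ) • b) with hax
  set as := ax + (2 : ℤ) • a2 with has
  have hβb : ∀ k, (r : ℤ) ∣ dotProduct (β k) (cartanE7.mulVec (pad b)) := fun k => by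
    have h := hzx k
    rwa [hax, pad_smul, mulVec_smul, dotProduct_smul, smul_eq_mul, hdvd] at h
  have hregas : ∀ t, t < chevE7.nroots →
      ¬ (m : ℤ) ∣ pr (H37.Chev.dataE7 E).X.n chevE7 t as := by
    intro t ht hd
    have hd' : (m : ℤ) ∣ dotProduct (vec7 t) (cartanE7.mulVec as) := by
      rw [← pr_vec ht]; exact hd
    rw [has, mulVec_add, dotProduct_add, mulVec_smul, dotProduct_smul, smul_eq_mul] at hd'
    have h2 : (m : ℤ) ∣ ((q : ℤ) ^ 3 + 1) * dotProduct (vec7 t) (cartanE7.mulVec a2) := by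
      rw [ha2, mulVec_smul, dotProduct_smul, smul_eq_mul, ← mul_assoc, ← hmK]
      exact dvd_mul_right _ _
    have h3 : (m : ℤ) ∣ ((q : ℤ) ^ 3 + 1) * dotProduct (vec7 t) (cartanE7.mulVec ax) := by
      have := dvd_sub (dvd_mul_of_dvd_right hd' ((q : ℤ) ^ 3 + 1)) (dvd_mul_of_dvd_right h2 2)
      rw [show ((q : ℤ) ^ 3 + 1) * dotProduct (vec7 t) (cartanE7.mulVec ax)
        = ((q : ℤ) ^ 3 + 1) * (dotProduct (vec7 t) (cartanE7.mulVec ax)
            + 2 * dotProduct (vec7 t) (cartanE7.mulVec a2))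
          - 2 * (((q : ℤ) ^ 3 + 1) * dotProduct (vec7 t) (cartanE7.mulVec a2)) by ring]
      exact this
    rw [hax, pad_smul, mulVec_smul, dotProduct_smul, smul_eq_mul, mul_left_comm, hdvd] at h3
    have h4 := ((Nat.prime_iff_prime_int.1 hr).dvd_or_dvd h3).resolve_left fun h => hr3 (by
      rw [hq3] at h; exact Int.natCast_dvd_natCast.1 h)
    obtain ⟨k, hk⟩ := T.roots_zero X hr13 hrq hb hMb ht h4
    have h5 : (m : ℤ) ∣ 2 * dotProduct (β k) (cartanE7.mulVec a2) := by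
      rcases hk with ek | ek <;> rw [ek] at hd'
      · have := dvd_sub hd' (hzx k)
        rwa [add_sub_cancel_left] at this
      · rw [neg_dotProduct, neg_dotProduct, mul_neg, ← neg_add, dvd_neg] at hd'
        have := dvd_sub hd' (hzx k)
        rwa [add_sub_cancel_left] at this
    rw [hpair k, hmK, show (2 : ℤ) * (K * (2 * (q : ℤ) ^ k.val)) = ((q : ℤ) ^ k.val * 4) * K by ring]
      at h5
    have h6 := cancel_q k.val (by omega) (Int.dvd_of_mul_dvd_mul_right hK0 h5)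
    have h7 := Int.le_of_dvd (by norm_num) h6
    have : (2 : ℤ) ^ 3 ≤ (q : ℤ) ^ 3 := pow_le_pow_left₀ (by norm_num) (by exact_mod_cast hq1) 3
    linarith
  set cu := g⁻¹ * mapSt (algebraMap F E) u * g with hcu
  have hcT : ∀ v, u * v = v * u → ∀ a, mapSt (algebraMap F E) v = Tor a →
      Fr.tor (powTuple ω a) * cu = cu * Fr.tor (powTuple ω a) := by
    intro v huv a hv
    have h : mapSt (algebraMap F E) u * Tor a = Tor a * mapSt (algebraMap F E) u := by
      rw [← hv, ← map_mul, ← map_mul, huv]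
    rw [hcu]
    calc _ = g⁻¹ * (Tor a * mapSt (algebraMap F E) u) * g := by simp only [Tor]; group
      _ = g⁻¹ * (mapSt (algebraMap F E) u * Tor a) * g := by rw [h]
      _ = _ := by simp only [Tor]; group
  have hy2 : mapSt (algebraMap F E) (z2 ^ 2) = Tor ((2 : ℤ) • a2) := by
    rw [map_pow, hz2T, two_smul, hTadd, sq]
  have hc1 := hcT x hux ax hxT
  have hc2 := hcT (z2 ^ 2) huy _ hy2
  have hcs : Fr.tor (powTuple ω as) * cu = cu * Fr.tor (powTuple ω as) := by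
    rw [has, hptadd]
    rw [mul_assoc, hc2, ← mul_assoc, hc1, mul_assoc]
  have hregT : ∀ t, t < chevE7.nroots → ∀ v : E, ∀ t' : E,
      Fr.tor (powTuple ω as) * Fr.S.x t v * (Fr.tor (powTuple ω as))⁻¹ = Fr.S.x t t' → t' = v → v = 0 := by
    intro t ht v t' h1 h2
    rw [h2] at h1
    have h1' : Fr.S.x t (((ω ^ pr (H37.Chev.dataE7 E).X.n chevE7 t as : Eˣ) : E) * v) = Fr.S.x t v :=
      (Fr.tor_conj_x ω as ht v).symm.trans h1
    by_contra hv
    refine hregas t ht ((hωz _).1 (Units.ext (mul_right_cancel₀ hv ?_)))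
    rw [Units.val_one, one_mul]
    exact Fr.x_inj t ht h1'
  obtain ⟨hh, hhH, v, ecu, -⟩ :=
    Fr.conj_regular (Fr.tor_mem _) (Fr.tor_mem _) hregT hregT hcs
  have hrepc : ∀ a : Fin 7 → ℤ, Fr.tor (powTuple ω a) * cu = cu * Fr.tor (powTuple ω a) →
      ∀ j, (m : ℤ) ∣ (wm7 v).mulVec a j - a j := by
    intro a hca
    have hrc : Fr.S.rep v * Fr.tor (powTuple ω a) * (Fr.S.rep v)⁻¹
        = Fr.tor (powTuple ω ((wm7 v).mulVec a)) := Fr.rep_conj_tor detT_E7 v ω a
    have h1 : Fr.S.rep v * Fr.tor (powTuple ω a) * (Fr.S.rep v)⁻¹ = Fr.tor (powTuple ω a) := by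
      rw [ecu, ← mul_assoc (Fr.tor (powTuple ω a)), Fr.H_comm (Fr.tor_mem _) hhH, mul_assoc, mul_assoc,
        mul_right_inj] at hca
      rw [← hca, mul_inv_cancel_right]
    rw [hrc] at h1
    intro j
    exact (hωeq _ _).1 (congrFun (Fr.tor_inj h1) j)
  have hv1 := hrepc ax hc1
  have hv2 := hrepc _ hc2
  have hvb : ∀ j, (r : ℤ) ∣ (wm7 v).mulVec (pad b) j - pad b j := fun j => by
    have h := hv1 j
    rwa [hax, pad_smul, mulVec_smul, Pi.smul_apply, Pi.smul_apply, ← smul_sub, smul_eq_mul, hdvd] at h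
  have hdot : ∀ (n : ℤ) (xv a a' : Fin 7 → ℤ), (∀ j, n ∣ a j - a' j) →
      n ∣ dotProduct xv (cartanE7.mulVec a) - dotProduct xv (cartanE7.mulVec a') := by
    intro n xv a a' h
    rw [← dotProduct_sub, ← mulVec_sub]
    exact Finset.dvd_sum fun i _ => dvd_mul_of_dvd_right (dvd_mulVec cartanE7 (v := a - a') h i) _
  have hvβ : ∀ k, (wm7 v).mulVec (β k) = β k := by
    intro k
    set t := act (H37.Chev.dataE7 E).X.good v (s k)
    have ht : t < chevE7.nroots := act_lt (hC := (H37.Chev.dataE7 E).X.good) v (T.lt k)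
    have hvt : vec7 t = (wm7 v).mulVec (β k) := vec_act v (s k) (T.lt k)
    have h1 : (r : ℤ) ∣ dotProduct (vec7 t) (cartanE7.mulVec (pad b)) := by
      have h := hdot r (vec7 t) _ _ hvb
      rw [hvt, wm7_isom] at h
      rw [hvt]
      simpa using dvd_sub (hβb k) h
    obtain ⟨l, hl⟩ := T.roots_zero X hr13 hrq hb hMb ht h1
    obtain ⟨ε, hε, hl'⟩ : ∃ ε : ℤ, (ε = 1 ∨ ε = -1) ∧ vec7 t = ε • β l := by
      rcases hl with h | h
      · exact ⟨1, Or.inl rfl, by rw [one_smul]; exact h⟩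
      · exact ⟨-1, Or.inr rfl, by rw [neg_one_smul]; exact h⟩
    have h2 := hdot m (vec7 t) _ _ hv2
    rw [hvt, wm7_isom, ← hvt, hl', mulVec_smul, dotProduct_smul, dotProduct_smul, smul_dotProduct,
      hpair, hpair, smul_eq_mul, smul_eq_mul, smul_eq_mul, hmK,
      show 2 * (K * (2 * (q : ℤ) ^ k.val)) - 2 * (ε * (K * (2 * (q : ℤ) ^ l.val)))
        = (4 * ((q : ℤ) ^ k.val - ε * (q : ℤ) ^ l.val)) * K by ring] at h2
    obtain ⟨hkl, hε1⟩ := arith7 hq1 k l hε (Int.dvd_of_mul_dvd_mul_right hK0 h2)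
    rw [← hvt, hl', hε1, one_smul, hkl]
  have hv : v = 1 := stab7 hrW T.orth T.self T.sum
    (fun t ht h => T.roots_zero X hr13 hrq hb hMb ht h) hvb hvβ
  rw [hv, Fr.S.rep_one, mul_one] at ecu
  obtain ⟨c, hc⟩ := Fr.exists_tor hhH
  choose a' ha' using fun j => Subgroup.mem_zpowers_iff.1 (hω (c j))
  have eu : mapSt (algebraMap F E) u = Tor a' := by
    simp only [Tor]
    rw [show powTuple ω a' = c from funext fun j => ha' j, ← hc, ← ecu, hcu]
    group
  refine ⟨a', eu, (hfix a').1 ?_⟩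
  rw [← eu]
  exact A.fix_map u

theorem exists_torus_E7 {F : Type*} [Field F] [Fintype F] (q : ℕ) (hq : Fintype.card F = q) :
    ∃ H : Subgroup ↥(chevE7.group F), IsCyclic ↥H ∧
      Nat.card ↥H = (q ^ 4 - q ^ 2 + 1) * (q ^ 3 + 1) / Nat.gcd 2 (q - 1) ∧
      Subgroup.centralizer (H : Set ↥(chevE7.group F)) = H := by
  classical
  obtain ⟨r, z, x, y, hr, hr13, hxz, hyz, hxr, hz, hmax⟩ := exists_gen_E7 hq
  haveI : Finite (chevE7.SteinbergGroup F) := finite_st (H37.Chev.dataE7 F) relE7 adjE7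
  obtain ⟨θ, hsurj, hker, -⟩ := H38.St.steinberg (H37.Chev.dataE7 F) relE7 adjE7
  set C := Subgroup.zpowers z with hC
  have hzC : θ.ker ≤ C := fun c hc => by
    have hcen : c ∈ Subgroup.center (chevE7.SteinbergGroup F) := hker ▸ hc
    exact hmax c (Subgroup.mem_center_iff.1 hcen x).symm (Subgroup.mem_center_iff.1 hcen (y ^ 2)).symm
  have hg : Nat.card θ.ker = Nat.gcd 2 (q - 1) := by
    rw [hker, center_E7, Nat.card_eq_fintype_card, hq]
  refine ⟨C.map θ, ?_, ?_, le_antisymm ?_ ?_⟩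
  · exact isCyclic_of_surjective (θ.subgroupMap C) (θ.subgroupMap_surjective C)
  · have h1 : Nat.card ↥(C.map θ) * Nat.gcd 2 (q - 1)
        = (q ^ 4 - q ^ 2 + 1) * (q ^ 3 + 1) := by
      rw [← hz, ← Nat.card_zpowers, ← hg]
      have hr' : (θ.comp C.subtype).range = C.map θ := by
        rw [MonoidHom.range_comp, Subgroup.range_subtype]
      have hk : Nat.card (θ.comp C.subtype).ker = Nat.card θ.ker :=
        Nat.card_congr (Equiv.ofBijective
          (fun z : (θ.comp C.subtype).ker => (⟨((z : C) : chevE7.SteinbergGroup F), z.2⟩ : θ.ker))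
          ⟨fun a b h => Subtype.ext (Subtype.ext (congrArg Subtype.val h :)),
            fun z => ⟨⟨⟨z.1, hzC z.2⟩, z.2⟩, rfl⟩⟩)
      rw [← hk, ← hr', ← Subgroup.index_ker, Subgroup.index_mul_card]
    rw [← h1, Nat.mul_div_cancel _ (Nat.gcd_pos_of_pos_left _ (by norm_num))]
  · intro v hv
    obtain ⟨u, rfl⟩ := hsurj v
    have key : ∀ d ∈ C, ∃ c ∈ Subgroup.center (chevE7.SteinbergGroup F), c ^ 2 = 1 ∧
        u * d = c * (d * u) := by
      intro d hd
      have hcomm := Subgroup.mem_centralizer_iff.1 hv (θ d) ⟨d, hd, rfl⟩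
      have hcker : u * d * (d * u)⁻¹ ∈ θ.ker := by
        rw [MonoidHom.mem_ker, map_mul, map_mul, map_inv, map_mul, hcomm, mul_inv_cancel]
      refine ⟨_, hker ▸ hcker, ?_, by group⟩
      have h2 : (⟨_, hcker⟩ : θ.ker) ^ Nat.card θ.ker = 1 := pow_card_eq_one'
      rw [hg] at h2
      obtain ⟨j, hj⟩ := Nat.gcd_dvd_left 2 (q - 1)
      have h3 : (⟨_, hcker⟩ : θ.ker) ^ 2 = 1 := by rw [hj, pow_mul, h2, one_pow]
      exact congrArg Subtype.val h3
    refine ⟨u, hmax u ?_ ?_, rfl⟩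
    · obtain ⟨c, hc, hc2, e⟩ := key x hxz
      have hcx : Commute c x := (Subgroup.mem_center_iff.1 hc x).symm
      have hcr : c ^ r = 1 := by
        have e' : u * x * u⁻¹ = c * x := by rw [e]; group
        have h := congrArg (· ^ r) e'
        simp only [conj_pow, hcx.mul_pow, hxr, mul_one, mul_inv_cancel] at h
        exact h.symm
      have hcop : Nat.Coprime r 2 := (Nat.coprime_primes hr Nat.prime_two).2 (by omega)
      have hc1 : c = 1 := orderOf_eq_one_iff.1 (Nat.eq_one_of_dvd_coprimes hcop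
        (orderOf_dvd_of_pow_eq_one hcr) (orderOf_dvd_of_pow_eq_one hc2))
      rw [e, hc1, one_mul]
    · obtain ⟨c, hc, hc2, e⟩ := key y hyz
      have hcy : Commute c y := (Subgroup.mem_center_iff.1 hc y).symm
      have e' : u * y * u⁻¹ = c * y := by rw [e]; group
      have h := congrArg (· ^ 2) e'
      simp only [conj_pow, hcy.mul_pow, hc2, one_mul] at h
      exact mul_inv_eq_iff_eq_mul.1 h
  · rintro _ ⟨a, ha, rfl⟩
    refine Subgroup.mem_centralizer_iff.2 ?_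
    rintro _ ⟨b, hb, rfl⟩
    rw [← map_mul, ← map_mul]
    exact congrArg θ (congrArg Subtype.val
      (IsCyclic.commGroup.mul_comm (⟨b, hb⟩ : C) ⟨a, ha⟩))

end Cfsg.Agent.Chevalley.TwTorus.Sc
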