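import Cfsg.Agent.Chevalley.TwTorus.Sc.St
import Cfsg.Agent.H38.St.CentreData

/-!
Steinberg's group of type E6 inside that of type E7.
-/
set_option autoImplicit false
set_option maxRecDepth 100000

namespace Cfsg.Agent.Chevalley.TwTorus.Sc

open Cfsg.Lie Cfsg.Lie.ChevalleyDatum

/-- The root of E7 of a root of E6. -/
def embR (r : ℕ) : ℕ := H38.St.ioE6.getD r 0

/-- The compatibility of the root systems of E6 and E7. -/
def embAll : Bool :=
  ((List.range chevE6.nroots).all fun r =>
    decide (embR r < chevE7.nroots) && (chevE7.neg (embR r) == embR (chevE6.neg r))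
      && decide (chevE6.neg r < chevE6.nroots)) &&
  ((List.range chevE6.nroots).all fun r => (List.range chevE6.nroots).all fun s =>
    (s == r) || (s == chevE6.neg r) ||
      (decide (embR s ≠ embR r) && decide (embR s ≠ chevE7.neg (embR r)) &&
        ((chevE6.commTerms r s).all fun c => decide (c.1 < chevE6.nroots)) &&
        (chevE7.commTerms (embR r) (embR s) == (chevE6.commTerms r s).map fun c => (embR c.1, c.2)))) &&
  ((List.range chevE6.rank).all fun i => embR (chevE6.simple i) == chevE7.simple i)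

theorem embAll_ok : embAll = true := by decide +kernel

theorem embR_lt {r : ℕ} (hr : r < chevE6.nroots) :
    embR r < chevE7.nroots ∧ chevE7.neg (embR r) = embR (chevE6.neg r) ∧
      chevE6.neg r < chevE6.nroots := by
  have h := embAll_ok
  simp only [embAll, Bool.and_eq_true, List.all_eq_true, List.mem_range, decide_eq_true_eq,
    beq_iff_eq] at h
  exact ⟨(h.1.1 r hr).1.1, (h.1.1 r hr).1.2, (h.1.1 r hr).2⟩

theorem embR_simple {i : ℕ} (hi : i < chevE6.rank) : embR (chevE6.simple i) = chevE7.simple i := by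
  have h := embAll_ok
  simp only [embAll, Bool.and_eq_true, List.all_eq_true, List.mem_range, decide_eq_true_eq,
    beq_iff_eq] at h
  exact h.2 i hi

theorem embR_comm {r s : ℕ} (hr : r < chevE6.nroots) (hs : s < chevE6.nroots) (h1 : s ≠ r)
    (h2 : s ≠ chevE6.neg r) :
    embR s ≠ embR r ∧ embR s ≠ chevE7.neg (embR r) ∧
      (∀ c ∈ chevE6.commTerms r s, c.1 < chevE6.nroots) ∧
      chevE7.commTerms (embR r) (embR s) = (chevE6.commTerms r s).map fun c => (embR c.1, c.2) := by
  have h := embAll_ok
  simp only [embAll, Bool.and_eq_true, List.all_eq_true, List.mem_range, decide_eq_true_eq,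
    beq_iff_eq, Bool.or_eq_true] at h
  rcases h.1.2 r hr s hs with (e | e) | e
  · exact absurd e h1
  · exact absurd e h2
  · exact ⟨e.1.1.1, e.1.1.2, e.1.2, e.2⟩

variable (K : Type*) [Field K]

/-- The map on free groups. -/
def embFree : FreeGroup (Fin chevE6.nroots × K) →* FreeGroup (Fin chevE7.nroots × K) :=
  FreeGroup.map fun p => (⟨embR p.1, (embR_lt p.1.isLt).1⟩, p.2)

theorem embFree_stX {r : ℕ} (hr : r < chevE6.nroots) (t : K) :
    embFree K (chevE6.stX r t) = chevE7.stX (embR r) t := by
  simp [stX, hr, embFree, (embR_lt hr).1]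

theorem embFree_stWord {w : List (ℕ × K)} (hw : ∀ p ∈ w, p.1 < chevE6.nroots) :
    embFree K (chevE6.stWord w) = chevE7.stWord (w.map fun p => (embR p.1, p.2)) := by
  rw [stWord, map_list_prod, stWord, List.map_map, List.map_map]
  congr 1
  exact List.map_congr_left fun p hp => embFree_stX K (hw p hp) p.2

theorem embFree_stH {r : ℕ} (hr : r < chevE6.nroots) (t : K) :
    embFree K (chevE6.stH r t) = chevE7.stH (embR r) t := by
  rw [stH, stH, embFree_stWord]
  · simp [hWord, nWord, (embR_lt hr).2.1]
  · intro p hp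
    simp only [hWord, nWord, List.cons_append, List.nil_append, List.mem_cons,
      List.not_mem_nil, or_false] at hp
    rcases hp with rfl | rfl | rfl | rfl | rfl | rfl
    all_goals first | exact hr | exact (embR_lt hr).2.2

theorem embFree_rels {x : FreeGroup (Fin chevE6.nroots × K)} (hx : x ∈ chevE6.steinbergRels K) :
    embFree K x ∈ chevE7.steinbergRels K := by
  rcases hx with (⟨r, t, u, hr, rfl⟩ | ⟨r, s, t, u, hr, hs, h1, h2, rfl⟩) | ⟨r, t, u, hr, ht, hu, rfl⟩
  · refine Or.inl (Or.inl ⟨embR r, t, u, (embR_lt hr).1, ?_⟩)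
    simp only [map_mul, map_inv, embFree_stX K hr]
  · obtain ⟨e1, e2, e3, e4⟩ := embR_comm hr hs h1 h2
    refine Or.inl (Or.inr ⟨embR r, embR s, t, u, (embR_lt hr).1, (embR_lt hs).1, e1, e2, ?_⟩)
    simp only [map_mul, map_inv, embFree_stX K hr, embFree_stX K hs]
    congr 2
    rw [embFree_stWord K fun p hp => by
      obtain ⟨c, hc, rfl⟩ := List.mem_map.1 hp
      exact e3 c hc]
    simp only [commWord, e4, List.map_map]
    rfl
  · refine Or.inr ⟨embR r, t, u, (embR_lt hr).1, ht, hu, ?_⟩
    simp only [map_mul, map_inv, embFree_stH K hr]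

/-- The embedding of groups. -/
def emb : chevE6.SteinbergGroup K →* chevE7.SteinbergGroup K :=
  PresentedGroup.toGroup
    (f := fun p => PresentedGroup.mk (chevE7.steinbergRels K)
      (FreeGroup.of (⟨embR p.1, (embR_lt p.1.isLt).1⟩, p.2)))
    fun x hx => by
      have e : FreeGroup.lift (fun p : Fin chevE6.nroots × K =>
          PresentedGroup.mk (chevE7.steinbergRels K)
            (FreeGroup.of (⟨embR p.1, (embR_lt p.1.isLt).1⟩, p.2)))
          = (PresentedGroup.mk (chevE7.steinbergRels K)).comp (embFree K) :=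
        FreeGroup.ext_hom _ _ fun p => by simp [embFree]
      rw [e, MonoidHom.comp_apply]
      exact PresentedGroup.one_of_mem (embFree_rels K hx)

theorem emb_stGen {r : ℕ} (hr : r < chevE6.nroots) (t : K) :
    emb K (chevE6.stGen K r t) = chevE7.stGen K (embR r) t := by
  rw [stGen, stGen, stX, dif_pos hr, stX, dif_pos (embR_lt hr).1]
  exact PresentedGroup.toGroup.of _

theorem mapSt_emb {L : Type*} [Field L] (g : K →+* L) (x : chevE6.SteinbergGroup K) :
    mapSt g (emb K x) = emb L (mapSt g x) := by
  rw [← MonoidHom.comp_apply, ← MonoidHom.comp_apply]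
  congr 1
  refine PresentedGroup.ext fun p => ?_
  obtain ⟨⟨r, hr⟩, t⟩ := p
  have e : (PresentedGroup.of (⟨r, hr⟩, t) : chevE6.SteinbergGroup K) = chevE6.stGen K r t := by
    simp [stGen, stX, hr]; rfl
  rw [e, MonoidHom.comp_apply, MonoidHom.comp_apply, emb_stGen K hr, mapSt_stGen, mapSt_stGen,
    emb_stGen L hr]

end Cfsg.Agent.Chevalley.TwTorus.Sc
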