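import Cfsg.Agent.Chevalley.TwTorus.Sc.E7Tri
import Cfsg.Agent.Chevalley.TwTorus.Sc.Emb
import Cfsg.Agent.H38.St.CentreData

/-!
Steinberg's group of type E7: centre, commuting root subgroups, and the extension of elements of
the torus normaliser of E6.
-/
set_option autoImplicit false
set_option maxRecDepth 100000
set_option linter.style.haveILetI false
set_option linter.unusedSectionVars false

namespace Cfsg.Agent.Chevalley.TwTorus.Sc

open Cfsg.Lie Cfsg.Lie.ChevalleyDatum Cfsg.Agent.H37 Cfsg.Agent.H37.RootSys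
open Cfsg.Agent.Chevalley.Weights Matrix Polynomial

theorem relE7 {F : Type*} [Field F] :
    H38.St.RelOK (H37.Chev.dataE7 F).K (H37.Chev.dataE7 F).X.M :=
  H38.St.relOK_of_check _ H37.Chev.typeE7.M (w := Chevalley.E7.tab.w) rfl (by decide +kernel)

theorem adjE7 : H38.St.Adj chevE7 := H38.St.adj_of_check (by decide +kernel)

theorem center_E7 (F : Type*) [Field F] [Finite F] :
    Nat.card (Subgroup.center (chevE7.SteinbergGroup F)) = Nat.gcd 2 (Nat.card F - 1) := by
  haveI : Fintype F := Fintype.ofFinite F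
  rw [Nat.card_eq_fintype_card (α := F)]
  exact H38.St.center_card (H37.Chev.dataE7 F) Chevalley.E8.cert relE7 adjE7 H38.CT.chkE7 rfl
    H38.St.embE7_ok H38.St.subE7_ok H38.St.latE7 H38.St.latE7_ok

theorem center_eq_ker7 (F : Type*) [Field F] [Finite F] :
    Nat.card (Subgroup.center (chevE7.SteinbergGroup F))
      = Nat.card {c : Fin chevE7.rank → Fˣ // torus chevE7 F c = 1} := by
  haveI : Fintype F := Fintype.ofFinite F
  rw [center_E7, Nat.card_congr (H38.St.latE7.kerEquiv (H37.Chev.dataE7 F).K H38.St.latE7_ok)]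
  have h3 : Nat.card {z : Fˣ // z ^ H38.St.latE7.d = 1}
      = Nat.card (powMonoidHom H38.St.latE7.d : Fˣ →* Fˣ).ker :=
    Nat.card_congr (Equiv.subtypeEquivRight fun z => Iff.rfl)
  rw [h3, IsCyclic.card_powMonoidHom_ker, Nat.card_units, Nat.gcd_comm 2]
  rfl

theorem commTerms_orth : ∀ r t : Fin 126, vec7 r.val (Fin.last 6) ≠ 0 → vec7 t.val (Fin.last 6) ≠ 0 →
    dotProduct (vec7 r.val) (cartanE7.mulVec (vec7 t.val)) = 0 →
    chevE7.commTerms r.val t.val = [] ∧ t.val ≠ r.val ∧ t.val ≠ chevE7.neg r.val := by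
  decide +kernel

theorem stGen_commute (K : Type*) [Field K] {r t : ℕ} (hr : r < chevE7.nroots)
    (ht : t < chevE7.nroots) (h1 : vec7 r (Fin.last 6) ≠ 0) (h2 : vec7 t (Fin.last 6) ≠ 0)
    (h : dotProduct (vec7 r) (cartanE7.mulVec (vec7 t)) = 0) (a b : K) :
    Commute (chevE7.stGen K r a) (chevE7.stGen K t b) := by
  obtain ⟨e1, e2, e3⟩ := commTerms_orth (Fin.mk r hr) (Fin.mk t ht) h1 h2 h
  simp only at e1 e2 e3
  have hrel : (chevE7.stX t b)⁻¹ * (chevE7.stX r a)⁻¹ * chevE7.stX t b * chevE7.stX r a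
      * (chevE7.stWord (chevE7.commWord K r t a b))⁻¹ ∈ chevE7.steinbergRels K :=
    Or.inl (Or.inr ⟨r, t, a, b, hr, ht, e2, e3, rfl⟩)
  have h0 := PresentedGroup.one_of_mem hrel
  rw [show chevE7.stWord (chevE7.commWord K r t a b) = 1 by simp [commWord, e1, stWord],
    inv_one, mul_one, map_mul, map_mul, map_mul, map_inv, map_inv] at h0
  show chevE7.stGen K r a * chevE7.stGen K t b = chevE7.stGen K t b * chevE7.stGen K r a
  rw [stGen, stGen]
  generalize PresentedGroup.mk (chevE7.steinbergRels K) (chevE7.stX r a) = A at h0 ⊢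
  generalize PresentedGroup.mk (chevE7.steinbergRels K) (chevE7.stX t b) = B at h0 ⊢
  calc A * B = A * B * (B⁻¹ * A⁻¹ * B * A) := by rw [h0, mul_one]
    _ = B * A := by group

section Frob

variable {D : ChevalleyDatum} {F : Type*} [Field F] [Finite F] {p : ℕ} [Fact p.Prime] [CharP F p]
  {d : ℕ} [NeZero d]

theorem fieldSt_pow (σ : FiniteField.Extension F p d ≃+* FiniteField.Extension F p d) (k : ℕ) :
    ∀ x : D.SteinbergGroup (FiniteField.Extension F p d),
      ((fieldSt σ : MulAut (D.SteinbergGroup (FiniteField.Extension F p d))) ^ k) x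
        = mapSt ((σ ^ k : RingAut (FiniteField.Extension F p d)).toRingHom) x := by
  induction k with
  | zero => intro x; rw [pow_zero, pow_zero]; exact (mapSt_id x).symm
  | succ k ih =>
    intro x
    rw [pow_succ', MulAut.mul_apply, ih]
    show mapSt σ.toRingHom _ = _
    rw [mapSt_comp, pow_succ']
    rfl

theorem fieldSt_frobE_pow :
    (fieldSt (frobE F p d) : MulAut (D.SteinbergGroup (FiniteField.Extension F p d))) ^ d = 1 := by
  haveI : Fintype F := Fintype.ofFinite F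
  haveI : Fintype (FiniteField.Extension F p d) := Fintype.ofFinite _
  refine MulEquiv.ext fun x => ?_
  rw [fieldSt_pow]
  have hk : ∀ (k : ℕ) (a : FiniteField.Extension F p d),
      (frobE F p d ^ k : RingAut (FiniteField.Extension F p d)) a = a ^ (Nat.card F ^ k) := by
    intro k
    induction k with
    | zero => intro a; rw [pow_zero, pow_zero, pow_one]; rfl
    | succ k ih =>
      intro a
      rw [pow_succ', RingAut.mul_apply, ih, frobE_apply, ← pow_mul, ← pow_succ]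
  have e : (frobE F p d ^ d : RingAut (FiniteField.Extension F p d)).toRingHom = RingHom.id _ :=
    RingHom.ext fun a => by
      show (frobE F p d ^ d : RingAut (FiniteField.Extension F p d)) a = a
      rw [hk, ← FiniteField.natCard_extension F p d, Nat.card_eq_fintype_card,
        FiniteField.pow_card]
  rw [e]
  exact mapSt_id x

end Frob

section Normalizer

variable {D : ChevalleyDatum} {E : Type*} [Field E] [Finite E] {Q : H37.Chev.Data D E}
  {G : Type*} [Group G] (Fr : Frame Q G)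

/-- The monomial elements. -/
def InN (y : G) : Prop := ∃ h ∈ Fr.S.H, ∃ w, y = h * Fr.S.rep w

theorem InN.mul {x y : G} (hx : InN Fr x) (hy : InN Fr y) : InN Fr (x * y) := by
  obtain ⟨h, hh, w, rfl⟩ := hx
  obtain ⟨h', hh', w', rfl⟩ := hy
  obtain ⟨k, hk, e⟩ := Fr.S.rep_mul w w'
  refine ⟨h * (Fr.S.rep w * h' * (Fr.S.rep w)⁻¹) * k,
    mul_mem (mul_mem hh (Fr.S.rep_conj_H w hh')) hk, w * w', ?_⟩
  rw [mul_assoc _ k, ← e]
  group

theorem InN.rep (w : Q.X.M.Group) : InN Fr (Fr.S.rep w) := ⟨1, one_mem _, w, (one_mul _).symm⟩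

theorem InN.rep_inv (w : Q.X.M.Group) : InN Fr (Fr.S.rep w)⁻¹ := by
  obtain ⟨k, hk, e⟩ := Fr.S.rep_mul w⁻¹ w
  rw [inv_mul_cancel, Fr.S.rep_one, mul_one] at e
  refine ⟨k⁻¹, inv_mem hk, w⁻¹, ?_⟩
  rw [← e]
  group

theorem InN.ns (i : Fin Q.X.n) : InN Fr (Fr.S.ns i) := by
  obtain ⟨k, hk, e⟩ := Fr.S.ns_rep (i := i) 1
  rw [Fr.S.rep_one, mul_one, mul_one] at e
  exact ⟨k, hk, _, e⟩

theorem InN.map {G₀ : Type*} [Group G₀] {ι : G₀ →* G} {φ : MulAut G} {σ : E ≃+* E}
    (A : FrobLift Fr ι φ σ) {y : G} (hy : InN Fr y) : InN Fr (φ y) := by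
  obtain ⟨h, hh, w, rfl⟩ := hy
  obtain ⟨k, hk, hm⟩ := A.rep_corr w
  refine ⟨φ (h * k⁻¹) * k, mul_mem (A.map_H (mul_mem hh (inv_mem hk))) hk, w, ?_⟩
  rw [show h * Fr.S.rep w = h * k⁻¹ * (k * Fr.S.rep w) by group, map_mul, A.fix_range hm]
  group

/-- Root subgroups are carried onto root subgroups. -/
theorem rep_conj_inv (u : Q.X.M.Group) {r : ℕ} (hr : r < D.nroots) (t : E) :
    ∃ t', (Fr.S.rep u)⁻¹ * Fr.S.x (act Q.X.good u r) t * Fr.S.rep u = Fr.S.x r t' := by
  choose f hf using Fr.S.rep_conj u r hr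
  have hinj : Function.Injective f := fun a b h => Fr.x_inj r hr (by
    have ha := hf a
    rw [h, ← hf b, mul_left_inj, mul_right_inj] at ha
    exact ha)
  obtain ⟨t', rfl⟩ := (Finite.injective_iff_surjective.1 hinj) t
  refine ⟨t', ?_⟩
  rw [act_eq _ hr, ← hf t']
  group

theorem rep_conj_x (u : Q.X.M.Group) {r : ℕ} (hr : r < D.nroots) (t : E) :
    ∃ t', Fr.S.rep u * Fr.S.x r t * (Fr.S.rep u)⁻¹ = Fr.S.x (act Q.X.good u r) t' := by
  rw [act_eq _ hr]
  exact Fr.S.rep_conj u r hr t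

end Normalizer

theorem vec_simple : ∀ i : Fin 7, vec7 (chevE7.simple i.val) = Pi.single i 1 := by decide +kernel

theorem pos_of_last : ∀ s : Fin 126, vec7 s.val (Fin.last 6) = 1 → 63 ≤ s.val := by decide +kernel

theorem climb7 : ∀ s : Fin 126, 63 ≤ s.val → (∃ i : Fin 7, s.val = chevE7.simple i.val) ∨
    ∃ i : Fin 7, H37.Chev.typeE7.C.sigma i.val s.val < s.val ∧
      63 ≤ H37.Chev.typeE7.C.sigma i.val s.val := by decide +kernel

theorem exists_act_simple {F : Type*} [Field F] : ∀ s, s < chevE7.nroots → 63 ≤ s →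
    ∃ (u : (H37.Chev.dataE7 F).X.M.Group) (i : Fin (H37.Chev.dataE7 F).X.n),
      act (H37.Chev.dataE7 F).X.good u (chevE7.simple i.val) = s := by
  intro s
  induction s using Nat.strong_induction_on with
  | _ s ih =>
    intro hs hp
    rcases climb7 (Fin.mk s hs) hp with ⟨i, hi⟩ | ⟨i, hlt, hp'⟩
    · exact ⟨1, i, by rw [act_one]; exact hi.symm⟩
    · change H37.Chev.typeE7.C.sigma i.val s < s at hlt
      change 63 ≤ H37.Chev.typeE7.C.sigma i.val s at hp'
      have hl : H37.Chev.typeE7.C.sigma i.val s < chevE7.nroots := lt_trans hlt hs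
      obtain ⟨u, j, hj⟩ := ih _ hlt hl hp'
      refine ⟨(H37.Chev.dataE7 F).X.M.simple i * u, j, ?_⟩
      rw [act_mul _ _ (simple_lt (H37.Chev.dataE7 F).X.good j), hj]
      exact (act_simple (hC := (H37.Chev.dataE7 F).X.good) i hl).trans
        (sigma_sigma (H37.Chev.dataE7 F).X.good i hs)

/-- Extension of parameters. -/
def padU {K : Type*} [CommMonoid K] : (Fin 6 → K) →* (Fin 7 → K) where
  toFun c := Fin.snoc c 1
  map_one' := funext fun i => by
    induction i using Fin.lastCases with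
    | last => rw [Fin.snoc_last, Pi.one_apply]
    | cast i => rw [Fin.snoc_castSucc, Pi.one_apply, Pi.one_apply]
  map_mul' a b := funext fun i => by
    induction i using Fin.lastCases with
    | last => rw [Pi.mul_apply, Fin.snoc_last, Fin.snoc_last, Fin.snoc_last, one_mul]
    | cast i => rw [Pi.mul_apply, Fin.snoc_castSucc, Fin.snoc_castSucc, Fin.snoc_castSucc, Pi.mul_apply]

theorem padU_last {K : Type*} [CommMonoid K] (c : Fin 6 → K) : padU c (Fin.last 6) = 1 :=
  Fin.snoc_last (α := fun _ => K) 1 c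

theorem padU_castSucc {K : Type*} [CommMonoid K] (c : Fin 6 → K) (i : Fin 6) :
    padU c i.castSucc = c i :=
  Fin.snoc_castSucc (α := fun _ => K) 1 c i

theorem padU_powTuple {K : Type*} [Field K] (ω : Kˣ) (a : Fin 6 → ℤ) :
    padU (powTuple ω a) = powTuple ω (pad a) := by
  funext i
  induction i using Fin.lastCases with
  | last =>
    rw [padU_last]
    show 1 = ω ^ pad a (Fin.last 6)
    rw [pad_last, zpow_zero]
  | cast i =>
    rw [padU_castSucc]
    show ω ^ a i = ω ^ pad a i.castSucc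
    rw [pad_castSucc]

section Ext

variable {K : Type*} [Field K]
  {Fr6 : Frame (H37.Chev.dataE6 K) (chevE6.SteinbergGroup K)}
  {Fr7 : Frame (H37.Chev.dataE7 K) (chevE7.SteinbergGroup K)}
  (hS6 : Fr6.S = (H38.St.stFull (H37.Chev.dataE6 K).K adjE6).rsys relE6 H38.St.st_gen)
  (ht6 : ∀ (m : Fin (H37.Chev.dataE6 K).X.n) (t : Kˣ),
    Fr6.tor (Pi.mulSingle m t) = (H38.St.stFull (H37.Chev.dataE6 K).K adjE6 (F := K)).hS m (t : K))
  (hS7 : Fr7.S = (H38.St.stFull (H37.Chev.dataE7 K).K adjE7).rsys relE7 H38.St.st_gen)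
  (ht7 : ∀ (m : Fin (H37.Chev.dataE7 K).X.n) (t : Kˣ),
    Fr7.tor (Pi.mulSingle m t) = (H38.St.stFull (H37.Chev.dataE7 K).K adjE7 (F := K)).hS m (t : K))

omit hS6 ht6 hS7 ht7

theorem emb_N {i : ℕ} (hi : i < chevE6.rank) (t : K) :
    emb K ((H38.St.stFull (H37.Chev.dataE6 K).K adjE6).N (chevE6.simple i) t)
      = (H38.St.stFull (H37.Chev.dataE7 K).K adjE7).N (chevE7.simple i) t := by
  have hp : chevE6.simple i < chevE6.nroots := ((H37.Chev.dataE6 K).K.simple_lt i hi).1
  show emb K (chevE6.stGen K (chevE6.simple i) t * chevE6.stGen K (chevE6.neg (chevE6.simple i)) (-t⁻¹)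
      * chevE6.stGen K (chevE6.simple i) t)
    = chevE7.stGen K (chevE7.simple i) t * chevE7.stGen K (chevE7.neg (chevE7.simple i)) (-t⁻¹)
      * chevE7.stGen K (chevE7.simple i) t
  rw [map_mul, map_mul, emb_stGen K hp, emb_stGen K (embR_lt hp).2.2, ← (embR_lt hp).2.1,
    embR_simple hi]

include ht6 ht7 in
theorem emb_tor (c : Fin 6 → Kˣ) : emb K (Fr6.tor c) = Fr7.tor (padU c) := by
  classical
  refine DFunLike.congr_fun (H38.St.hom_ext_pi ((emb K).comp Fr6.tor)
    (Fr7.tor.comp (padU (K := Kˣ))) fun (m : Fin 6) t => ?_) c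
  have hp : padU (Pi.mulSingle m t) = Pi.mulSingle m.castSucc t := by
    funext i
    induction i using Fin.lastCases with
    | last =>
      rw [padU_last, Pi.mulSingle_eq_of_ne (Fin.castSucc_lt_last m).ne']
    | cast i =>
      rw [padU_castSucc]
      simp [Pi.mulSingle_apply, Fin.castSucc_inj]
  show emb K (Fr6.tor (Pi.mulSingle m t)) = Fr7.tor (padU (Pi.mulSingle m t))
  rw [hp]
  refine Eq.trans (congrArg (emb K) (ht6 m t)) (Eq.trans ?_ (ht7 m.castSucc t).symm)
  rw [H38.St.Full.hS, H38.St.Full.hS, map_mul, emb_N m.isLt, emb_N m.isLt]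
  rfl

include hS6 hS7 in
theorem emb_ns {i : ℕ} (hi : i < chevE6.rank) : emb K (Fr6.S.ns i) = Fr7.S.ns i := by
  rw [hS6, hS7]
  exact emb_N hi 1

theorem cvec_fixed : ∀ i : Fin 6, cartanE7.mulVec cvec i.castSucc = 0 := by decide +kernel

theorem cart_pad (a : Fin 6 → ℤ) (i : Fin 6) :
    cartanE7.mulVec (pad a) i.castSucc = cartanE6.mulVec a i := by
  have h := pad_pair (Pi.single i 1) a
  rw [single_one_dotProduct] at h
  rw [← h, show pad (Pi.single i (1 : ℤ)) = Pi.single i.castSucc 1 from funext fun j => by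
    induction j using Fin.lastCases with
    | last => rw [pad_last, Pi.single_eq_of_ne (Fin.castSucc_lt_last i).ne']
    | cast j => rw [pad_castSucc]; simp [Pi.single_apply, Fin.castSucc_inj], single_one_dotProduct]

include hS6 ht6 hS7 ht7 in
theorem emb_rep : ∀ w : (H37.Chev.dataE6 K).X.M.Group,
    ∃ w' : (H37.Chev.dataE7 K).X.M.Group, ∃ h ∈ Fr7.S.H, emb K (Fr6.S.rep w) = h * Fr7.S.rep w' ∧
      (∀ a : Fin 6 → ℤ, (wm7 w').mulVec (pad a) = pad ((wm w).mulVec a)) ∧
      (wm7 w').mulVec cvec = cvec := by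
  have hH : ∀ h ∈ Fr6.S.H, emb K h ∈ Fr7.S.H := fun h hh => by
    obtain ⟨c, rfl⟩ := Fr6.exists_tor hh
    have e := emb_tor ht6 ht7 c
    exact e ▸ Fr7.tor_mem _
  intro w
  refine Sys.gen_induction (M := (H37.Chev.dataE6 K).X.M) (p := fun w =>
    ∃ w' : (H37.Chev.dataE7 K).X.M.Group, ∃ h ∈ Fr7.S.H, emb K (Fr6.S.rep w) = h * Fr7.S.rep w' ∧
      (∀ a : Fin 6 → ℤ, (wm7 w').mulVec (pad a) = pad ((wm w).mulVec a)) ∧
      (wm7 w').mulVec cvec = cvec) ?_ ?_ w
  · refine ⟨1, 1, one_mem _, ?_, fun a => ?_, ?_⟩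
    · rw [Fr6.S.rep_one, map_one, Fr7.S.rep_one, mul_one]
    · rw [wm7_one, wm_one, one_mulVec, one_mulVec]
    · rw [wm7_one, one_mulVec]
  · intro i w ⟨w', h, hh, e, hp, hc⟩
    obtain ⟨k, hk, ek⟩ := Fr6.S.ns_rep (i := i) w
    let i6 : Fin 6 := i
    let i7 : Fin (H37.Chev.dataE7 K).X.n := i6.castSucc
    obtain ⟨k', hk', ek'⟩ := Fr7.S.ns_rep (i := i7) w'
    refine ⟨(H37.Chev.dataE7 K).X.M.simple i7 * w',
      (emb K k)⁻¹ * (Fr7.S.ns i7 * h * (Fr7.S.ns i7)⁻¹) * k',
      mul_mem (mul_mem (inv_mem (hH k hk)) (Fr7.S.n_conj_H i7 i7.isLt h hh)) hk', ?_, fun a => ?_, ?_⟩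
    · rw [mul_assoc _ k', ← ek',
        show Fr6.S.rep ((H37.Chev.dataE6 K).X.M.simple i * w) = k⁻¹ * (Fr6.S.ns i * Fr6.S.rep w) by
          rw [ek]; group,
        map_mul, map_mul, map_inv, e, emb_ns hS6 hS7 (i := (i : ℕ)) i6.isLt,
        show ((i7 : ℕ)) = (i : ℕ) from rfl]
      group
    · rw [wm7_mul, ← mulVec_mulVec, hp, wm_mul, ← mulVec_mulVec]
      refine (wm7_simple i6.castSucc _).trans ?_
      refine Eq.trans ?_ (congrArg pad (wm_simple i6 _)).symm
      rw [cart_pad, sub_eq_add_neg, sub_eq_add_neg, pad_add, ← neg_smul, ← neg_smul, pad_smul,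
        show pad (Pi.single i6 (1 : ℤ)) = Pi.single i6.castSucc 1 from funext fun j => by
          induction j using Fin.lastCases with
          | last => rw [pad_last, Pi.single_eq_of_ne (Fin.castSucc_lt_last i6).ne']
          | cast j => rw [pad_castSucc]; simp [Pi.single_apply, Fin.castSucc_inj]]
    · rw [wm7_mul, ← mulVec_mulVec, hc]
      refine (wm7_simple i6.castSucc _).trans ?_
      rw [cvec_fixed, zero_smul, sub_zero]

end Ext

end Cfsg.Agent.Chevalley.TwTorus.Sc
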