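import Cfsg.Agent.Chevalley.TwTorus.Sc.Frame
import Cfsg.Agent.Chevalley.TwTorus.Main

/-!
A semilinear automorphism fixing a root and its negative is twisted by the reflection.
-/
set_option autoImplicit false
set_option linter.style.haveILetI false
set_option linter.unusedSectionVars false

namespace Cfsg.Agent.Chevalley.TwTorus.Sc

open Cfsg.Lie Cfsg.Agent.H37 Cfsg.Agent.H37.RootSys Cfsg.Agent.Chevalley.Weights Matrix

variable {D : ChevalleyDatum} {E : Type*} [Field E] [Finite E] {Q : H37.Chev.Data D E}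
  {G : Type*} [Group G] (Fr : Frame Q G)

namespace Frame

/-- An automorphism semilinear on the torus is semilinear on a root subgroup it moves to another. -/
theorem semilinear_x {ω : Eˣ} (hω : ∀ u : Eˣ, u ∈ Subgroup.zpowers ω) {τ : MulAut G} {N : ℕ}
    (hN : 0 < N) {M : Matrix (Fin Q.X.n) (Fin Q.X.n) ℤ}
    (hτ : ∀ a, τ (Fr.tor (powTuple ω a)) = Fr.tor (powTuple ω ((N : ℤ) • M.mulVec a)))
    {s s' : ℕ} (hs : s < D.nroots) (hs' : s' < D.nroots)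
    (hpr : ∀ a, pr Q.X.n D s' (M.mulVec a) = pr Q.X.n D s a) (hprim : ∃ a, pr Q.X.n D s a = 1)
    (hx : ∀ u, ∃ u', τ (Fr.S.x s u) = Fr.S.x s' u') :
    ∃ c : Eˣ, ∀ u : E, τ (Fr.S.x s u) = Fr.S.x s' ((c : E) * u ^ N) := by
  obtain ⟨a₀, ha₀⟩ := hprim
  obtain ⟨c, hc⟩ := hx 1
  have hc0 : c ≠ 0 := by
    rintro rfl
    rw [Fr.S.x_zero' hs'] at hc
    exact one_ne_zero (Fr.x_inj s hs (((map_eq_one_iff τ τ.injective).1 hc).trans
      (Fr.S.x_zero' hs).symm))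
  refine ⟨Units.mk0 c hc0, fun u => ?_⟩
  by_cases hu : u = 0
  · rw [hu, Fr.S.x_zero' hs, map_one, zero_pow hN.ne', mul_zero, Fr.S.x_zero' hs']
  obtain ⟨k, hk⟩ := Subgroup.mem_zpowers_iff.1 (hω (Units.mk0 u hu))
  have h1 : Fr.S.x s u = Fr.tor (powTuple ω (k • a₀)) * Fr.S.x s 1 *
      (Fr.tor (powTuple ω (k • a₀)))⁻¹ := by
    rw [Fr.tor_conj_x ω _ hs, pr_smul, ha₀, mul_one, mul_one, hk, Units.val_mk0]
  have h2 : pr Q.X.n D s' ((N : ℤ) • M.mulVec (k • a₀)) = k * N := by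
    rw [pr_smul, hpr, pr_smul, ha₀, mul_one, mul_comm]
  rw [h1, map_mul, map_mul, map_inv, hτ, hc, Fr.tor_conj_x ω _ hs', h2, _root_.zpow_mul, hk,
    zpow_natCast, Units.val_pow_eq_pow_val, Units.val_mk0, Units.val_mk0, mul_comm]

/-- The twist by a reflection. -/
theorem exists_twist {ω : Eˣ} (hω : ∀ u : Eˣ, u ∈ Subgroup.zpowers ω) {σ : MulAut G} {N : ℕ}
    (hN : 1 < N) (hcard : Nat.card E = N ^ 4) (i : Fin Q.X.n)
    {M : Matrix (Fin Q.X.n) (Fin Q.X.n) ℤ}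
    (hT : ∀ a, σ (Fr.tor (powTuple ω a)) = Fr.tor (powTuple ω ((N : ℤ) • M.mulVec a)))
    (hpr : ∀ a, pr Q.X.n D (D.simple i) (M.mulVec a) = pr Q.X.n D (D.simple i) a)
    (hprim : ∃ a, pr Q.X.n D (D.simple i) a = 1)
    (hpos : ∀ u, ∃ u', σ (Fr.S.x (D.simple i) u) = Fr.S.x (D.simple i) u')
    (hneg : ∀ u, ∃ u', σ (Fr.S.x (Q.X.C.sigma i (D.simple i)) u)
      = Fr.S.x (Q.X.C.sigma i (D.simple i)) u')
    (hns : ∃ w, ∃ h ∈ Fr.S.H, σ (Fr.S.ns i) = h * Fr.S.rep w)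
    (hσ : ∀ y, σ (σ (σ (σ y))) = y) :
    ∃ z v : E, ∃ h ∈ Fr.S.H,
      (Fr.S.x (Q.X.C.sigma i (D.simple i)) z * Fr.S.x (D.simple i) v)⁻¹ *
        σ (Fr.S.x (Q.X.C.sigma i (D.simple i)) z * Fr.S.x (D.simple i) v) = h * Fr.S.ns i := by
  classical
  haveI := Q.X.good.finite
  set α := D.simple i with hαdef
  set α' := Q.X.C.sigma i α with hα'def
  have hα : α < D.nroots := simple_lt Q.X.good i
  have hα' : α' < D.nroots := sigma_lt Q.X.good i hα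
  have hneg' : α' = D.nroots - 1 - α := sigma_simple Q.X.good i
  have hN0 : 0 < N := by omega
  obtain ⟨a₀, ha₀⟩ := hprim
  obtain ⟨ca, hca⟩ := Fr.semilinear_x hω hN0 hT hα hα hpr ⟨a₀, ha₀⟩ hpos
  obtain ⟨cb, hcb⟩ := Fr.semilinear_x hω hN0 hT hα' hα'
    (fun a => by rw [hneg', pr_neg Q hα, pr_neg Q hα, hpr])
    ⟨-a₀, by rw [hneg', pr_neg Q hα, ← neg_one_smul ℤ a₀, pr_smul, ha₀]; rfl⟩ hneg
  set m := Nat.card Eˣ with hm
  have hmE : m = N ^ 4 - 1 := by rw [hm, Nat.card_units, hcard]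
  have hωord : orderOf ω = m := orderOf_eq_card_of_forall_mem_zpowers hω
  have hωz : ∀ k : ℤ, ω ^ k = 1 ↔ (m : ℤ) ∣ k := fun k => by
    rw [← orderOf_dvd_iff_zpow_eq_one, hωord]
  have hpow4 : cb ^ ((1 + N) * (N ^ 2 + 1)) = 1 := by
    have h := hσ (Fr.S.x α' 1)
    rw [hcb, hcb, hcb, hcb] at h
    refine Units.ext ((Eq.trans ?_ (Fr.x_inj α' hα' h)))
    rw [Units.val_pow_eq_pow_val]
    ring
  obtain ⟨k, hk⟩ := Subgroup.mem_zpowers_iff.1 (hω (cb ^ (1 + N))⁻¹)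
  have h1N : 1 ≤ N ^ 4 := Nat.one_le_pow _ _ hN0
  have hmZ : (m : ℤ) = ((N : ℤ) ^ 2 - 1) * ((N : ℤ) ^ 2 + 1) := by
    rw [hmE, Nat.cast_sub h1N]; push_cast; ring
  have hN2 : (0 : ℤ) < (N : ℤ) ^ 2 + 1 := by positivity
  have hN4 : (4 : ℤ) ≤ (N : ℤ) ^ 2 := by
    have : (2 : ℤ) ≤ N := by exact_mod_cast hN
    nlinarith
  obtain ⟨l, hl⟩ : ((N : ℤ) ^ 2 - 1) ∣ k := by
    have h : (m : ℤ) ∣ k * ((N : ℤ) ^ 2 + 1) := by
      rw [← hωz, _root_.zpow_mul, hk, show (N : ℤ) ^ 2 + 1 = ((N ^ 2 + 1 : ℕ) : ℤ) by norm_cast,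
        zpow_natCast, inv_pow, ← pow_mul, hpow4, inv_one]
    rw [hmZ] at h
    exact Int.dvd_of_mul_dvd_mul_right hN2.ne' h
  have hfix2 : ∀ j : ℤ, cb * (cb * (ω ^ (l + ((N : ℤ) ^ 2 + 1) * j)) ^ N) ^ N
      = ω ^ (l + ((N : ℤ) ^ 2 + 1) * j) := by
    intro j
    set e := l + ((N : ℤ) ^ 2 + 1) * j
    have h1 : (ω ^ e) ^ (N ^ 2) = ω ^ e * ω ^ k := by
      rw [← zpow_natCast (ω ^ e), ← _root_.zpow_mul, ← _root_.zpow_add, ← mul_inv_eq_one,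
        ← _root_.zpow_sub, hωz, hmZ]
      refine ⟨j, ?_⟩
      push_cast [e, hl]
      ring
    rw [mul_pow, ← pow_mul (ω ^ e), ← sq, h1, hk, ← mul_assoc cb, ← pow_succ',
      add_comm 1 N, mul_left_comm, mul_inv_cancel, mul_one]
  obtain ⟨e, he⟩ : ∃ e : ℤ, cb * (cb * (ω ^ e) ^ N) ^ N = ω ^ e ∧ cb * (ω ^ e) ^ N ≠ ω ^ e := by
    by_cases h0 : cb * (ω ^ l) ^ N = ω ^ l
    · refine ⟨l + ((N : ℤ) ^ 2 + 1) * 1, hfix2 1, fun h1 => ?_⟩
      rw [_root_.zpow_add, mul_pow, ← mul_assoc, h0] at h1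
      have h2 := mul_left_cancel h1
      rw [← zpow_natCast (ω ^ _), ← _root_.zpow_mul, ← mul_inv_eq_one, ← _root_.zpow_sub, hωz,
        hmZ, show ((N : ℤ) ^ 2 + 1) * 1 * (N : ℤ) - ((N : ℤ) ^ 2 + 1) * 1
          = ((N : ℤ) - 1) * ((N : ℤ) ^ 2 + 1) by ring] at h2
      have h3 := Int.le_of_dvd (by
        have : (2 : ℤ) ≤ N := by exact_mod_cast hN
        omega) (Int.dvd_of_mul_dvd_mul_right hN2.ne' h2)
      nlinarith
    · exact ⟨l, by simpa using hfix2 0, h0⟩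
  set z : E := ((ω ^ e : Eˣ) : E)
  set z' : E := (cb : E) * z ^ N with hz'
  have hz2 : (cb : E) * z' ^ N = z := by
    have := congrArg Units.val he.1
    simpa [z', z] using this
  have hd : z' - z ≠ 0 := fun h => he.2 (Units.ext (by simpa [z', z] using sub_eq_zero.1 h))
  set d := z' - z with hd'
  have hσd : σ (Fr.S.x α' d) = Fr.S.x α' (-d) := by
    have e1 : Fr.S.x α' d * Fr.S.x α' z = Fr.S.x α' z' := by
      rw [← Fr.S.x_add' α' hα', hd', sub_add_cancel]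
    have e2 := congrArg σ e1
    rw [map_mul, hcb z, hcb z', hz2, ← hz'] at e2
    have e3 : Fr.S.x α' (-d) * Fr.S.x α' z' = Fr.S.x α' z := by
      rw [← Fr.S.x_add' α' hα', hd']; congr 1; ring
    exact mul_right_cancel (e2.trans e3.symm)
  obtain ⟨A, B, h, hh, hAB⟩ := Fr.S.sl2 i i.isLt d hd
  change Fr.S.x α' d = Fr.S.x α A * h * Fr.S.ns i * Fr.S.x α B at hAB
  have hninv : ∀ t, Fr.S.x α' (-t) = (Fr.S.x α' t)⁻¹ := fun t =>
    eq_inv_of_mul_eq_one_left (by rw [← Fr.S.x_add' α' hα', neg_add_cancel, Fr.S.x_zero' hα'])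
  have hainv : ∀ t, Fr.S.x α (-t) = (Fr.S.x α t)⁻¹ := fun t =>
    eq_inv_of_mul_eq_one_left (by rw [← Fr.S.x_add' α hα, neg_add_cancel, Fr.S.x_zero' hα])
  -- `B + σ A = 0`
  have hBA : Fr.S.x α (-B) = σ (Fr.S.x α A) := by
    obtain ⟨w, k₁, hk₁, hw⟩ := hns
    have hσh : σ h ∈ Fr.S.H := by
      obtain ⟨c, rfl⟩ := Fr.exists_tor hh
      choose a ha using fun j => Subgroup.mem_zpowers_iff.1 (hω (c j))
      rw [show c = powTuple ω a from funext fun j => (ha j).symm, hT]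
      exact Fr.tor_mem _
    obtain ⟨k₂, hk₂, hk₂'⟩ := Fr.S.ns_rep (i := i) 1
    rw [Fr.S.rep_one, mul_one, mul_one] at hk₂'
    set s := Q.X.M.simple i
    set K := σ h * k₁
    have hK : K ∈ Fr.S.H := mul_mem hσh hk₁
    set K' := (Fr.S.ns i * Fr.S.ns i)⁻¹ * (Fr.S.ns i * h⁻¹ * (Fr.S.ns i)⁻¹) * k₂
    have hK' : K' ∈ Fr.S.H := mul_mem (mul_mem (inv_mem (Fr.S.sq i i.isLt))
      (Fr.S.n_conj_H i i.isLt _ (inv_mem hh))) hk₂
    have h1 : Fr.S.x α ((ca : E) * A ^ N) * K * Fr.S.rep w * Fr.S.x α ((ca : E) * B ^ N)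
        = Fr.S.x α (-B) * K' * Fr.S.rep s * Fr.S.x α (-A) := by
      have l1 : σ (Fr.S.x α' d)
          = Fr.S.x α ((ca : E) * A ^ N) * K * Fr.S.rep w * Fr.S.x α ((ca : E) * B ^ N) := by
        rw [hAB, map_mul, map_mul, map_mul, hca, hca, hw]
        simp only [K, mul_assoc]
      rw [← l1, hσd, hninv, hAB, hainv, hainv,
        mul_assoc (Fr.S.x α B)⁻¹ K',
        show K' * Fr.S.rep s = (Fr.S.ns i * Fr.S.ns i)⁻¹ * (Fr.S.ns i * h⁻¹ * (Fr.S.ns i)⁻¹) *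
          Fr.S.ns i by rw [show K' = _ from rfl, mul_assoc _ k₂, ← hk₂']]
      group
    set p := -((ca : E) * A ^ N) + -B
    set p' := -A + -((ca : E) * B ^ N)
    obtain ⟨p₂, hp₂⟩ := Fr.S.h_conj _ (inv_mem hK) α hα p
    have h2 : 1 * 1 * Fr.S.rep w * 1
        = Fr.S.x α p₂ * (K⁻¹ * K') * Fr.S.rep s * Fr.S.x α p' := by
      rw [← hp₂, show Fr.S.x α p = Fr.S.x α (-((ca : E) * A ^ N)) * Fr.S.x α (-B) from
        Fr.S.x_add' α hα _ _, show Fr.S.x α p' = Fr.S.x α (-A) * Fr.S.x α (-((ca : E) * B ^ N)) from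
        Fr.S.x_add' α hα _ _, hainv ((ca : E) * A ^ N), hainv ((ca : E) * B ^ N)]
      rw [one_mul, one_mul, mul_one]
      calc Fr.S.rep w = K⁻¹ * (Fr.S.x α ((ca : E) * A ^ N))⁻¹ *
            (Fr.S.x α ((ca : E) * A ^ N) * K * Fr.S.rep w * Fr.S.x α ((ca : E) * B ^ N)) *
            (Fr.S.x α ((ca : E) * B ^ N))⁻¹ := by group
        _ = _ := by rw [h1]; group
    have hpos' := simple_pos Q.X.good i
    have hflip : α ∈ (↑(Sys.flip Q.X.good s) : Set ℕ) :=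
      Sys.mem_flip.2 ⟨hα, hpos', by
        have e1 := act_simple (hC := Q.X.good) i hα
        have e2 : α' < D.nroots / 2 := sigma_simple_neg Q.X.good i
        change act Q.X.good (Q.X.M.simple i) α = α' at e1
        rw [act_eq _ hα] at e1
        show (Q.X.good.hom (Q.X.M.simple i) ⟨α, hα⟩).val < _
        omega⟩
    obtain ⟨-, e1, -, -⟩ := Fr.S.normalForm.unique (w := w) (w' := s) (one_mem _)
      (Fr.S.x_mem_U hα hpos' p₂) (one_mem _) (mul_mem (inv_mem hK) hK') (one_mem _)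
      (x_mem_XS hflip p') h2
    have hp0 : Fr.S.x α p = 1 := by
      have h3 := hp₂
      rw [← e1, conj_eq_one_iff] at h3
      exact h3
    rw [show p = -((ca : E) * A ^ N) + -B from rfl, Fr.S.x_add' α hα, hainv] at hp0
    rw [hca]
    exact (inv_mul_eq_one.1 hp0).symm
  refine ⟨z, A, h, hh, ?_⟩
  rw [map_mul, ← hBA, hcb z, ← hz', hainv]
  have hd2 : (Fr.S.x α' z)⁻¹ * Fr.S.x α' z' = Fr.S.x α' d := by
    rw [← hninv, ← Fr.S.x_add' α' hα', hd', neg_add_eq_sub]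
  calc (Fr.S.x α' z * Fr.S.x α A)⁻¹ * (Fr.S.x α' z' * (Fr.S.x α B)⁻¹)
      = (Fr.S.x α A)⁻¹ * ((Fr.S.x α' z)⁻¹ * Fr.S.x α' z') * (Fr.S.x α B)⁻¹ := by group
    _ = (Fr.S.x α A)⁻¹ * (Fr.S.x α A * h * Fr.S.ns i * Fr.S.x α B) * (Fr.S.x α B)⁻¹ := by
      rw [hd2, hAB]
    _ = _ := by group

end Frame

end Cfsg.Agent.Chevalley.TwTorus.Sc
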