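import Cfsg.Agent.Chevalley.TwTorus.Sc.E6
import Cfsg.Agent.Chevalley.TwTorus.Sc.Twist

/-!
The lattice of type E7 relative to an element of type E6 with eigenvalues of order twelve and three:
the three orthogonal roots it permutes, and the twisted determinant.
-/
set_option autoImplicit false
set_option maxRecDepth 100000
set_option linter.style.haveILetI false
set_option linter.unusedSectionVars false

namespace Cfsg.Agent.Chevalley.TwTorus.Sc

open Cfsg.Lie Cfsg.Agent.H37 Cfsg.Agent.H37.RootSys Cfsg.Agent.Chevalley.Weights Matrix Polynomial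

/-- A root of E7 as a vector. -/
def vec7 (s : ℕ) : Fin 7 → ℤ := fun i => E7.tab.cf chevE7 s i

/-- An E6 vector in the E7 lattice. -/
def pad (a : Fin 6 → ℤ) : Fin 7 → ℤ := Fin.snoc a 0

/-- Twice the fundamental coweight orthogonal to E6. -/
def cvec : Fin 7 → ℤ := ![2, 3, 4, 6, 5, 4, 3]

/-- The basis adapted to E6. -/
def baseP : Matrix (Fin 7) (Fin 7) ℤ :=
  !![1, 0, 0, 0, 0, 0, 2; 0, 1, 0, 0, 0, 0, 3; 0, 0, 1, 0, 0, 0, 4; 0, 0, 0, 1, 0, 0, 6;
    0, 0, 0, 0, 1, 0, 5; 0, 0, 0, 0, 0, 1, 4; 0, 0, 0, 0, 0, 0, 3]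

theorem det_last {n : ℕ} (N : Matrix (Fin (n + 1)) (Fin (n + 1)) ℤ)
    (h : ∀ i : Fin n, N i.castSucc (Fin.last n) = 0) :
    N.det = N (Fin.last n) (Fin.last n) * (N.submatrix Fin.castSucc Fin.castSucc).det := by
  rw [det_succ_column N (Fin.last n), Fin.sum_univ_castSucc,
    Finset.sum_eq_zero fun i _ => by rw [h i]; simp, zero_add, Fin.succAbove_last]
  simp [← two_mul, pow_mul]

theorem det_baseP : baseP.det = 3 := by
  rw [(det_transpose baseP).symm.trans (det_last baseP.transpose (by decide +kernel))]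
  rw [show baseP.transpose.submatrix Fin.castSucc Fin.castSucc = 1 by decide +kernel, det_one,
    mul_one]
  decide +kernel

theorem det_cartanE7 : cartanE7.det = 2 := by
  have h := det_last (baseP.transpose * cartanE7 * baseP) (by decide +kernel)
  rw [show (baseP.transpose * cartanE7 * baseP).submatrix Fin.castSucc Fin.castSucc = cartanE6 by
      decide +kernel,
    show (baseP.transpose * cartanE7 * baseP) (Fin.last 6) (Fin.last 6) = 6 by decide +kernel,
    det_mul, det_mul, det_transpose, det_baseP, det_cartanE6] at h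
  omega

theorem cartanT_E7 {F : Type*} [Field F] : cartanT (H37.Chev.dataE7 F) = cartanE7 := by
  refine Matrix.ext fun i m => ?_
  show chevE7.cartan m.val (chevE7.simple i.val) = _
  exact of_decide_eq_true ((show ∀ i m : Fin 7,
    decide (chevE7.cartan m.val (chevE7.simple i.val) = cartanE7 i m) = true by decide +kernel) i m)

theorem detT_E7 {F : Type*} [Field F] : (cartanT (H37.Chev.dataE7 F)).det ≠ 0 := by
  rw [cartanT_E7]
  exact ne_of_eq_of_ne det_cartanE7 (by norm_num)

theorem pr_simple7 (i : Fin 7) (a : Fin 7 → ℤ) :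
    pr 7 chevE7 (chevE7.simple i) a = cartanE7.mulVec a i := by
  rw [← cartanT_E7 (F := ZMod 2)]
  exact Finset.sum_congr rfl fun m _ => mul_comm _ _

theorem pr_vec {s : ℕ} (hs : s < chevE7.nroots) (a : Fin 7 → ℤ) :
    pr 7 chevE7 s a = dotProduct (vec7 s) (cartanE7.mulVec a) := by
  refine (pr_cartan (H37.Chev.dataE7 (ZMod 2)) hs a).trans ?_
  exact Finset.sum_congr rfl fun i _ => congrArg (E7.tab.cf chevE7 s i * ·) (pr_simple7 i a)

theorem cartanE7_symm : cartanE7.transpose = cartanE7 := by decide +kernel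

theorem cartanE7_comm (x y : Fin 7 → ℤ) :
    dotProduct x (cartanE7.mulVec y) = dotProduct y (cartanE7.mulVec x) := by
  rw [dotProduct_mulVec, ← mulVec_transpose, cartanE7_symm, dotProduct_comm]

theorem vec_norm : ∀ s : Fin 126, dotProduct (vec7 s.val) (cartanE7.mulVec (vec7 s.val)) = 2 := by
  decide +kernel

theorem vec_last : ∀ s : Fin 126,
    vec7 s.val (Fin.last 6) = 1 ∨ vec7 s.val (Fin.last 6) = 0 ∨ vec7 s.val (Fin.last 6) = -1 := by
  decide +kernel

theorem vec_inj : ∀ s t : Fin 126, vec7 s.val = vec7 t.val → s = t := by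
  decide +kernel

theorem vec_pair_le : ∀ s t : Fin 126, vec7 s.val (Fin.last 6) = 1 → vec7 t.val (Fin.last 6) = 1 →
    s = t ∨ dotProduct (vec7 s.val) (cartanE7.mulVec (vec7 t.val)) ≤ 1 := by
  decide +kernel

theorem card_weights : (Finset.univ.filter fun s : Fin 126 => vec7 s.val (Fin.last 6) = 1).card = 27 := by
  decide +kernel

theorem vec_neg {s : ℕ} (hs : s < 126) : vec7 (125 - s) = - vec7 s := by
  revert s
  exact fun {s} hs => (show ∀ s : Fin 126, vec7 (125 - s.val) = - vec7 s.val by decide +kernel) ⟨s, hs⟩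

theorem cartanE7_cvec : cartanE7.mulVec cvec = Pi.single (Fin.last 6) 2 := by decide +kernel

theorem dot_cvec (a : Fin 7 → ℤ) :
    dotProduct a (cartanE7.mulVec cvec) = 2 * a (Fin.last 6) := by
  rw [cartanE7_cvec, dotProduct_single, mul_comm]

theorem pad_last (a : Fin 6 → ℤ) : pad a (Fin.last 6) = 0 := Fin.snoc_last _ _

theorem pad_castSucc (a : Fin 6 → ℤ) (i : Fin 6) : pad a i.castSucc = a i := by simp [pad]

theorem eq_pad {v : Fin 7 → ℤ} (h : v (Fin.last 6) = 0) : v = pad fun i => v i.castSucc := by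
  funext i
  induction i using Fin.lastCases with
  | last => rw [pad_last, h]
  | cast i => rw [pad_castSucc]

theorem pad_add (a b : Fin 6 → ℤ) : pad (a + b) = pad a + pad b := by
  funext i
  induction i using Fin.lastCases with
  | last => rw [Pi.add_apply, pad_last, pad_last, pad_last, add_zero]
  | cast i => rw [Pi.add_apply, pad_castSucc, pad_castSucc, pad_castSucc, Pi.add_apply]

theorem pad_smul (c : ℤ) (a : Fin 6 → ℤ) : pad (c • a) = c • pad a := by
  funext i
  induction i using Fin.lastCases with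
  | last => rw [Pi.smul_apply, pad_last, pad_last, smul_zero]
  | cast i => rw [Pi.smul_apply, pad_castSucc, pad_castSucc, Pi.smul_apply]

theorem pad_pair (x y : Fin 6 → ℤ) :
    dotProduct (pad x) (cartanE7.mulVec (pad y)) = dotProduct x (cartanE6.mulVec y) := by
  have h6 : ∀ z : Fin 6 → ℤ, Fin.snoc (α := fun _ => ℤ) z 0 (6 : Fin 7) = 0 := fun z => pad_last z
  simp [pad, dotProduct, mulVec, Fin.sum_univ_castSucc, cartanE6, cartanE7, h6]

section Weyl

variable {F : Type*} [Field F]

/-- The matrix of a Weyl group element of E7. -/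
noncomputable def wm7 (w : (H37.Chev.dataE7 F).X.M.Group) : Matrix (Fin 7) (Fin 7) ℤ :=
  wmat (H37.Chev.dataE7 F) w

theorem wm7_mul (v w : (H37.Chev.dataE7 F).X.M.Group) : wm7 (v * w) = wm7 v * wm7 w :=
  wmat_mul _ detT_E7 v w

theorem wm7_one : wm7 (1 : (H37.Chev.dataE7 F).X.M.Group) = 1 := wmat_one _ detT_E7

theorem wm7_simple (i : Fin 7) (a : Fin 7 → ℤ) :
    (wm7 ((H37.Chev.dataE7 F).X.M.simple i)).mulVec a
      = a - cartanE7.mulVec a i • Pi.single i 1 := by
  rw [← pr_simple7]
  exact Frame.wmat_simple detT_E7 i a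

theorem vec_sigma : ∀ (i : Fin 7) (s : Fin 126),
    vec7 (H37.Chev.typeE7.C.sigma i.val s.val)
      = vec7 s.val - cartanE7.mulVec (vec7 s.val) i • Pi.single i 1 := by
  decide +kernel

theorem vec_act (w : (H37.Chev.dataE7 F).X.M.Group) : ∀ s, s < chevE7.nroots →
    vec7 (act (H37.Chev.dataE7 F).X.good w s) = (wm7 w).mulVec (vec7 s) := by
  refine Sys.gen_induction (M := (H37.Chev.dataE7 F).X.M)
    (p := fun w => ∀ s, s < chevE7.nroots →
      vec7 (act (H37.Chev.dataE7 F).X.good w s) = (wm7 w).mulVec (vec7 s)) ?_ ?_ w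
  · intro s hs
    rw [act_one _, wm7_one, one_mulVec]
  · intro i w ih s hs
    have hl : act (H37.Chev.dataE7 F).X.good w s < chevE7.nroots :=
      act_lt (hC := (H37.Chev.dataE7 F).X.good) w hs
    rw [act_mul _ _ hs, act_simple i hl, wm7_mul, ← mulVec_mulVec, ← ih s hs]
    exact (vec_sigma i ⟨_, hl⟩).trans (wm7_simple i _).symm

theorem wm7_isom (w : (H37.Chev.dataE7 F).X.M.Group) : ∀ x y : Fin 7 → ℤ,
    dotProduct ((wm7 w).mulVec x) (cartanE7.mulVec ((wm7 w).mulVec y))
      = dotProduct x (cartanE7.mulVec y) := by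
  refine Sys.gen_induction (M := (H37.Chev.dataE7 F).X.M)
    (p := fun w => ∀ x y : Fin 7 → ℤ, dotProduct ((wm7 w).mulVec x) (cartanE7.mulVec ((wm7 w).mulVec y))
      = dotProduct x (cartanE7.mulVec y)) ?_ ?_ w
  · intro x y; rw [wm7_one, one_mulVec, one_mulVec]
  · intro (i : Fin 7) w ih x y
    rw [wm7_mul, ← mulVec_mulVec, ← mulVec_mulVec, wm7_simple, wm7_simple, ← ih x y]
    set a := (wm7 w).mulVec x
    set b := (wm7 w).mulVec y
    have hd : cartanE7.mulVec (Pi.single i 1) i = 2 := by revert i; decide +kernel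
    have hb : ∀ v, dotProduct (Pi.single i 1) (cartanE7.mulVec v) = cartanE7.mulVec v i :=
      fun v => by rw [single_one_dotProduct]
    simp only [mulVec_sub, mulVec_smul, dotProduct_sub, sub_dotProduct, smul_dotProduct,
      dotProduct_smul, hb, cartanE7_comm a (Pi.single i 1), hd, smul_eq_mul]
    ring

end Weyl

/-- The data of a Weyl group element of E7 extending an element of E6 of the given kind. -/
structure Ext6 (F : Type*) [Field F] (w : (H37.Chev.dataE7 F).X.M.Group)
    (W : Matrix (Fin 6) (Fin 6) ℤ) (M : Matrix (Fin 6) (Fin 6) ℤ) : Prop where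
  iso : Iso6 cartanE6 M
  inv₁ : M * W = 1
  inv₂ : W * M = 1
  hpad : ∀ a, (wm7 w).mulVec (pad a) = pad (W.mulVec a)
  hc : (wm7 w).mulVec cvec = cvec

namespace Ext6

variable {F : Type*} [Field F] {w : (H37.Chev.dataE7 F).X.M.Group}
  {W M : Matrix (Fin 6) (Fin 6) ℤ} (X : Ext6 F w W M)
include X

theorem fixed_eq_zero {x : Fin 6 → ℤ} (h : W.mulVec x = x) : x = 0 := by
  have hM : M.mulVec x = x := by
    conv_lhs => rw [← h, mulVec_mulVec, X.inv₁, one_mulVec]
  have hd := X.iso.det_twist6 1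
  rw [one_smul] at hd
  exact eq_zero_of_mulVec_eq_zero (by rw [hd]; norm_num) (by rw [sub_mulVec, one_mulVec, hM, sub_self])

theorem pow_twelve : W ^ 12 = 1 := by
  have h := aeval_self_charpoly M
  rw [X.iso.charpoly_eq, cyclotomic_twelve] at h
  have hfac : (Polynomial.X ^ 12 - 1 : ℤ[X]) =
      (Polynomial.X ^ 4 - Polynomial.X ^ 2 + 1) * (Polynomial.X ^ 2 + Polynomial.X + 1) *
      ((Polynomial.X ^ 2 + 1) * (Polynomial.X + 1) * (Polynomial.X ^ 2 - Polynomial.X + 1) *
        (Polynomial.X - 1)) := by ring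
  have h12 := congrArg (aeval M) hfac
  rw [map_mul, h, zero_mul, map_sub, map_pow, aeval_X, map_one, sub_eq_zero] at h12
  have hc : Commute W M := X.inv₂.trans X.inv₁.symm
  calc W ^ 12 = (W * M) ^ 12 := by rw [hc.mul_pow, h12, mul_one]
    _ = 1 := by rw [X.inv₂, one_pow]

theorem last_preserved (v : Fin 7 → ℤ) : (wm7 w).mulVec v (Fin.last 6) = v (Fin.last 6) := by
  have h := wm7_isom w v cvec
  rw [X.hc, dot_cvec, dot_cvec] at h
  omega

theorem pow_last (v : Fin 7 → ℤ) : ∀ k : ℕ, ((wm7 w) ^ k).mulVec v (Fin.last 6) = v (Fin.last 6) := by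
  intro k
  induction k with
  | zero => rw [pow_zero, one_mulVec]
  | succ k ih => rw [pow_succ', ← mulVec_mulVec, X.last_preserved, ih]

theorem pow7_twelve (v : Fin 7 → ℤ) : ((wm7 w) ^ 12).mulVec v = v := by
  have hp : ∀ (k : ℕ) a, ((wm7 w) ^ k).mulVec (pad a) = pad ((W ^ k).mulVec a) := by
    intro k
    induction k with
    | zero => intro a; rw [pow_zero, pow_zero, one_mulVec, one_mulVec]
    | succ k ih => intro a; rw [pow_succ', ← mulVec_mulVec, ih, X.hpad, mulVec_mulVec, ← pow_succ']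
  have hc : ((wm7 w) ^ 12).mulVec cvec = cvec := by
    have : ∀ k : ℕ, ((wm7 w) ^ k).mulVec cvec = cvec := by
      intro k
      induction k with
      | zero => rw [pow_zero, one_mulVec]
      | succ k ih => rw [pow_succ', ← mulVec_mulVec, ih, X.hc]
    exact this 12
  have hdec : (3 : ℤ) • v = pad (fun i => ((3 : ℤ) • v - v (Fin.last 6) • cvec) i.castSucc)
      + v (Fin.last 6) • cvec := by
    rw [← eq_pad (by simp [cvec, Fin.last]; ring), sub_add_cancel]
  refine smul_right_injective _ (show (3 : ℤ) ≠ 0 by norm_num) ?_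
  show (3 : ℤ) • _ = (3 : ℤ) • v
  rw [← mulVec_smul, hdec, mulVec_add, hp, X.pow_twelve, one_mulVec, mulVec_smul, hc]

/-- There are three orthogonal roots cyclically permuted. -/
theorem exists_triple : ∃ s, s < chevE7.nroots ∧ vec7 s (Fin.last 6) = 1 ∧
    ((wm7 w) ^ 3).mulVec (vec7 s) = vec7 s ∧
    vec7 s + (wm7 w).mulVec (vec7 s) + ((wm7 w) ^ 2).mulVec (vec7 s) = cvec ∧
    dotProduct (vec7 s) (cartanE7.mulVec ((wm7 w).mulVec (vec7 s))) = 0 ∧
    dotProduct (vec7 s) (cartanE7.mulVec (((wm7 w) ^ 2).mulVec (vec7 s))) = 0 := by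
  classical
  have hlt : ∀ {s}, s < 126 → act (H37.Chev.dataE7 F).X.good w s < 126 :=
    fun hs => act_lt (hC := (H37.Chev.dataE7 F).X.good) w hs
  have hv : ∀ s : Fin 126, vec7 (act (H37.Chev.dataE7 F).X.good w s.val)
      = (wm7 w).mulVec (vec7 s.val) := fun s => vec_act w s.val s.isLt
  let f : {s : Fin 126 // vec7 s.val (Fin.last 6) = 1} → {s : Fin 126 // vec7 s.val (Fin.last 6) = 1} :=
    fun s => ⟨⟨_, hlt s.1.isLt⟩, by
      show vec7 (act (H37.Chev.dataE7 F).X.good w s.1.val) (Fin.last 6) = 1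
      rw [hv, X.last_preserved, s.2]⟩
  have hf : ∀ s, vec7 (f s).1.val = (wm7 w).mulVec (vec7 s.1.val) := fun s => hv s.1
  have hfk : ∀ (k : ℕ) s, vec7 (f^[k] s).1.val = ((wm7 w) ^ k).mulVec (vec7 s.1.val) := by
    intro k
    induction k with
    | zero => intro s; rw [Function.iterate_zero, id_eq, pow_zero, one_mulVec]
    | succ k ih => intro s; rw [Function.iterate_succ_apply', hf, ih, mulVec_mulVec, ← pow_succ']
  have h12 : ∀ s, f^[12] s = s := fun s =>
    Subtype.ext (vec_inj _ _ (by rw [hfk, X.pow7_twelve]))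
  let σ : Equiv.Perm {s : Fin 126 // vec7 s.val (Fin.last 6) = 1} :=
    ⟨f^[3], f^[9], fun s => by rw [← Function.iterate_add_apply]; exact h12 s,
      fun s => by rw [← Function.iterate_add_apply]; exact h12 s⟩
  haveI : Fact (Nat.Prime 2) := ⟨Nat.prime_two⟩
  obtain ⟨s, hs⟩ := Equiv.Perm.exists_fixed_point_of_prime (p := 2) (n := 2) (σ := σ)
    (by rw [Fintype.card_subtype, card_weights]; norm_num)
    (Equiv.ext fun s => by
      show (σ ^ 4) s = s
      simp only [pow_succ, pow_zero, one_mul, Equiv.Perm.mul_apply]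
      show f^[3] (f^[3] (f^[3] (f^[3] s))) = s
      rw [← Function.iterate_add_apply, ← Function.iterate_add_apply, ← Function.iterate_add_apply]
      exact h12 s)
  have hs' : f^[3] s = s := hs
  set v := vec7 s.1.val with hvdef
  have h3 : ((wm7 w) ^ 3).mulVec v = v := by
    rw [hvdef, ← hfk, hs']
  set v1 := (wm7 w).mulVec v with hv1
  set v2 := ((wm7 w) ^ 2).mulVec v with hv2
  have hW1 : (wm7 w).mulVec v1 = v2 := by rw [hv1, hv2, mulVec_mulVec, sq]
  have hW2 : (wm7 w).mulVec v2 = v := by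
    rw [hv2, mulVec_mulVec, ← pow_succ']; exact h3
  have hsum : v + v1 + v2 = cvec := by
    have hlast : (v + v1 + v2 - cvec) (Fin.last 6) = 0 := by
      have e1 := X.last_preserved v
      have e2 := X.pow_last v 2
      simp only [Pi.sub_apply, Pi.add_apply]
      rw [hv1, hv2, e1, e2, hvdef, s.2]
      decide +kernel
    have hfix : (wm7 w).mulVec (v + v1 + v2 - cvec) = v + v1 + v2 - cvec := by
      rw [mulVec_sub, mulVec_add, mulVec_add, X.hc, hW1, hW2, ← hv1]; abel
    have hpd := eq_pad hlast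
    rw [hpd, X.hpad] at hfix
    have h0 := X.fixed_eq_zero (funext fun i => by
      have := congrFun hfix i.castSucc
      rwa [pad_castSucc, pad_castSucc] at this)
    rw [h0, show pad (0 : Fin 6 → ℤ) = 0 from funext fun i => Fin.lastCases (pad_last _) (pad_castSucc _) i, sub_eq_zero] at hpd
    exact hpd
  have hn : dotProduct v (cartanE7.mulVec v) = 2 := vec_norm s.1
  have hn1 : dotProduct v1 (cartanE7.mulVec v1) = 2 := by rw [hv1, wm7_isom, hn]
  have hn2 : dotProduct v2 (cartanE7.mulVec v2) = 2 := by rw [← hW1, wm7_isom, hn1]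
  have e12 : dotProduct v1 (cartanE7.mulVec v2) = dotProduct v (cartanE7.mulVec v1) := by
    rw [hv1, ← wm7_isom w v v1, hW1]
  have e20 : dotProduct v2 (cartanE7.mulVec v) = dotProduct v (cartanE7.mulVec v1) := by
    rw [← e12, ← wm7_isom w v1 v2, hW1, hW2]
  have hcc : dotProduct cvec (cartanE7.mulVec cvec) = 6 := by decide +kernel
  rw [← hsum] at hcc
  simp only [mulVec_add, dotProduct_add, add_dotProduct, hn, hn1, hn2, e12, e20,
    cartanE7_comm v1 v, cartanE7_comm v2 v1, cartanE7_comm v v2] at hcc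
  have hp : dotProduct v (cartanE7.mulVec v1) = 0 := by omega
  exact ⟨s.1.val, s.1.isLt, s.2, h3, hsum, hp, (cartanE7_comm v v2).trans (e20.trans hp)⟩

end Ext6

end Cfsg.Agent.Chevalley.TwTorus.Sc
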