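import Cfsg.Agent.Chevalley.TwTorus.Sc.E7Lat

/-!
Consequences of the three orthogonal roots: which roots vanish on the eigenvector, the determinant
of the twist, and the stabiliser.
-/
set_option autoImplicit false
set_option maxRecDepth 100000
set_option linter.style.haveILetI false
set_option linter.unusedSectionVars false

namespace Cfsg.Agent.Chevalley.TwTorus.Sc

open Cfsg.Lie Cfsg.Agent.H37 Cfsg.Agent.H37.RootSys Cfsg.Agent.Chevalley.Weights Matrix Polynomial

/-- Three orthogonal roots cyclically permuted. -/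
structure Tri (F : Type*) [Field F] (w : (H37.Chev.dataE7 F).X.M.Group) (s : Fin 3 → ℕ) : Prop where
  lt : ∀ k, s k < chevE7.nroots
  last : ∀ k, vec7 (s k) (Fin.last 6) = 1
  shift : ∀ k, (wm7 w).mulVec (vec7 (s k)) = vec7 (s (k + 1))
  sum : vec7 (s 0) + vec7 (s 1) + vec7 (s 2) = cvec
  orth : ∀ j k, j ≠ k → dotProduct (vec7 (s j)) (cartanE7.mulVec (vec7 (s k))) = 0

variable {F : Type*} [Field F] {w : (H37.Chev.dataE7 F).X.M.Group}

theorem Ext6.exists_tri {W M : Matrix (Fin 6) (Fin 6) ℤ} (X : Ext6 F w W M) :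
    ∃ s, Tri F w s := by
  obtain ⟨s₀, h₀, hl, h3, hsum, h01, h02⟩ := X.exists_triple
  have hlt : ∀ {s}, s < chevE7.nroots → act (H37.Chev.dataE7 F).X.good w s < chevE7.nroots :=
    fun hs => act_lt (hC := (H37.Chev.dataE7 F).X.good) w hs
  set s₁ := act (H37.Chev.dataE7 F).X.good w s₀
  set s₂ := act (H37.Chev.dataE7 F).X.good w s₁
  have e1 : vec7 s₁ = (wm7 w).mulVec (vec7 s₀) := vec_act w s₀ h₀
  have e2 : vec7 s₂ = ((wm7 w) ^ 2).mulVec (vec7 s₀) := by
    rw [sq, ← mulVec_mulVec, ← e1]; exact vec_act w s₁ (hlt h₀)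
  have h12 : dotProduct (vec7 s₁) (cartanE7.mulVec (vec7 s₂)) = 0 := by
    rw [e1, e2, sq, ← mulVec_mulVec, wm7_isom, h01]
  rw [← e1] at h01
  rw [← e2] at h02
  refine ⟨![s₀, s₁, s₂], ?_, ?_, ?_, by rw [← hsum, ← e1, ← e2]; rfl, ?_⟩
  · intro k
    fin_cases k
    · exact h₀
    · exact hlt h₀
    · exact hlt (hlt h₀)
  · intro k
    fin_cases k
    · exact hl
    · exact (congrFun e1 _).trans ((X.last_preserved _).trans hl)
    · exact (congrFun e2 _).trans ((X.pow_last _ 2).trans hl)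
  · intro k
    fin_cases k
    · exact e1.symm
    · exact (vec_act w s₁ (hlt h₀)).symm
    · show (wm7 w).mulVec (vec7 s₂) = vec7 s₀
      rw [e2, mulVec_mulVec, ← pow_succ']; exact h3
  · intro j k hjk
    fin_cases j <;> fin_cases k <;> simp at hjk
    · exact h01
    · exact h02
    · exact (cartanE7_comm _ _).trans h01
    · exact h12
    · exact (cartanE7_comm _ _).trans h02
    · exact (cartanE7_comm _ _).trans h12

variable {s : Fin 3 → ℕ} (T : Tri F w s)
include T

theorem Tri.self (k : Fin 3) : dotProduct (vec7 (s k)) (cartanE7.mulVec (vec7 (s k))) = 2 :=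
  vec_norm ⟨s k, T.lt k⟩

/-- The part of order dividing the twelfth cyclotomic value is orthogonal to the three roots. -/
theorem Tri.pair_zero {W M : Matrix (Fin 6) (Fin 6) ℤ} (X : Ext6 F w W M) {q : ℕ} {N : ℤ}
    {a : Fin 6 → ℤ} (hq : ∀ j, N ∣ (q : ℤ) * W.mulVec a j - a j)
    (h12 : ∀ j, N ∣ ((q : ℤ) ^ 4 - (q : ℤ) ^ 2 + 1) * a j) (k : Fin 3) :
    N ∣ dotProduct (vec7 (s k)) (cartanE7.mulVec (pad a)) := by
  have hpd : ∀ (y : Fin 6 → ℤ), (∀ j, N ∣ y j) → ∀ k,
      N ∣ dotProduct (vec7 (s k)) (cartanE7.mulVec (pad y)) := fun y hy k =>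
    Finset.dvd_sum fun i _ => dvd_mul_of_dvd_right (dvd_mulVec cartanE7 (v := pad y) (fun j => by
      induction j using Fin.lastCases with
      | last => rw [pad_last]; exact dvd_zero _
      | cast j => rw [pad_castSucc]; exact hy j) i) _
  set p := fun k => dotProduct (vec7 (s k)) (cartanE7.mulVec (pad a)) with hp
  have hstep : ∀ k, N ∣ (q : ℤ) * p k - p (k + 1) := fun k => by
    have h := hpd ((q : ℤ) • W.mulVec a + (-1 : ℤ) • a) (fun j => by simpa [← sub_eq_add_neg] using hq j)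
      (k + 1)
    rw [pad_add, pad_smul, pad_smul, mulVec_add, dotProduct_add, mulVec_smul, mulVec_smul,
      dotProduct_smul, dotProduct_smul, ← X.hpad, ← T.shift k, wm7_isom, T.shift k] at h
    simpa [p, ← sub_eq_add_neg] using h
  have hΦ : ∀ k, N ∣ ((q : ℤ) ^ 4 - (q : ℤ) ^ 2 + 1) * p k := fun k => by
    have h := hpd (((q : ℤ) ^ 4 - (q : ℤ) ^ 2 + 1) • a) (fun j => by simpa using h12 j) k
    rwa [pad_smul, mulVec_smul, dotProduct_smul, smul_eq_mul] at h
  have hS : p 0 + p 1 + p 2 = 0 := by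
    simp only [p]
    rw [← add_dotProduct, ← add_dotProduct, T.sum, cartanE7_comm, dot_cvec, pad_last, mul_zero]
  have h0 := hstep 0
  have h1 := hstep 1
  rw [show (0 : Fin 3) + 1 = 1 from rfl] at h0
  rw [show (1 : Fin 3) + 1 = 2 from rfl] at h1
  have key : N ∣ p 0 := by
    obtain ⟨k0, hk0⟩ := h0
    obtain ⟨k1, hk1⟩ := h1
    obtain ⟨kΦ, hkΦ⟩ := hΦ 0
    -- `(q² + q + 1) p₀ ≡ 0`, hence `2 q² p₀ ≡ 0`
    have e : ((q : ℤ) ^ 2 + (q : ℤ) + 1) * p 0 = N * (k1 + ((q : ℤ) + 1) * k0) := by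
      linear_combination hk1 + ((q : ℤ) + 1) * hk0 + hS
    rcases Int.emod_two_eq_zero_or_one ((q : ℤ) ^ 2) with h | h
    · obtain ⟨c, hc⟩ := Int.dvd_of_emod_eq_zero h
      refine ⟨((q : ℤ) ^ 2 + 1) * kΦ - c * (q : ℤ) ^ 2 *
        (((q : ℤ) ^ 2 - q + 1) * (k1 + ((q : ℤ) + 1) * k0) - kΦ), ?_⟩
      linear_combination ((q : ℤ) ^ 2 + 1) * hkΦ
        - c * (q : ℤ) ^ 2 * (((q : ℤ) ^ 2 - q + 1) * e - hkΦ) - (q : ℤ) ^ 4 * p 0 * hc
    · obtain ⟨c, hc⟩ : (2 : ℤ) ∣ (q : ℤ) ^ 2 - 1 := by omega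
      refine ⟨kΦ - c * (((q : ℤ) ^ 2 - q + 1) * (k1 + ((q : ℤ) + 1) * k0) - kΦ), ?_⟩
      linear_combination hkΦ - c * (((q : ℤ) ^ 2 - q + 1) * e - hkΦ) - ((q : ℤ) ^ 2) * p 0 * hc
  fin_cases k
  · exact key
  · have := dvd_sub (dvd_mul_of_dvd_right key (q : ℤ)) h0
    simpa using this
  · have h1' := dvd_sub (dvd_mul_of_dvd_right key (q : ℤ)) h0
    rw [sub_sub_cancel] at h1'
    have := dvd_sub (dvd_mul_of_dvd_right h1' (q : ℤ)) h1
    simpa using this

/-- The roots vanishing on the eigenvector. -/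
theorem Tri.roots_zero {W M : Matrix (Fin 6) (Fin 6) ℤ} (X : Ext6 F w W M) {q r : ℕ}
    [hr : Fact r.Prime] (hr13 : 13 ≤ r) (hrq : (r : ℤ) ∣ (q : ℤ) ^ 4 - (q : ℤ) ^ 2 + 1)
    {b : Fin 6 → ℤ} (hb : ∃ j, ¬ (r : ℤ) ∣ b j)
    (hMb : ∀ j, (r : ℤ) ∣ (q : ℤ) * b j - M.mulVec b j) {t : ℕ} (ht : t < chevE7.nroots)
    (hdiv : (r : ℤ) ∣ dotProduct (vec7 t) (cartanE7.mulVec (pad b))) :
    ∃ k, vec7 t = vec7 (s k) ∨ vec7 t = - vec7 (s k) := by
  have hβ : ∀ k, (r : ℤ) ∣ dotProduct (vec7 (s k)) (cartanE7.mulVec (pad b)) :=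
    T.pair_zero X (q := q) (fun j => by
      have h := dvd_mulVec W (v := (q : ℤ) • b - M.mulVec b) (fun i => by simpa using hMb i) j
      rw [mulVec_sub, mulVec_mulVec, X.inv₂, one_mulVec, mulVec_smul] at h
      simpa using h) (fun j => dvd_mul_of_dvd_left hrq _)
  have hno : ∀ v : Fin 7 → ℤ, v (Fin.last 6) = 0 → dotProduct v (cartanE7.mulVec v) = 2 →
      ¬ (r : ℤ) ∣ dotProduct v (cartanE7.mulVec (pad b)) := by
    intro v hv hn hd
    rw [eq_pad hv, pad_pair] at hn hd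
    exact regular X.iso hr13 hrq hb hMb hn hd
  have hone : ∀ t, t < chevE7.nroots → vec7 t (Fin.last 6) = 1 →
      (r : ℤ) ∣ dotProduct (vec7 t) (cartanE7.mulVec (pad b)) → ∃ k, vec7 t = vec7 (s k) := by
    intro t ht hl hd
    by_contra hne
    push Not at hne
    have hle : ∀ k, dotProduct (vec7 t) (cartanE7.mulVec (vec7 (s k))) ≤ 1 := fun k => by
      have h := vec_pair_le (Fin.mk t (show t < 126 from ht)) (Fin.mk (s k) (T.lt k))
      exact (h hl (T.last k)).resolve_left fun e => hne k (congrArg vec7 (congrArg Fin.val e :))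
    have hsum : dotProduct (vec7 t) (cartanE7.mulVec (vec7 (s 0))) +
        dotProduct (vec7 t) (cartanE7.mulVec (vec7 (s 1))) +
        dotProduct (vec7 t) (cartanE7.mulVec (vec7 (s 2))) = 2 := by
      rw [← dotProduct_add, ← dotProduct_add, ← mulVec_add, ← mulVec_add, T.sum, dot_cvec, hl,
        mul_one]
    obtain ⟨k, hk⟩ : ∃ k, dotProduct (vec7 t) (cartanE7.mulVec (vec7 (s k))) = 1 := by
      by_contra hall
      push Not at hall
      have := hle 0; have := hle 1; have := hle 2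
      have := hall 0; have := hall 1; have := hall 2
      omega
    refine hno (vec7 t - vec7 (s k)) (by rw [Pi.sub_apply, hl, T.last k, sub_self]) ?_
      (by rw [sub_dotProduct]; exact dvd_sub hd (hβ k))
    rw [mulVec_sub, sub_dotProduct, dotProduct_sub, dotProduct_sub, T.self,
      cartanE7_comm (vec7 (s k)), hk, vec_norm ⟨t, ht⟩]
    rfl
  rcases vec_last ⟨t, ht⟩ with h | h | h
  · obtain ⟨k, hk⟩ := hone t ht h hdiv
    exact ⟨k, Or.inl hk⟩
  · exact absurd hdiv (hno _ h (vec_norm ⟨t, ht⟩))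
  · have e := vec_neg (s := t) ht
    have ht' : 125 - t < chevE7.nroots := lt_of_le_of_lt (Nat.sub_le _ _) (by decide +kernel)
    obtain ⟨k, hk⟩ := hone (125 - t) ht' (by rw [e, Pi.neg_apply]; simp only at h; rw [h]; rfl)
      (by rw [e, neg_dotProduct]; exact hdiv.neg_right)
    rw [e] at hk
    exact ⟨k, Or.inr (neg_eq_iff_eq_neg.1 hk)⟩

omit T in
/-- An element fixing the eigenvector modulo `r` and three roots is trivial. -/
theorem stab7 {r : ℕ} [hr : Fact r.Prime]
    (hrW : ¬ r ∣ Nat.card (H37.Chev.dataE7 F).X.M.Group) {β : Fin 3 → Fin 7 → ℤ}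
    (horth : ∀ j k, j ≠ k → dotProduct (β j) (cartanE7.mulVec (β k)) = 0)
    (hnorm : ∀ k, dotProduct (β k) (cartanE7.mulVec (β k)) = 2)
    (hsum : β 0 + β 1 + β 2 = cvec) {b : Fin 7 → ℤ}
    (hreg : ∀ t, t < chevE7.nroots → (r : ℤ) ∣ dotProduct (vec7 t) (cartanE7.mulVec b) →
      ∃ k, vec7 t = β k ∨ vec7 t = - β k)
    {v : (H37.Chev.dataE7 F).X.M.Group} (hb : ∀ j, (r : ℤ) ∣ (wm7 v).mulVec b j - b j)
    (hβ : ∀ k, (wm7 v).mulVec (β k) = β k) : v = 1 := by
  classical
  haveI := (H37.Chev.dataE7 F).X.good.finite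
  set V := wm7 v
  set o := orderOf v
  have ho : 0 < o := orderOf_pos v
  have hVo : V ^ o = 1 :=
    ((wmat_pow _ detT_E7 v _).symm.trans (congrArg _ (pow_orderOf_eq_one v))).trans
      (wmat_one _ detT_E7)
  set f := ∑ i ∈ Finset.range o, (V ^ i).mulVec b with hf
  have hVf : V.mulVec f = f := by
    rw [hf, Matrix.mulVec_sum]
    simp only [mulVec_mulVec, ← pow_succ']
    have h1 := Finset.sum_range_succ' (fun i => (V ^ i).mulVec b) o
    rw [Finset.sum_range_succ, hVo, pow_zero] at h1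
    exact (add_right_cancel h1).symm
  have hfb : ∀ j, (r : ℤ) ∣ f j - (o : ℤ) * b j := by
    intro j
    have hi : ∀ i : ℕ, ∀ j, (r : ℤ) ∣ (V ^ i).mulVec b j - b j := by
      intro i
      induction i with
      | zero => intro j; simp
      | succ i ih =>
        intro j
        have h1 := dvd_mulVec V ih j
        rw [show (fun j => (V ^ i).mulVec b j - b j) = (V ^ i).mulVec b - b from rfl, mulVec_sub,
          mulVec_mulVec, ← pow_succ', Pi.sub_apply] at h1
        have := dvd_add h1 (hb j)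
        rwa [sub_add_sub_cancel] at this
    rw [hf, Finset.sum_apply, ← Finset.card_range o, Finset.card_range o,
      show (o : ℤ) * b j = ∑ i ∈ Finset.range o, b j by simp, ← Finset.sum_sub_distrib]
    exact Finset.dvd_sum fun i _ => hi i j
  have hro : ¬ (r : ℤ) ∣ (o : ℤ) := fun h =>
    hrW ((Int.natCast_dvd_natCast.1 h).trans (orderOf_dvd_natCard v))
  set f' := (3 : ℤ) • f + (β 0 + β 1 + β 2) with hf'
  have hVf' : V.mulVec f' = f' := by
    rw [hf', mulVec_add, mulVec_smul, hVf, mulVec_add, mulVec_add, hβ, hβ, hβ]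
  have hne : ∀ t, t < chevE7.nroots → dotProduct (vec7 t) (cartanE7.mulVec f') ≠ 0 := by
    intro t ht h0
    by_cases hd : (r : ℤ) ∣ dotProduct (vec7 t) (cartanE7.mulVec b)
    · obtain ⟨k, hk⟩ := hreg t ht hd
      have hk2 : dotProduct (β k) (cartanE7.mulVec (β 0 + β 1 + β 2)) = 2 := by
        simp only [mulVec_add, dotProduct_add]
        match k with
        | 0 => rw [hnorm, horth 0 1 (by decide), horth 0 2 (by decide)]; rfl
        | 1 => rw [hnorm, horth 1 0 (by decide), horth 1 2 (by decide)]; rfl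
        | 2 => rw [hnorm, horth 2 0 (by decide), horth 2 1 (by decide)]; rfl
      rw [hf', mulVec_add, dotProduct_add, mulVec_smul, dotProduct_smul, smul_eq_mul] at h0
      rcases hk with e | e <;> rw [e] at h0
      · omega
      · rw [neg_dotProduct, neg_dotProduct] at h0; omega
    · -- here the pairing with the three roots is small
      rw [hf', mulVec_add, dotProduct_add, mulVec_smul, dotProduct_smul, smul_eq_mul, hsum,
        dot_cvec] at h0
      have hl := vec_last ⟨t, ht⟩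
      have hz : dotProduct (vec7 t) (cartanE7.mulVec f) = 0 := by
        rcases hl with e | e | e <;> (simp only at e; rw [e] at h0; omega)
      have hd2 : (r : ℤ) ∣ dotProduct (vec7 t) (cartanE7.mulVec (f - (o : ℤ) • b)) :=
        Finset.dvd_sum fun i _ => dvd_mul_of_dvd_right
          (dvd_mulVec cartanE7 (v := f - (o : ℤ) • b) (fun j => by simpa using hfb j) i) _
      rw [mulVec_sub, dotProduct_sub, hz, zero_sub, mulVec_smul, dotProduct_smul, smul_eq_mul,
        dvd_neg] at hd2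
      exact hd (((Nat.prime_iff_prime_int.1 hr.out).dvd_or_dvd hd2).resolve_left hro)
  obtain ⟨P, hPbig, hP⟩ := Nat.exists_infinite_primes
    ((∑ t ∈ Finset.range chevE7.nroots, (dotProduct (vec7 t) (cartanE7.mulVec f')).natAbs)
      + Nat.card (H37.Chev.dataE7 F).X.M.Group + 1)
  haveI := Fact.mk hP
  refine stab_eq_one (H37.Chev.dataE7 (ZMod 2)) ?_ detT_E7 (r := P) ?_ (b := f') ?_ (w := v) ?_
  · have h := H37.Chev.diag_E7 (ZMod 2)
    rw [Nat.card_zmod] at h ⊢
    rw [show Nat.gcd 2 (2 - 1) = 1 from rfl, one_mul] at h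
    exact h.trans (by rw [Nat.one_pow, Nat.one_pow])
  · intro h
    have h' : P ∣ Nat.card (H37.Chev.dataE7 F).X.M.Group := h
    have := Nat.le_of_dvd Nat.card_pos h'
    omega
  · intro t ht h
    rw [show pr (H37.Chev.dataE7 (ZMod 2)).X.n chevE7 t f' = _ from pr_vec ht f'] at h
    have h1 := Nat.le_of_dvd (Int.natAbs_pos.2 (hne t ht)) (Int.natCast_dvd.1 h)
    have h2 := Finset.single_le_sum (f := fun t => (dotProduct (vec7 t) (cartanE7.mulVec f')).natAbs)
      (fun _ _ => Nat.zero_le _) (Finset.mem_range.2 ht)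
    omega
  · intro j
    rw [show (wmat (H37.Chev.dataE7 (ZMod 2)) v).mulVec f' = V.mulVec f' from rfl, hVf', sub_self]
    exact dvd_zero _

/-- The twisted determinant. -/
theorem Tri.det_twist {W M : Matrix (Fin 6) (Fin 6) ℤ} (X : Ext6 F w W M) {q : ℕ} (hq : 1 < q)
    {M7 R : Matrix (Fin 7) (Fin 7) ℤ} (hM7 : M7 * wm7 w = 1)
    (hR : ∀ a, R.mulVec a = a - dotProduct (vec7 (s 0)) (cartanE7.mulVec a) • vec7 (s 0)) :
    ((q : ℤ) • (1 : Matrix (Fin 7) (Fin 7) ℤ) - M7 * R).det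
      = ((q : ℤ) ^ 4 - (q : ℤ) ^ 2 + 1) * ((q : ℤ) ^ 3 + 1) := by
  have hinv : ∀ {x y : Fin 7 → ℤ}, (wm7 w).mulVec x = y → M7.mulVec y = x := fun {x y} h => by
    rw [← h, mulVec_mulVec, hM7, one_mulVec]
  set A := (q : ℤ) • (1 : Matrix (Fin 7) (Fin 7) ℤ) - M7
  have hMp : ∀ a, M7.mulVec (pad a) = pad (M.mulVec a) := fun a =>
    hinv (by rw [X.hpad, mulVec_mulVec, X.inv₂, one_mulVec])
  have hA : A.det = ((q : ℤ) ^ 4 - (q : ℤ) ^ 2 + 1) * ((q : ℤ) ^ 2 + q + 1) * ((q : ℤ) - 1) := by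
    have hP0 : ∀ j : Fin 6, baseP.mulVec (Pi.single j.castSucc 1) = pad (Pi.single j 1) := by
      decide +kernel
    have hP6 : baseP.mulVec (Pi.single (Fin.last 6) 1) = cvec := by decide +kernel
    -- the block form
    let Bl : Matrix (Fin 7) (Fin 7) ℤ := Matrix.of fun i j =>
      Fin.lastCases (motive := fun _ => ℤ) (((q : ℤ) - 1) * if i = Fin.last 6 then 1 else 0)
        (fun j => pad (((q : ℤ) • (1 : Matrix (Fin 6) (Fin 6) ℤ) - M).mulVec (Pi.single j 1)) i) j
    have hlast : ∀ i, Bl i (Fin.last 6) = ((q : ℤ) - 1) * if i = Fin.last 6 then 1 else 0 := fun i => by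
      simp only [Bl, Matrix.of_apply, Fin.lastCases_last]
    have hcast : ∀ (i : Fin 7) (j : Fin 6), Bl i j.castSucc
        = pad (((q : ℤ) • (1 : Matrix (Fin 6) (Fin 6) ℤ) - M).mulVec (Pi.single j 1)) i :=
      fun i j => by simp only [Bl, Matrix.of_apply, Fin.lastCases_castSucc]
    have hpadP : ∀ y, baseP.mulVec (pad y) = pad y := by
      intro y
      rw [show baseP = 1 + vecMulVec (cvec - Pi.single (Fin.last 6) 1) (Pi.single (Fin.last 6) 1) by
          decide +kernel, add_mulVec, one_mulVec, vecMulVec_mulVec, single_one_dotProduct, pad_last]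
      simp
    have hAP : A * baseP = baseP * Bl := Matrix.ext_of_mulVec_single fun j => by
      rw [← mulVec_mulVec, ← mulVec_mulVec]
      induction j using Fin.lastCases with
      | last =>
        have e : Bl.mulVec (Pi.single (Fin.last 6) 1) = ((q : ℤ) - 1) • Pi.single (Fin.last 6) 1 := by
          rw [mulVec_single_one]; funext i
          rw [Matrix.col_apply, hlast, Pi.smul_apply, Pi.single_apply, smul_eq_mul]
        rw [e, mulVec_smul, hP6, sub_mulVec, hinv X.hc, smul_mulVec, one_mulVec, sub_smul, one_smul]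
      | cast j =>
        have e : Bl.mulVec (Pi.single j.castSucc 1)
            = pad (((q : ℤ) • (1 : Matrix (Fin 6) (Fin 6) ℤ) - M).mulVec (Pi.single j 1)) := by
          rw [mulVec_single_one]; funext i
          rw [Matrix.col_apply, hcast]
        rw [e, hpadP, hP0, sub_mulVec, hMp, smul_mulVec, one_mulVec, sub_mulVec,
          smul_mulVec, one_mulVec, sub_eq_add_neg (_ • _), sub_eq_add_neg (_ • _), pad_add,
          pad_smul, ← neg_one_smul ℤ (M *ᵥ _), pad_smul, neg_one_smul]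
    have hBl : Bl.det = ((q : ℤ) - 1) * ((q : ℤ) • (1 : Matrix (Fin 6) (Fin 6) ℤ) - M).det := by
      rw [det_last Bl fun i => by rw [hlast, if_neg (Fin.castSucc_lt_last i).ne, mul_zero]]
      congr 1
      · rw [hlast, if_pos rfl, mul_one]
      · congr 1
        refine Matrix.ext fun i j => ?_
        rw [Matrix.submatrix_apply, hcast, pad_castSucc, mulVec_single_one, Matrix.col_apply]
    have h := congrArg Matrix.det hAP
    rw [det_mul, det_mul, det_baseP, hBl, X.iso.det_twist6] at h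
    linarith
  set u := vec7 (s 2)
  set vv := cartanE7.mulVec (vec7 (s 0))
  have hB : (q : ℤ) • (1 : Matrix (Fin 7) (Fin 7) ℤ) - M7 * R = A + vecMulVec u vv := by
    refine Matrix.ext_of_mulVec_single fun j => ?_
    rw [sub_mulVec, ← mulVec_mulVec, hR, mulVec_sub, mulVec_smul,
      hinv (show (wm7 w).mulVec u = vec7 (s 0) from T.shift 2), add_mulVec, sub_mulVec,
      vecMulVec_mulVec, cartanE7_comm (vec7 (s 0)), dotProduct_comm vv]
    simp
    abel
  set y := vec7 (s 0) + (q : ℤ) • vec7 (s 1) + ((q : ℤ) ^ 2) • vec7 (s 2)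
  have hAy : A.mulVec y = ((q : ℤ) ^ 3 - 1) • u := by
    rw [sub_mulVec, smul_mulVec, one_mulVec, mulVec_add, mulVec_add, mulVec_smul, mulVec_smul,
      hinv (show (wm7 w).mulVec u = vec7 (s 0) from T.shift 2),
      hinv (show (wm7 w).mulVec (vec7 (s 0)) = vec7 (s 1) from T.shift 0),
      hinv (show (wm7 w).mulVec (vec7 (s 1)) = u from T.shift 1)]
    funext i
    simp [y, u]
    ring
  have hvy : dotProduct vv y = 2 := by
    rw [dotProduct_comm, add_dotProduct, add_dotProduct, smul_dotProduct, smul_dotProduct,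
      T.self, T.orth 1 0 (by decide), T.orth 2 0 (by decide)]
    simp
  set c : ℤ := (q : ℤ) ^ 3 - 1 with hc
  have hc0 : (c : ℚ) ≠ 0 := by
    have : (1 : ℤ) < (q : ℤ) ^ 3 := by exact_mod_cast Nat.one_lt_pow (by norm_num) hq
    exact_mod_cast (show c ≠ 0 by omega)
  let φ := Int.castRingHom ℚ
  have hBq : (A + vecMulVec u vv).map φ = A.map φ *
      (1 + vecMulVec ((c : ℚ)⁻¹ • (φ ∘ y)) (φ ∘ vv)) := by
    have h1 : (A.map φ).mulVec (φ ∘ y) = (c : ℚ) • (φ ∘ u) := by
      funext i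
      rw [← RingHom.map_mulVec φ A y i, hAy]
      simp [φ, c]
    rw [Matrix.mul_add, Matrix.mul_one, mul_vecMulVec, mulVec_smul, h1, smul_smul,
      inv_mul_cancel₀ hc0, one_smul]
    ext i j
    simp [vecMulVec_apply]
  have hone : ∀ x z : Fin 7 → ℚ, (1 + vecMulVec x z).det = 1 + dotProduct z x := fun x z => by
    rw [vecMulVec_eq (Fin 1), det_one_add_replicateCol_mul_replicateRow]
  have hdet := congrArg Matrix.det hBq
  rw [det_mul, hone, dotProduct_smul,
    ← RingHom.map_dotProduct, hvy, ← RingHom.mapMatrix_apply, ← RingHom.mapMatrix_apply,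
    ← RingHom.map_det, ← RingHom.map_det] at hdet
  rw [hB]
  have hgoal : ((A + vecMulVec u vv).det : ℚ) =
      ((((q : ℤ) ^ 4 - (q : ℤ) ^ 2 + 1) * ((q : ℤ) ^ 3 + 1) : ℤ) : ℚ) := by
    refine mul_left_cancel₀ hc0 ?_
    have hdet' : ((A + vecMulVec u vv).det : ℚ) = (A.det : ℚ) * (1 + (c : ℚ)⁻¹ * 2) := by
      simpa [φ] using hdet
    rw [hdet', hA]
    have hcq : (c : ℚ) = (q : ℚ) ^ 3 - 1 := by rw [hc]; push_cast; ring
    push_cast
    field_simp
    rw [hcq]
    ring
  exact_mod_cast hgoal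

end Cfsg.Agent.Chevalley.TwTorus.Sc
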