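import Cfsg.Agent.Chevalley.TwTorus.Sc.E7Group

/-!
Twisting a torus of type E7 by a reflection in one of three orthogonal roots.
-/
set_option autoImplicit false
set_option maxRecDepth 100000
set_option linter.style.haveILetI false
set_option linter.unusedSectionVars false

namespace Cfsg.Agent.Chevalley.TwTorus.Sc

open Cfsg.Lie Cfsg.Lie.ChevalleyDatum Cfsg.Agent.H37 Cfsg.Agent.H37.RootSys
open Cfsg.Agent.Chevalley.Weights Matrix Polynomial

theorem exists_neg_one (i : Fin 7) : ∃ j : Fin 7, cartanE7 i j = -1 :=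
  ⟨(![2, 3, 0, 1, 3, 4, 5] : Fin 7 → Fin 7) i,
    (show ∀ i : Fin 7, cartanE7 i ((![2, 3, 0, 1, 3, 4, 5] : Fin 7 → Fin 7) i) = -1 by
      decide +kernel) i⟩

variable {E : Type*} [Field E] [Finite E]
  {Fr : Frame (H37.Chev.dataE7 E) (chevE7.SteinbergGroup E)}
  (hS : Fr.S = (H38.St.stFull (H37.Chev.dataE7 E).K adjE7).rsys relE7 H38.St.st_gen)
  {G₀ : Type*} [Group G₀] {ι : G₀ →* chevE7.SteinbergGroup E}
  {φ : MulAut (chevE7.SteinbergGroup E)} {σ₀ : E ≃+* E} (A : FrobLift Fr ι φ σ₀)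

include hS A in
/-- The twisted torus. -/
theorem exists_twisted {q : ℕ} (hq1 : 1 < q) (hσ₀ : ∀ x, σ₀ x = x ^ q)
    (hcardE : Nat.card E = q ^ 12) (hφ12 : φ ^ 12 = 1)
    {ω : Eˣ} (hω : ∀ u, u ∈ Subgroup.zpowers ω)
    {w : (H37.Chev.dataE7 E).X.M.Group} {s : Fin 3 → ℕ} (T : Tri E w s)
    {g h₀ : chevE7.SteinbergGroup E} (hh₀ : h₀ ∈ Fr.S.H)
    (hg : g⁻¹ * φ g = h₀ * Fr.S.rep w) :
    ∃ (g' : chevE7.SteinbergGroup E)
      (R : Matrix (Fin 7) (Fin 7) ℤ),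
      (∀ a, R.mulVec a = a - dotProduct (vec7 (s 0)) (cartanE7.mulVec a) • vec7 (s 0)) ∧ R * R = 1 ∧
      ∀ a : Fin 7 → ℤ, φ (g' * Fr.tor (powTuple ω a) * g'⁻¹)
        = g' * Fr.tor (powTuple ω ((R * wm7 w).mulVec ((q : ℤ) • a))) * g'⁻¹ := by
  classical
  haveI := (H37.Chev.dataE7 E).X.good.finite
  set n := g⁻¹ * φ g with hn
  set ψ : MulAut (chevE7.SteinbergGroup E) := MulAut.conj n * φ with hψ
  have hψg : ψ = (MulAut.conj g)⁻¹ * φ * MulAut.conj g := by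
    refine MulEquiv.ext fun y => ?_
    rw [hψ, hn, MulAut.mul_apply, MulAut.mul_apply, MulAut.mul_apply, MulAut.conj_apply,
      MulAut.conj_apply, MulAut.conj_inv_apply, map_mul φ, map_mul φ, map_inv φ]
    group
  have hψ12 : ψ ^ 12 = 1 := by
    have h := conj_pow (i := 12) (a := (MulAut.conj g)⁻¹) (b := φ)
    rw [inv_inv] at h
    rw [hψg, h, hφ12, mul_one, inv_mul_cancel]
  have hψapp : ∀ y, ψ y = h₀ * Fr.S.rep w * φ y * (h₀ * Fr.S.rep w)⁻¹ := fun y => by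
    rw [hψ, MulAut.mul_apply, MulAut.conj_apply, hg]
  -- on the torus
  have hrc : ∀ (v : (H37.Chev.dataE7 E).X.M.Group) (a : Fin 7 → ℤ),
      Fr.S.rep v * Fr.tor (powTuple ω a) * (Fr.S.rep v)⁻¹
        = Fr.tor (powTuple ω ((wm7 v).mulVec a)) := fun v a => Fr.rep_conj_tor detT_E7 v ω a
  have hφT : ∀ a : Fin 7 → ℤ, φ (Fr.tor (powTuple ω a)) = Fr.tor (powTuple ω ((q : ℤ) • a)) := by
    intro a
    refine (A.map_tor _).trans (congrArg Fr.tor (funext fun j => Units.ext ?_))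
    show σ₀ ((ω ^ a j : Eˣ) : E) = ((ω ^ ((q : ℤ) * a j) : Eˣ) : E)
    rw [hσ₀, mul_comm, _root_.zpow_mul, zpow_natCast, Units.val_pow_eq_pow_val]
  have hψT : ∀ a : Fin 7 → ℤ,
      ψ (Fr.tor (powTuple ω a)) = Fr.tor (powTuple ω ((q : ℤ) • (wm7 w).mulVec a)) := by
    intro a
    rw [hψapp, hφT, show h₀ * Fr.S.rep w * Fr.tor (powTuple ω ((q : ℤ) • a)) * (h₀ * Fr.S.rep w)⁻¹
      = h₀ * (Fr.S.rep w * Fr.tor (powTuple ω ((q : ℤ) • a)) * (Fr.S.rep w)⁻¹) * h₀⁻¹ by group,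
      hrc, Fr.H_comm hh₀ (Fr.tor_mem _), mul_inv_cancel_right]
    rw [← mulVec_smul]
  have hψTk : ∀ (k : ℕ) (a : Fin 7 → ℤ), (ψ ^ k) (Fr.tor (powTuple ω a))
      = Fr.tor (powTuple ω (((q ^ k : ℕ) : ℤ) • ((wm7 w) ^ k).mulVec a)) := by
    intro k
    induction k with
    | zero => intro a; rw [pow_zero, pow_zero, pow_zero, Nat.cast_one, one_smul, one_mulVec]; rfl
    | succ k ih =>
      intro a
      rw [pow_succ', MulAut.mul_apply, ih, hψT, mulVec_smul, mulVec_mulVec, ← pow_succ', smul_smul]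
      congr 3
      push_cast; ring
  -- on root subgroups
  have hψx : ∀ (k : ℕ) (r : ℕ), r < chevE7.nroots → ∀ t, ∃ t', (ψ ^ k) (Fr.S.x r t)
      = Fr.S.x (act (H37.Chev.dataE7 E).X.good (w ^ k) r) t' := by
    intro k
    induction k with
    | zero => intro r hr t; exact ⟨t, by rw [pow_zero, pow_zero, act_one]; rfl⟩
    | succ k ih =>
      intro r hr t
      obtain ⟨t1, e1⟩ := ih r hr t
      have hl : act (H37.Chev.dataE7 E).X.good (w ^ k) r < chevE7.nroots := act_lt (hC := (H37.Chev.dataE7 E).X.good) _ hr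
      obtain ⟨t2, e2⟩ := rep_conj_x Fr w hl (σ₀ t1)
      obtain ⟨t3, e3⟩ := Fr.S.h_conj h₀ hh₀ _ (act_lt (hC := (H37.Chev.dataE7 E).X.good) w hl) t2
      refine ⟨t3, ?_⟩
      rw [pow_succ' ψ, MulAut.mul_apply, e1, hψapp, A.map_x _ hl, pow_succ' w, act_mul _ _ hr, ← e3,
        ← e2]
      group
  have hψN : ∀ (k : ℕ) y, InN Fr y → InN Fr ((ψ ^ k) y) := by
    intro k
    induction k with
    | zero => intro y hy; exact hy
    | succ k ih =>
      intro y hy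
      rw [pow_succ', MulAut.mul_apply, hψapp, _root_.mul_inv_rev, ← mul_assoc]
      exact InN.mul Fr (InN.mul Fr (InN.mul Fr ⟨h₀, hh₀, w, rfl⟩ (InN.map Fr A (ih y hy)))
        (InN.rep_inv Fr w)) ⟨h₀⁻¹, inv_mem hh₀, 1, by rw [Fr.S.rep_one, mul_one]⟩
  -- transport to a fundamental root
  obtain ⟨u, i, hu⟩ : ∃ u : (H37.Chev.dataE7 E).X.M.Group, ∃ i : Fin 7,
      act (H37.Chev.dataE7 E).X.good u (chevE7.simple i.val) = s 0 := exists_act_simple (F := E) (s 0) (T.lt 0) (pos_of_last ⟨s 0, T.lt 0⟩ (T.last 0))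
  set U := wm7 u
  set U' := wm7 u⁻¹
  have hUU' : U * U' = 1 := by rw [← wm7_mul, mul_inv_cancel, wm7_one]
  have hU'U : U' * U = 1 := by rw [← wm7_mul, inv_mul_cancel, wm7_one]
  have hUv : U.mulVec (Pi.single i 1) = vec7 (s 0) := by
    rw [← vec_simple i, ← hu]; exact (vec_act u _ (simple_lt (H37.Chev.dataE7 E).X.good i)).symm
  have hpr0 : ∀ a : Fin 7 → ℤ, dotProduct (vec7 (s 0)) (cartanE7.mulVec a) = cartanE7.mulVec (U'.mulVec a) i := by
    intro a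
    rw [← hUv, ← wm7_isom u⁻¹, mulVec_mulVec, hU'U, one_mulVec, single_one_dotProduct]
  have hW3 : ∀ k, ((wm7 w) ^ 3).mulVec (vec7 (s k)) = vec7 (s k) := by
    intro k
    rw [pow_succ, pow_two, ← mulVec_mulVec, ← mulVec_mulVec, T.shift, T.shift, T.shift]
    congr 2
    revert k; decide
  have hact3 : act (H37.Chev.dataE7 E).X.good (w ^ 3) (s 0) = s 0 := by
    have h1 : act (H37.Chev.dataE7 E).X.good (w ^ 3) (s 0) < 126 := act_lt (hC := (H37.Chev.dataE7 E).X.good) _ (T.lt 0)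
    have h2 := vec_act (w ^ 3) (s 0) (T.lt 0)
    rw [show wm7 (w ^ 3) = (wm7 w) ^ 3 from wmat_pow _ detT_E7 w 3, hW3] at h2
    exact congrArg Fin.val (vec_inj (Fin.mk _ h1) (Fin.mk _ (T.lt 0)) h2)
  set k := Fr.S.rep u
  set σ : MulAut (chevE7.SteinbergGroup E) := (MulAut.conj k)⁻¹ * ψ ^ 3 * MulAut.conj k with hσdef
  have hσapp : ∀ y, σ y = k⁻¹ * (ψ ^ 3) (k * y * k⁻¹) * k := fun y => by
    rw [hσdef, MulAut.mul_apply, MulAut.mul_apply, MulAut.conj_apply, MulAut.conj_inv_apply]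
  have hkT : ∀ a : Fin 7 → ℤ, k * Fr.tor (powTuple ω a) * k⁻¹ = Fr.tor (powTuple ω (U.mulVec a)) :=
    fun a => Fr.rep_conj_tor detT_E7 u ω a
  have hσT : ∀ a : Fin 7 → ℤ, σ (Fr.tor (powTuple ω a))
      = Fr.tor (powTuple ω (((q ^ 3 : ℕ) : ℤ) • (U' * (wm7 w) ^ 3 * U).mulVec a)) := by
    intro a
    rw [hσapp, hkT, hψTk, show ∀ b : Fin 7 → ℤ, Fr.tor (powTuple ω b)
      = k * Fr.tor (powTuple ω (U'.mulVec b)) * k⁻¹ from fun b => by
        rw [hkT, mulVec_mulVec, hUU', one_mulVec]]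
    rw [mulVec_smul, ← mulVec_mulVec, ← mulVec_mulVec]
    group
  have hmove : ∀ r r', r' < chevE7.nroots → act (H37.Chev.dataE7 E).X.good u r' = r →
      act (H37.Chev.dataE7 E).X.good (w ^ 3) r = r → ∀ t, ∃ t', σ (Fr.S.x r' t) = Fr.S.x r' t' := by
    intro r r' hr' hrr h3 t
    obtain ⟨t1, e1⟩ := rep_conj_x Fr u hr' t
    obtain ⟨t2, e2⟩ := hψx 3 _ (act_lt (hC := (H37.Chev.dataE7 E).X.good) u hr') t1
    rw [hrr] at e1 e2
    rw [h3] at e2
    obtain ⟨t3, e3⟩ := rep_conj_inv Fr u hr' t2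
    rw [hrr] at e3
    exact ⟨t3, by rw [hσapp, e1, e2, e3]⟩
  have hcardE' : Nat.card E = (q ^ 3) ^ 4 := by rw [hcardE, ← pow_mul]
  have hM : ∀ a : Fin 7 → ℤ, cartanE7.mulVec ((U' * (wm7 w) ^ 3 * U).mulVec a) i
      = cartanE7.mulVec a i := by
    intro a
    have h1 := hpr0 (((wm7 w) ^ 3).mulVec (U.mulVec a))
    have h2 := hpr0 (U.mulVec a)
    have h2' : ∀ b : Fin 7 → ℤ, U'.mulVec (U.mulVec b) = b := fun b => by
      rw [mulVec_mulVec, hU'U, one_mulVec]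
    rw [h2' a] at h2
    rw [← mulVec_mulVec, ← mulVec_mulVec, ← h1, ← h2]
    conv_lhs => rw [← hW3 0]
    rw [show (wm7 w) ^ 3 = wm7 (w ^ 3) from (wmat_pow _ detT_E7 w 3).symm]
    exact wm7_isom (w ^ 3) _ _
  obtain ⟨z, v, h, hh, hzv⟩ := Fr.exists_twist hω (σ := σ) (N := q ^ 3)
    (Nat.one_lt_pow (by norm_num) hq1) hcardE' i (M := U' * (wm7 w) ^ 3 * U) hσT
    (fun a => ((pr_simple7 i _).trans (hM a)).trans (pr_simple7 i a).symm)
    (by
      obtain ⟨j, hj⟩ := exists_neg_one i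
      refine ⟨-Pi.single j 1, (pr_simple7 i _).trans ?_⟩
      rw [mulVec_neg, mulVec_single_one]
      show -cartanE7 i j = 1
      rw [hj]; rfl)
    (hmove (s 0) _ (simple_lt (H37.Chev.dataE7 E).X.good i) hu hact3)
    (by
      rw [sigma_simple (H37.Chev.dataE7 E).X.good i]
      refine hmove (125 - s 0) _ (by
        have := simple_lt (H37.Chev.dataE7 E).X.good i
        omega) ?_ ?_
      · rw [act_neg u (simple_lt (H37.Chev.dataE7 E).X.good i), hu]; rfl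
      · show act (H37.Chev.dataE7 E).X.good (w ^ 3) (chevE7.nroots - 1 - s 0) = chevE7.nroots - 1 - s 0
        rw [act_neg _ (T.lt 0), hact3])
    (by
      have h1 : InN Fr (σ (Fr.S.ns i)) := by
        rw [hσapp]
        exact InN.mul Fr (InN.mul Fr (InN.rep_inv Fr u) (hψN 3 _
          (InN.mul Fr (InN.mul Fr (InN.rep Fr u) (InN.ns Fr i)) (InN.rep_inv Fr u))))
          (InN.rep Fr u)
      obtain ⟨h, hh, w', e⟩ := h1
      exact ⟨w', h, hh, e⟩)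
    (fun y => by
      have h4 : σ ^ 4 = 1 := by
        have h := conj_pow (i := 4) (a := (MulAut.conj k)⁻¹) (b := ψ ^ 3)
        rw [inv_inv] at h
        rw [hσdef, h, ← pow_mul, hψ12, mul_one, inv_mul_cancel]
      have := DFunLike.congr_fun h4 y
      simpa [pow_succ, MulAut.mul_apply] using this)
  -- the three commuting pieces
  set y₁ := Fr.S.x ((H37.Chev.dataE7 E).X.C.sigma i (chevE7.simple i)) z * Fr.S.x (chevE7.simple i) v
  set h1 := k * y₁ * k⁻¹ with hh1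
  have hσy : (ψ ^ 3) h1 = k * σ y₁ * k⁻¹ := by rw [hσapp, hh1]; group
  let Sr : ℕ → Set (chevE7.SteinbergGroup E) := fun r =>
    {y | ∃ a b, y = Fr.S.x (chevE7.nroots - 1 - r) a * Fr.S.x r b}
  have hin : h1 ∈ Sr (s 0) := by
    obtain ⟨b, hb⟩ := rep_conj_x Fr u (simple_lt (H37.Chev.dataE7 E).X.good i) v
    obtain ⟨a, ha⟩ := rep_conj_x Fr u (sigma_lt (H37.Chev.dataE7 E).X.good i (simple_lt (H37.Chev.dataE7 E).X.good i)) z
    rw [hu] at hb
    rw [sigma_simple (H37.Chev.dataE7 E).X.good i, act_neg u (simple_lt (H37.Chev.dataE7 E).X.good i), hu, ← sigma_simple (H37.Chev.dataE7 E).X.good i] at ha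
    refine ⟨a, b, ?_⟩
    rw [← ha, ← hb, hh1]
    simp only [y₁]
    group
    rfl
  have hnext : ∀ (j : ℕ) (r r' : ℕ), r < chevE7.nroots → act (H37.Chev.dataE7 E).X.good (w ^ j) r = r' →
      ∀ y ∈ Sr r, (ψ ^ j) y ∈ Sr r' := by
    rintro j r r' hr hrr y ⟨a, b, rfl⟩
    obtain ⟨a', ea⟩ := hψx j (chevE7.nroots - 1 - r) (by omega) a
    obtain ⟨b', eb⟩ := hψx j r hr b
    rw [act_neg _ hr, hrr] at ea
    rw [hrr] at eb
    exact ⟨a', b', by rw [map_mul, ea, eb]⟩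
  have hcomm : ∀ j l : Fin 3, j ≠ l → ∀ y ∈ Sr (s j), ∀ y' ∈ Sr (s l), Commute y y' := by
    rintro j l hjl y ⟨a, b, rfl⟩ y' ⟨a', b', rfl⟩
    have hx : ∀ r t, Fr.S.x r t = chevE7.stGen E r t := fun r t => by rw [hS]; rfl
    have hn1 : ∀ j, vec7 (125 - s j) (Fin.last 6) ≠ 0 := fun j => by
      rw [vec_neg (T.lt j), Pi.neg_apply, T.last j]; decide
    have hn0 : ∀ j, vec7 (s j) (Fin.last 6) ≠ 0 := fun j => by rw [T.last j]; decide
    have hlt : ∀ j, chevE7.nroots - 1 - s j < chevE7.nroots := fun j => by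
      have := T.lt j; omega
    simp only [hx]
    have hd : ∀ r : ℕ, chevE7.nroots - 1 - r = 125 - r := fun r => rfl
    refine Commute.mul_left (Commute.mul_right ?_ ?_) (Commute.mul_right ?_ ?_)
    · exact stGen_commute E (hlt j) (hlt l) (hn1 j) (hn1 l) (by
        rw [hd, hd, vec_neg (T.lt j), vec_neg (T.lt l), mulVec_neg, dotProduct_neg, neg_dotProduct,
          neg_neg, T.orth j l hjl]) _ _
    · exact stGen_commute E (hlt j) (T.lt l) (hn1 j) (hn0 l) (by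
        rw [hd, vec_neg (T.lt j), neg_dotProduct, T.orth j l hjl, neg_zero]) _ _
    · exact stGen_commute E (T.lt j) (hlt l) (hn0 j) (hn1 l) (by
        rw [hd, vec_neg (T.lt l), mulVec_neg, dotProduct_neg, T.orth j l hjl, neg_zero]) _ _
    · exact stGen_commute E (T.lt j) (T.lt l) (hn0 j) (hn0 l) (T.orth j l hjl) _ _
  have hact : ∀ j : Fin 3, act (H37.Chev.dataE7 E).X.good w (s j) = s (j + 1) := by
    intro j
    have h1 : act (H37.Chev.dataE7 E).X.good w (s j) < 126 := act_lt (hC := (H37.Chev.dataE7 E).X.good) _ (T.lt j)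
    exact congrArg Fin.val (vec_inj (Fin.mk _ h1) (Fin.mk _ (T.lt (j + 1)))
      ((vec_act w (s j) (T.lt j)).trans (T.shift j)))
  set h2 := ψ h1 with hh2
  set h3 := (ψ ^ 2) h1 with hh3
  set h1' := (ψ ^ 3) h1 with hh1'
  have hin2 : h2 ∈ Sr (s 1) := by
    have := hnext 1 (s 0) (s 1) (T.lt 0) (by rw [pow_one]; exact hact 0) h1 hin
    rwa [pow_one] at this
  have hin3 : h3 ∈ Sr (s 2) := hnext 2 (s 0) (s 2) (T.lt 0)
    (by rw [sq, act_mul _ _ (T.lt 0), hact, hact]; rfl) h1 hin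
  have hin1 : h1' ∈ Sr (s 0) := hnext 3 (s 0) (s 0) (T.lt 0) hact3 h1 hin
  set hf := h1 * h2 * h3
  have hψhf : ψ hf = h2 * h3 * h1' := by
    simp only [hf, map_mul, hh2, hh3, hh1', pow_succ', pow_zero, mul_one, MulAut.mul_apply]
  have hdiff : hf⁻¹ * ψ hf = k * (h * Fr.S.ns i) * k⁻¹ := by
    have c1 : Commute h1⁻¹ (h2 * h3) :=
      ((hcomm 0 1 (by decide) _ hin _ hin2).mul_right (hcomm 0 2 (by decide) _ hin _ hin3)).inv_left
    have e1 : hf⁻¹ * ψ hf = h1⁻¹ * h1' := by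
      rw [hψhf]
      calc _ = h3⁻¹ * h2⁻¹ * (h1⁻¹ * (h2 * h3)) * h1' := by simp only [hf]; group
        _ = h3⁻¹ * h2⁻¹ * ((h2 * h3) * h1⁻¹) * h1' := by rw [c1.eq]
        _ = _ := by group
    rw [e1, hσy, hh1, ← hzv]
    group
  let R : Matrix (Fin 7) (Fin 7) ℤ := U * wm7 ((H37.Chev.dataE7 E).X.M.simple i) * U'
  have hR : ∀ a : Fin 7 → ℤ, R.mulVec a
      = a - dotProduct (vec7 (s 0)) (cartanE7.mulVec a) • vec7 (s 0) := by
    intro a
    show (U * wm7 ((H37.Chev.dataE7 E).X.M.simple i) * U').mulVec a = _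
    rw [← mulVec_mulVec, ← mulVec_mulVec, wm7_simple i, mulVec_sub, mulVec_smul, hUv, hpr0,
      mulVec_mulVec, hUU', one_mulVec]
  have hRR : R * R = 1 := by
    have hs2 : wm7 ((H37.Chev.dataE7 E).X.M.simple i) * wm7 ((H37.Chev.dataE7 E).X.M.simple i) = 1 := by
      rw [← wm7_mul, ← wm7_one (F := E)]
      exact congrArg wm7 ((H37.Chev.dataE7 E).X.M.toCoxeterSystem.simple_mul_simple_self i)
    show U * wm7 ((H37.Chev.dataE7 E).X.M.simple i) * U' * (U * wm7 ((H37.Chev.dataE7 E).X.M.simple i) * U') = 1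
    calc _ = U * (wm7 ((H37.Chev.dataE7 E).X.M.simple i) * (U' * U) * wm7 ((H37.Chev.dataE7 E).X.M.simple i)) * U' := by
          simp only [Matrix.mul_assoc]
      _ = 1 := by rw [hU'U, Matrix.mul_one, hs2, Matrix.mul_one, hUU']
  have hnsT : ∀ b : Fin 7 → ℤ, Fr.S.ns i * Fr.tor (powTuple ω b) * (Fr.S.ns i)⁻¹
      = Fr.tor (powTuple ω ((wm7 ((H37.Chev.dataE7 E).X.M.simple i)).mulVec b)) := by
    intro b
    obtain ⟨k2, hk2, e⟩ := Fr.S.ns_rep (i := i) 1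
    rw [Fr.S.rep_one, mul_one, mul_one] at e
    rw [e, show k2 * Fr.S.rep ((H37.Chev.dataE7 E).X.M.simple i) * Fr.tor (powTuple ω b) *
      (k2 * Fr.S.rep ((H37.Chev.dataE7 E).X.M.simple i))⁻¹ = k2 * (Fr.S.rep ((H37.Chev.dataE7 E).X.M.simple i) * Fr.tor (powTuple ω b) *
      (Fr.S.rep ((H37.Chev.dataE7 E).X.M.simple i))⁻¹) * k2⁻¹ by group, hrc,
      Fr.H_comm hk2 (Fr.tor_mem _), mul_inv_cancel_right]
  refine ⟨g * hf, R, hR, hRR, fun a => ?_⟩
  have e : φ (g * hf) = g * hf * (hf⁻¹ * ψ hf) * n := by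
    rw [hψ, MulAut.mul_apply, MulAut.conj_apply, hn, map_mul]
    group
  calc φ (g * hf * Fr.tor (powTuple ω a) * (g * hf)⁻¹)
      = g * hf * ((hf⁻¹ * ψ hf) * (n * φ (Fr.tor (powTuple ω a)) * n⁻¹) * (hf⁻¹ * ψ hf)⁻¹) *
          (g * hf)⁻¹ := by rw [map_mul, map_mul, map_inv, e]; group
    _ = _ := by
      congr 1
      congr 1
      rw [show n * φ (Fr.tor (powTuple ω a)) * n⁻¹ = ψ (Fr.tor (powTuple ω a)) from by
        rw [hψ, MulAut.mul_apply, MulAut.conj_apply], hψT, hdiff,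
        show ∀ x, k * (h * Fr.S.ns i) * k⁻¹ * x * (k * (h * Fr.S.ns i) * k⁻¹)⁻¹
          = k * (h * (Fr.S.ns i * (k⁻¹ * x * k) * (Fr.S.ns i)⁻¹) * h⁻¹) * k⁻¹ from fun x => by group]
      have hk' : ∀ b : Fin 7 → ℤ, k⁻¹ * Fr.tor (powTuple ω b) * k = Fr.tor (powTuple ω (U'.mulVec b)) :=
        fun b => by
          have h := hkT (U'.mulVec b)
          rw [mulVec_mulVec, hUU', one_mulVec] at h
          rw [← h]
          group
      rw [hk', hnsT, Fr.H_comm hh (Fr.tor_mem _), mul_inv_cancel_right, hkT]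
      congr 2
      show U *ᵥ wm7 ((H37.Chev.dataE7 E).X.M.simple i) *ᵥ U' *ᵥ ((q : ℤ) • wm7 w *ᵥ a) = (R * wm7 w) *ᵥ ((q : ℤ) • a)
      simp only [R, ← mulVec_mulVec, mulVec_smul]

end Cfsg.Agent.Chevalley.TwTorus.Sc
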