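import Cfsg.Agent.Chevalley.TwTorus.Sc.Frame

/-!
Fixed points of a Frobenius map on a framed group.
-/
set_option autoImplicit false
set_option linter.style.haveILetI false
set_option linter.unusedSectionVars false

namespace Cfsg.Agent.Chevalley.TwTorus.Sc

open Cfsg.Lie Cfsg.Agent.H37 Cfsg.Agent.H37.RootSys

variable {D : ChevalleyDatum} {E : Type*} [Field E] {Q : H37.Chev.Data D E} {G : Type*} [Group G]
  {G₀ : Type*} [Group G₀]

/-- A field automorphism on a framed group together with the group over the fixed field. -/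
structure FrobLift (Fr : Frame Q G) (ι : G₀ →* G) (φ : MulAut G) (σ : E ≃+* E) : Prop where
  map_x : ∀ r, r < D.nroots → ∀ t, φ (Fr.S.x r t) = Fr.S.x r (σ t)
  map_tor : ∀ c : Fin Q.X.n → Eˣ, φ (Fr.tor c) = Fr.tor fun m => Units.map (σ : E →* E) (c m)
  fix_map : ∀ g, φ (ι g) = ι g
  x_mem : ∀ r, r < D.nroots → ∀ t, σ t = t → Fr.S.x r t ∈ ι.range
  tor_mem : ∀ c : Fin Q.X.n → Eˣ, (∀ m, σ (c m : E) = c m) → Fr.tor c ∈ ι.range
  ns_mem : ∀ i : Fin Q.X.n, Fr.S.ns i ∈ ι.range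

namespace FrobLift

variable {Fr : Frame Q G} {ι : G₀ →* G} {φ : MulAut G} {σ : E ≃+* E} (A : FrobLift Fr ι φ σ)
include A

theorem fix_range {g : G} (hg : g ∈ ι.range) : φ g = g := by
  obtain ⟨x, rfl⟩ := hg
  exact A.fix_map x

theorem rep_corr (w : Q.X.M.Group) : ∃ h ∈ Fr.S.H, h * Fr.S.rep w ∈ ι.range := by
  refine Sys.gen_induction (p := fun w => ∃ h ∈ Fr.S.H, h * Fr.S.rep w ∈ ι.range) ?_ ?_ w
  · exact ⟨1, one_mem _, by rw [Fr.S.rep_one, one_mul]; exact one_mem _⟩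
  · rintro i w ⟨h, hh, hm⟩
    obtain ⟨k, hk, e⟩ := Fr.S.ns_rep (i := i) w
    refine ⟨Fr.S.ns i * h * (Fr.S.ns i)⁻¹ * k,
      mul_mem (Fr.S.n_conj_H i i.isLt h hh) hk, ?_⟩
    rw [mul_assoc, ← e, show Fr.S.ns i * h * (Fr.S.ns i)⁻¹ * (Fr.S.ns i * Fr.S.rep w)
      = Fr.S.ns i * (h * Fr.S.rep w) by group]
    exact mul_mem (A.ns_mem i) hm

theorem map_H {g : G} (hg : g ∈ Fr.S.H) : φ g ∈ Fr.S.H := by
  obtain ⟨c, rfl⟩ := Fr.exists_tor hg
  rw [A.map_tor]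
  exact Fr.tor_mem _

theorem map_XS {S : Set ℕ} (hS : ∀ r ∈ S, r < D.nroots) {g : G} (hg : g ∈ XS Fr.S.x S) :
    φ g ∈ XS Fr.S.x S := by
  have hle : XS Fr.S.x S ≤ (XS Fr.S.x S).comap φ.toMonoidHom :=
    XS_le fun r hr t => by
      rw [Subgroup.mem_comap]
      show φ _ ∈ _
      rw [A.map_x r (hS r hr)]
      exact x_mem_XS hr _
  exact hle hg

theorem fixed_XS_mem {S : Finset ℕ} (hS : Fr.S.toUnip.Closed S) {g : G}
    (hg : g ∈ XS Fr.S.x (↑S : Set ℕ)) (hfix : φ g = g) : g ∈ ι.range := by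
  have hlt : ∀ r ∈ S, r < D.nroots := fun r hr =>
    (mem_posSet.1 (Fr.S.P_eq ▸ hS.1 hr)).1
  suffices ∀ m k, D.nroots ≤ k + m → ∀ g ∈ XS Fr.S.x {r | r ∈ S ∧ k ≤ r}, φ g = g → g ∈ ι.range from
    this D.nroots 0 (by omega) g (XS_mono (S' := {r | r ∈ S ∧ 0 ≤ r})
      (fun r hr => ⟨hr, Nat.zero_le r⟩) hg) hfix
  intro m
  induction m with
  | zero =>
      intro k hk g hg _
      have h0 : {r | r ∈ S ∧ k ≤ r} = ∅ :=
        Set.eq_empty_iff_forall_notMem.2 fun r hr => by have := hlt r hr.1; have := hr.2; omega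
      rw [h0, XS_empty, Subgroup.mem_bot] at hg
      rw [hg]; exact one_mem _
  | succ m ih =>
      intro k hk g hg hfix
      by_cases hkS : k ∈ S
      · obtain ⟨t, p, hp, rfl⟩ := Fr.S.toUnip.exists_head hS hkS hg
        have hfix' : Fr.S.x k (σ t) * φ p = Fr.S.x k t * p := by
          rw [← A.map_x k (hlt k hkS), ← map_mul]; exact hfix
        have hp' := A.map_XS (S := {r | r ∈ S ∧ k < r}) (fun r hr => hlt r hr.1) hp
        obtain ⟨e1, e2⟩ := Fr.S.toUnip.head_unique hS hkS hp' hp hfix'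
        exact mul_mem (A.x_mem k (hlt k hkS) t e1) (ih (k + 1) (by omega) p hp e2)
      · rw [Unip.tail_of_not_mem hkS] at hg
        exact ih (k + 1) (by omega) g hg hfix

theorem fixed_H_mem {g : G} (hg : g ∈ Fr.S.H) (hfix : φ g = g) : g ∈ ι.range := by
  obtain ⟨c, rfl⟩ := Fr.exists_tor hg
  rw [A.map_tor] at hfix
  exact A.tor_mem c fun m => congrArg Units.val (congrFun (Fr.tor_inj hfix) m)

theorem mem_range_iff {g : G} : g ∈ ι.range ↔ φ g = g := by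
  refine ⟨A.fix_range, fun hfix => ?_⟩
  obtain ⟨u, hu, h, hh, w, v, hv, rfl⟩ := Fr.S.normalForm.exists_eq g
  change u ∈ Fr.S.U at hu
  change h ∈ Fr.S.H at hh
  change v ∈ Fr.S.Uw w at hv
  change φ (u * h * Fr.S.rep w * v) = u * h * Fr.S.rep w * v at hfix
  change u * h * Fr.S.rep w * v ∈ _
  obtain ⟨k, hk, hm⟩ := A.rep_corr w
  have hUS : ∀ r ∈ (↑(posSet D) : Set ℕ), r < D.nroots := fun r hr => (mem_posSet.1 hr).1
  have hWS : ∀ r ∈ (↑(Sys.flip Q.X.good w) : Set ℕ), r < D.nroots := fun r hr =>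
    (Sys.mem_flip.1 hr).1
  have hmid : φ (h * Fr.S.rep w) = φ (h * k⁻¹) * (k * Fr.S.rep w) := by
    rw [show h * Fr.S.rep w = h * k⁻¹ * (k * Fr.S.rep w) by group, map_mul, A.fix_range hm]
  have e : φ u * (φ (h * k⁻¹) * k) * Fr.S.rep w * φ v = u * h * Fr.S.rep w * v := by
    calc _ = φ u * (φ (h * k⁻¹) * (k * Fr.S.rep w)) * φ v := by group
      _ = φ (u * (h * Fr.S.rep w)) * φ v := by rw [← hmid, ← map_mul]
      _ = φ (u * h * Fr.S.rep w * v) := by rw [← mul_assoc u, ← map_mul]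
      _ = _ := hfix
  obtain ⟨-, e1, e2, e3⟩ := Fr.S.normalForm.unique (A.map_XS hUS hu) hu
    (mul_mem (A.map_H (mul_mem hh (inv_mem hk))) hk) hh (A.map_XS hWS hv) hv e
  have e2' : φ (h * k⁻¹) = h * k⁻¹ := eq_mul_inv_of_mul_eq e2
  rw [show u * h * Fr.S.rep w * v = u * (h * k⁻¹) * (k * Fr.S.rep w) * v by group]
  exact mul_mem (mul_mem (mul_mem (A.fixed_XS_mem (Fr.S.P_eq ▸ Fr.S.toUnip.closed_P) hu e1)
    (A.fixed_H_mem (mul_mem hh (inv_mem hk)) e2')) hm)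
    (A.fixed_XS_mem (Fr.S.closed_flip w) hv e3)

end FrobLift

end Cfsg.Agent.Chevalley.TwTorus.Sc
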