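import Cfsg.Agent.Chevalley.TwTorus.Root
import Cfsg.Agent.Chevalley.TwTorus.Regular

/-!
A group with a system of root subgroups over a datum whose torus is a full torus, such as the
simply connected group.
-/
set_option autoImplicit false
set_option linter.style.haveILetI false
set_option linter.unusedSectionVars false

namespace Cfsg.Agent.Chevalley.TwTorus.Sc

open Cfsg.Lie Cfsg.Agent.H37 Cfsg.Agent.H37.RootSys Cfsg.Agent.Chevalley.Weights Matrix

variable {D : ChevalleyDatum} {F : Type*} [Field F]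

/-- A root-subgroup system on a group together with a full torus. -/
structure Frame (Q : H37.Chev.Data D F) (G : Type*) [Group G] where
  S : Sys Q.X.good G F
  tor : (Fin Q.X.n → Fˣ) →* G
  tor_inj : Function.Injective tor
  tor_range : tor.range = S.H
  x_inj : ∀ s, s < D.nroots → Function.Injective (S.x s)
  conj_x : ∀ (m : Fin Q.X.n) (t : Fˣ) (s : ℕ), s < D.nroots → ∀ u : F,
    tor (Pi.mulSingle m t) * S.x s u * (tor (Pi.mulSingle m t))⁻¹
      = S.x s (((t ^ D.cartan m s : Fˣ) : F) * u)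
  ns_conj : ∀ (i m : Fin Q.X.n) (t : Fˣ),
    S.ns i * tor (Pi.mulSingle m t) * (S.ns i)⁻¹
      = tor (Pi.mulSingle m t * (Pi.mulSingle i (t ^ D.cartan m (D.simple i)))⁻¹)

variable {Q : H37.Chev.Data D F} {G : Type*} [Group G] (Fr : Frame Q G)

namespace Frame

theorem tor_mem (c : Fin Q.X.n → Fˣ) : Fr.tor c ∈ Fr.S.H := Fr.tor_range ▸ ⟨c, rfl⟩

theorem exists_tor {h : G} (hh : h ∈ Fr.S.H) : ∃ c, h = Fr.tor c := by
  rw [← Fr.tor_range] at hh
  obtain ⟨c, rfl⟩ := hh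
  exact ⟨c, rfl⟩

theorem H_comm {a b : G} (ha : a ∈ Fr.S.H) (hb : b ∈ Fr.S.H) : a * b = b * a := by
  obtain ⟨c, rfl⟩ := Fr.exists_tor ha
  obtain ⟨d, rfl⟩ := Fr.exists_tor hb
  rw [← map_mul, ← map_mul, mul_comm]

/-- Conjugation of a root element by the torus. -/
theorem tor_conj_x (ω : Fˣ) (a : Fin Q.X.n → ℤ) {s : ℕ} (hs : s < D.nroots) (t : F) :
    Fr.tor (powTuple ω a) * Fr.S.x s t * (Fr.tor (powTuple ω a))⁻¹
      = Fr.S.x s (((ω ^ pr Q.X.n D s a : Fˣ) : F) * t) := by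
  rw [← Finset.univ_prod_mulSingle (powTuple ω a)]
  have h : ∀ (T : Finset (Fin Q.X.n)) (t : F),
      Fr.tor (∏ m ∈ T, Pi.mulSingle m (powTuple ω a m)) * Fr.S.x s t *
        (Fr.tor (∏ m ∈ T, Pi.mulSingle m (powTuple ω a m)))⁻¹
        = Fr.S.x s (((ω ^ ∑ m ∈ T, a m * D.cartan m s : Fˣ) : F) * t) := by
    intro T
    induction T using Finset.induction with
    | empty => intro t; simp
    | insert m T hm ih =>
      intro t
      rw [Finset.prod_insert hm, map_mul, show ∀ x y z : G,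
        x * y * z * (x * y)⁻¹ = x * (y * z * y⁻¹) * x⁻¹ from fun x y z => by group, ih,
        Fr.conj_x m _ s hs, powTuple, ← _root_.zpow_mul, ← mul_assoc, ← Units.val_mul,
        ← _root_.zpow_add, Finset.sum_insert hm]
  exact h Finset.univ t

/-- The fundamental reflections on cocharacters. -/
theorem wmat_simple (hA : (cartanT Q).det ≠ 0) (i : Fin Q.X.n) (a : Fin Q.X.n → ℤ) :
    (wmat Q (Q.X.M.simple i)).mulVec a = a - pr Q.X.n D (D.simple i) a • Pi.single i 1 := by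
  refine eq_of_pr Q hA fun l => ?_
  have hl := simple_lt Q.X.good l
  have hi : i.val < D.rank := Q.rank_eq.symm ▸ i.isLt
  rw [pr_wmat Q _ hl, show (Q.X.M.simple i)⁻¹ = Q.X.M.simple i from
    Q.X.M.toCoxeterSystem.inv_simple i, act_simple i hl,
    pr_cartan Q (sigma_lt Q.X.good i hl)]
  have hw : ∀ j : Fin Q.X.n, Q.K.cf (Q.X.C.sigma i (D.simple l)) j
      = (if j = l then 1 else 0) - if j = i then D.cartan i (D.simple l) else 0 := fun j => by
    rw [sigma_eq_w Q.X.good Q.K i.isLt hl, Q.K.cf_w i hi _ hl j (Q.rank_eq.symm ▸ j.isLt),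
      Q.K.cf_simple l (Q.rank_eq.symm ▸ l.isLt) j (Q.rank_eq.symm ▸ j.isLt)]
    simp only [Fin.ext_iff]
  simp only [hw, sub_mul, ite_mul, one_mul, zero_mul, Finset.sum_sub_distrib, Finset.sum_ite_eq',
    Finset.mem_univ, if_true]
  simp only [pr, Pi.sub_apply, Pi.smul_apply, Pi.single_apply, smul_eq_mul, mul_ite, mul_one,
    mul_zero, ite_mul, zero_mul, sub_mul, Finset.sum_sub_distrib, Finset.sum_ite_eq',
    Finset.mem_univ, if_true]
  ring

/-- The torus is moved by the representatives through the matrices. -/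
theorem rep_conj_tor (hA : (cartanT Q).det ≠ 0) (w : Q.X.M.Group) : ∀ (ω : Fˣ) (a : Fin Q.X.n → ℤ),
    Fr.S.rep w * Fr.tor (powTuple ω a) * (Fr.S.rep w)⁻¹
      = Fr.tor (powTuple ω ((wmat Q w).mulVec a)) := by
  refine Sys.gen_induction (p := fun w => ∀ (ω : Fˣ) (a : Fin Q.X.n → ℤ),
    Fr.S.rep w * Fr.tor (powTuple ω a) * (Fr.S.rep w)⁻¹
      = Fr.tor (powTuple ω ((wmat Q w).mulVec a))) ?_ ?_ w
  · intro ω a
    rw [Fr.S.rep_one, one_mul, inv_one, mul_one, wmat_one Q hA, one_mulVec]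
  · intro i w ih ω a
    obtain ⟨k, hk, e⟩ := Fr.S.ns_rep (i := i) w
    have e' : Fr.S.rep (Q.X.M.simple i * w) = k⁻¹ * (Fr.S.ns i * Fr.S.rep w) := by
      rw [e, inv_mul_cancel_left]
    set b := (wmat Q w).mulVec a
    have hns : Fr.S.ns i * Fr.tor (powTuple ω b) * (Fr.S.ns i)⁻¹
        = Fr.tor (powTuple ω ((wmat Q (Q.X.M.simple i)).mulVec b)) := by
      have h : ∀ T : Finset (Fin Q.X.n),
          Fr.S.ns i * Fr.tor (∏ m ∈ T, Pi.mulSingle m (powTuple ω b m)) * (Fr.S.ns i)⁻¹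
            = Fr.tor ((∏ m ∈ T, Pi.mulSingle m (powTuple ω b m))
                * (Pi.mulSingle i (ω ^ ∑ m ∈ T, b m * D.cartan m (D.simple i)))⁻¹) := by
        intro T
        induction T using Finset.induction with
        | empty => simp
        | insert m T hm ih' =>
          rw [Finset.prod_insert hm, map_mul, show ∀ x y z : G,
            z * (x * y) * z⁻¹ = z * x * z⁻¹ * (z * y * z⁻¹) from fun x y z => by group, ih',
            Fr.ns_conj, ← map_mul, Finset.sum_insert hm, powTuple, ← _root_.zpow_mul,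
            _root_.zpow_add, Pi.mulSingle_mul, mul_inv]
          congr 1
          funext j
          simp only [Pi.mul_apply, Pi.inv_apply, mul_comm, mul_left_comm, mul_assoc]
      have h' := h Finset.univ
      rw [Finset.univ_prod_mulSingle] at h'
      rw [h', wmat_simple hA]
      congr 1
      funext j
      by_cases hj : j = i
      · subst hj
        simp [powTuple, pr, _root_.zpow_sub]
      · simp [powTuple, Pi.single_eq_of_ne hj, Pi.mulSingle_eq_of_ne hj]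
    calc Fr.S.rep (Q.X.M.simple i * w) * Fr.tor (powTuple ω a) * (Fr.S.rep (Q.X.M.simple i * w))⁻¹
        = k⁻¹ * (Fr.S.ns i * (Fr.S.rep w * Fr.tor (powTuple ω a) * (Fr.S.rep w)⁻¹) * (Fr.S.ns i)⁻¹) * k := by
          rw [e']; group
      _ = k⁻¹ * Fr.tor (powTuple ω ((wmat Q (Q.X.M.simple i)).mulVec b)) * k := by rw [ih, hns]
      _ = _ := by
          rw [Fr.H_comm (inv_mem hk) (Fr.tor_mem _), inv_mul_cancel_right, mulVec_mulVec,
            ← wmat_mul Q hA]

/-- A torus element moving every root element commutes with no nontrivial unipotent element. -/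
theorem comm_U {t : G}
    (hreg : ∀ s, s < D.nroots → ∀ u : F, ∀ t' : F, t * Fr.S.x s u * t⁻¹ = Fr.S.x s t' → t' = u → u = 0)
    (ht : t ∈ Fr.S.H) {u : G} (hu : u ∈ Fr.S.U) (hc : t * u * t⁻¹ = u) : u = 1 := by
  have hS : Fr.S.toUnip.Closed (posSet D) := Fr.S.P_eq ▸ Fr.S.toUnip.closed_P
  suffices ∀ m k, (posSet D).sup id < k + m → ∀ g ∈ XS Fr.S.x {r | r ∈ posSet D ∧ k ≤ r},
      t * g * t⁻¹ = g → g = 1 by
    exact this ((posSet D).sup id + 1) 0 (by omega) u
      (XS_mono (S' := {r | r ∈ posSet D ∧ 0 ≤ r}) (fun r hr => ⟨hr, Nat.zero_le r⟩) hu) hc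
  intro m
  induction m with
  | zero =>
    intro k hk g hg _
    have : {r | r ∈ posSet D ∧ k ≤ r} = ∅ := by
      refine Set.eq_empty_iff_forall_notMem.2 fun r hr => ?_
      have := Finset.le_sup (f := id) hr.1
      simp only [id_eq] at this
      have := hr.2
      omega
    rwa [this, XS_empty, Subgroup.mem_bot] at hg
  | succ m ih =>
    intro k hk g hg hfix
    by_cases hkS : k ∈ posSet D
    · obtain ⟨a, p, hp, rfl⟩ := Fr.S.toUnip.exists_head hS hkS hg
      have hklt := (mem_posSet.1 hkS).1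
      obtain ⟨a', ea⟩ := Fr.S.h_conj t ht k hklt a
      have hp' : t * p * t⁻¹ ∈ XS Fr.S.x {r | r ∈ posSet D ∧ k < r} := conj_mem_XS (fun r hr c => by
        obtain ⟨c', ec⟩ := Fr.S.h_conj t ht r (mem_posSet.1 hr.1).1 c
        rw [ec]; exact x_mem_XS hr c') hp
      have e : Fr.S.x k a' * (t * p * t⁻¹) = Fr.S.x k a * p := by
        rw [← ea]
        calc _ = t * (Fr.S.x k a * p) * t⁻¹ := by group
          _ = _ := hfix
      obtain ⟨e1, e2⟩ := Fr.S.toUnip.head_unique hS hkS hp' hp e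
      obtain rfl : a = 0 := hreg k hklt a a' ea e1
      rw [ih (k + 1) (by omega) p hp e2, Fr.S.x_zero' hklt, mul_one]
    · rw [Unip.tail_of_not_mem hkS] at hg
      exact ih (k + 1) (by omega) g hg hfix

theorem conj_Uw {s : G} (hs : s ∈ Fr.S.H) {w : Q.X.M.Group} {v : G} (hv : v ∈ Fr.S.Uw w) :
    s * v * s⁻¹ ∈ Fr.S.Uw w :=
  conj_mem_XS (fun r hr c => by
    obtain ⟨c', ec⟩ := Fr.S.h_conj _ hs r (Sys.mem_flip.1 hr).1 c
    rw [ec]; exact x_mem_XS (S := (↑(Sys.flip Q.X.good w) : Set ℕ)) hr c') hv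

/-- Conjugate elements of the torus are conjugate under the Weyl group. -/
theorem conj_weyl {s t g : G} (hs : s ∈ Fr.S.H) (ht : t ∈ Fr.S.H) (hg : t * g = g * s) :
    ∃ w, Fr.S.rep w * s * (Fr.S.rep w)⁻¹ = t := by
  obtain ⟨u, hu, h, hh, w, v, hv, e⟩ := Fr.S.normalForm.exists_eq g
  change u ∈ Fr.S.U at hu
  change h ∈ Fr.S.H at hh
  change v ∈ Fr.S.Uw w at hv
  have e0 : g = u * h * Fr.S.rep w * v := e
  subst e0
  clear e
  have heq : (t * u * t⁻¹) * (t * h * (Fr.S.rep w * s * (Fr.S.rep w)⁻¹)⁻¹) * Fr.S.rep w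
      * (s * v * s⁻¹) = u * h * Fr.S.rep w * v := by
    calc _ = t * (u * h * Fr.S.rep w * v) * s⁻¹ := by group
      _ = _ := by rw [hg, mul_inv_cancel_right]
  obtain ⟨-, -, e2, -⟩ := Fr.S.normalForm.unique (w := w) (w' := w) (Fr.S.H_conj_U ht hu) hu
    (mul_mem (mul_mem ht hh) (inv_mem (Fr.S.rep_conj_H w hs))) hh (Fr.conj_Uw hs hv) hv heq
  refine ⟨w, ?_⟩
  rw [Fr.H_comm ht hh, mul_assoc] at e2
  exact (mul_inv_eq_one.1 (mul_eq_left.1 e2)).symm

/-- Elements carrying one regular element to another are monomial. -/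
theorem conj_regular {s t g : G} (hs : s ∈ Fr.S.H) (ht : t ∈ Fr.S.H)
    (hregs : ∀ r, r < D.nroots → ∀ u : F, ∀ t' : F, s * Fr.S.x r u * s⁻¹ = Fr.S.x r t' → t' = u → u = 0)
    (hregt : ∀ r, r < D.nroots → ∀ u : F, ∀ t' : F, t * Fr.S.x r u * t⁻¹ = Fr.S.x r t' → t' = u → u = 0)
    (hg : t * g = g * s) :
    ∃ h ∈ Fr.S.H, ∃ w, g = h * Fr.S.rep w ∧ Fr.S.rep w * s * (Fr.S.rep w)⁻¹ = t := by
  obtain ⟨u, hu, h, hh, w, v, hv, e⟩ := Fr.S.normalForm.exists_eq g
  change u ∈ Fr.S.U at hu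
  change h ∈ Fr.S.H at hh
  change v ∈ Fr.S.Uw w at hv
  have e0 : g = u * h * Fr.S.rep w * v := e
  subst e0
  clear e
  have heq : (t * u * t⁻¹) * (t * h * (Fr.S.rep w * s * (Fr.S.rep w)⁻¹)⁻¹) * Fr.S.rep w
      * (s * v * s⁻¹) = u * h * Fr.S.rep w * v := by
    calc _ = t * (u * h * Fr.S.rep w * v) * s⁻¹ := by group
      _ = _ := by rw [hg, mul_inv_cancel_right]
  obtain ⟨-, e1, e2, e3⟩ := Fr.S.normalForm.unique (w := w) (w' := w) (Fr.S.H_conj_U ht hu) hu
    (mul_mem (mul_mem ht hh) (inv_mem (Fr.S.rep_conj_H w hs))) hh (Fr.conj_Uw hs hv) hv heq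
  obtain rfl : u = 1 := Fr.comm_U hregt ht hu e1
  obtain rfl : v = 1 := Fr.comm_U hregs hs (Fr.S.Uw_le w hv) e3
  refine ⟨h, hh, w, by rw [one_mul, mul_one], ?_⟩
  rw [Fr.H_comm ht hh, mul_assoc] at e2
  exact (mul_inv_eq_one.1 (mul_eq_left.1 e2)).symm

end Frame

end Cfsg.Agent.Chevalley.TwTorus.Sc
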