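import Cfsg.Agent.Chevalley.TwTorus.Main
import Cfsg.Agent.Chevalley.TwTorus.Sc.Fixed

/-!
A cyclic centraliser of a regular element in the fixed group of a Frobenius map on a framed group.
-/
set_option autoImplicit false
set_option linter.style.haveILetI false
set_option linter.unusedSectionVars false
set_option maxHeartbeats 800000

namespace Cfsg.Agent.Chevalley.TwTorus.Sc

open Cfsg.Lie Cfsg.Agent.H37 Cfsg.Agent.H37.RootSys Cfsg.Agent.Chevalley.Weights Matrix Polynomial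

/-- The torus containing an element of prime order with a regular eigenvector. -/
theorem exists_cyclic_data {D : ChevalleyDatum} {F : Type*} [Field F] [Fintype F] {q : ℕ}
    (hq : Fintype.card F = q) {p : ℕ} [Fact p.Prime] [CharP F p] {d : ℕ} [NeZero d]
    {Q : H37.Chev.Data D (FiniteField.Extension F p d)} {G : Type*} [Group G] [Finite G]
    {G₀ : Type*} [Group G₀] [Finite G₀] (Fr : Frame Q G) {ι : G₀ →* G}
    (hι : Function.Injective ι) {φ : MulAut G} (A : FrobLift Fr ι φ (frobE F p d))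
    {degs : List ℕ} (hdeg : Q.X.C.degCheck Q.X.n degs = true) (hA0 : (cartanT Q).det ≠ 0)
    {e : ℕ} (hem0 : e ∣ q ^ d - 1)
    {r : ℕ} [hr : Fact r.Prime] (hre : r ∣ e) (hrdegs : ¬ r ∣ degs.prod)
    (hrG : r ∣ Nat.card G₀)
    (hlat : ∀ w : Q.X.M.Group, ∀ b : Fin Q.X.n → ℤ, (∃ j, ¬ (r : ℤ) ∣ b j) →
      (∀ j, (r : ℤ) ∣ (q : ℤ) * b j - (wmat Q w⁻¹).mulVec b j) →
      (∀ s, s < D.nroots → ¬ (r : ℤ) ∣ pr Q.X.n D s b) ∧
      ((q : ℤ) • (1 : Matrix (Fin Q.X.n) (Fin Q.X.n) ℤ) - wmat Q w⁻¹).det = e ∧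
      ∀ l : ℕ, l.Prime → l * l ∣ e → ∃ f : Fin Q.X.n → ℤ, ∀ (m : ℤ) (a : Fin Q.X.n → ℤ),
        (∀ j, m ∣ ((q : ℤ) • (1 : Matrix (Fin Q.X.n) (Fin Q.X.n) ℤ) - wmat Q w⁻¹).mulVec a j) →
        (∀ j, m ∣ (l : ℤ) * a j) → m ∣ dotProduct f a → ∀ j, m ∣ a j)
    (hstab : ∀ b : Fin Q.X.n → ℤ, (∀ s, s < D.nroots → ¬ (r : ℤ) ∣ pr Q.X.n D s b) →
      ∀ v : Q.X.M.Group, (∀ j, (r : ℤ) ∣ (wmat Q v).mulVec b j - b j) → v = 1) :
    ∃ (x : G₀) (ω : (FiniteField.Extension F p d)ˣ) (g : G) (h₀ : G) (w : Q.X.M.Group)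
      (b : Fin Q.X.n → ℤ),
      (∀ u, u ∈ Subgroup.zpowers ω) ∧ orderOf x = r ∧
      IsCyclic ↥(Subgroup.centralizer ({x} : Set G₀)) ∧
      Nat.card ↥(Subgroup.centralizer ({x} : Set G₀)) = e ∧
      h₀ ∈ Fr.S.H ∧ g⁻¹ * φ g = h₀ * Fr.S.rep w ∧ (∃ j, ¬ (r : ℤ) ∣ b j) ∧
      (∀ j, (r : ℤ) ∣ (q : ℤ) * b j - (wmat Q w⁻¹).mulVec b j) ∧
      ι x = g * Fr.tor (powTuple ω
        ((((Nat.card (FiniteField.Extension F p d) - 1) / r : ℕ) : ℤ) • b)) * g⁻¹ ∧
      ∀ z ∈ Subgroup.centralizer ({x} : Set G₀), ∃ a, ι z = g * Fr.tor (powTuple ω a) * g⁻¹ ∧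
        ∀ j, ((Nat.card (FiniteField.Extension F p d) - 1 : ℕ) : ℤ) ∣
          (q : ℤ) * a j - (wmat Q w⁻¹).mulVec a j := by
  classical
  set E := FiniteField.Extension F p d
  haveI : Fintype E := Fintype.ofFinite E
  haveI := Q.X.good.finite
  haveI : Fintype Q.X.M.Group := Fintype.ofFinite _
  have hd0 : 0 < d := Nat.pos_of_neZero d
  set m : ℕ := Nat.card E - 1 with hm
  have hE : Nat.card E = q ^ d := by
    rw [← hq, ← Nat.card_eq_fintype_card]; exact FiniteField.natCard_extension F p d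
  have hq1 : 1 < q := hq ▸ Fintype.one_lt_card
  have hcard1 : 1 < Nat.card E := Finite.one_lt_card
  have hm0 : 0 < m := by omega
  have hmZ : (m : ℤ) = (q : ℤ) ^ d - 1 := by
    rw [hm, hE, Nat.cast_sub (Nat.one_le_pow _ _ (by omega))]
    push_cast; rfl
  have hem : e ∣ m := by rw [hm, hE]; exact hem0
  have hrm : r ∣ m := hre.trans hem
  have hrq : ¬ r ∣ q := by
    intro h
    have h1 : r ∣ q ^ d := dvd_pow h (NeZero.ne d)
    have h2 : m + 1 = q ^ d := by omega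
    have h3 : r ∣ 1 := (Nat.dvd_add_iff_right hrm).2 (h2 ▸ h1)
    exact hr.out.one_lt.ne' (Nat.dvd_one.1 h3)
  -- the element and its conjugate in the diagonal subgroup
  obtain ⟨x, hx⟩ := exists_prime_orderOf_dvd_card' r hrG
  set xK := ι x with hxK
  have hxord : orderOf xK = r := (orderOf_injective ι hι x).trans hx
  have hfix : ∀ y, φ (ι y) = ι y := A.fix_map
  have hindex : ¬ r ∣ Fr.S.H.index := by
    have hcard : Nat.card G = Nat.card Fr.S.U * Nat.card Fr.S.H *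
        ∑ w, Nat.card (Fr.S.Uw w) := Fr.S.normalForm.card_eq
    have h2 : Fr.S.H.index = Nat.card E ^ (posSet D).card *
        (degs.map fun e => ∑ i ∈ Finset.range e, Nat.card E ^ i).prod := by
      refine Nat.eq_of_mul_eq_mul_right (Nat.card_pos (α := ↥Fr.S.H)) ?_
      rw [Fr.S.H.index_mul_card, hcard, Finset.sum_congr rfl fun w _ => Fr.S.card_Uw w,
        Q.X.good.sum_pow_inv_eq (Nat.card E) hdeg,
        show Nat.card Fr.S.U = Nat.card E ^ (posSet D).card from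
          Fr.S.toUnip.card_XS (Fr.S.P_eq ▸ Fr.S.toUnip.closed_P)]
      ring
    intro h
    rw [h2] at h
    rcases (Nat.Prime.dvd_mul hr.out).1 h with h3 | h3
    · exact hrq (hr.out.dvd_of_dvd_pow (hE ▸ hr.out.dvd_of_dvd_pow h3))
    · refine hrdegs ((ZMod.natCast_eq_zero_iff _ r).1 ?_)
      rw [← geom_prod_cast (r := r) (Q := Nat.card E) (by
        rw [show Nat.card E = m + 1 by omega, Nat.cast_add, (ZMod.natCast_eq_zero_iff _ r).2 hrm,
          Nat.cast_one, zero_add]) degs]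
      exact (ZMod.natCast_eq_zero_iff _ r).2 h3
  obtain ⟨g, hg⟩ : ∃ g, g⁻¹ * xK * g ∈ Fr.S.H := by
    have hP : IsPGroup r (Subgroup.zpowers xK) :=
      IsPGroup.of_card (n := 1) (by rw [Nat.card_zpowers, hxord, pow_one])
    have hmod := hP.card_modEq_card_fixedPoints (G ⧸ Fr.S.H)
    have hne : Nat.card (MulAction.fixedPoints (Subgroup.zpowers xK) (G ⧸ Fr.S.H)) ≠ 0 := by
      intro h0
      rw [h0] at hmod
      exact hindex (Nat.modEq_zero_iff_dvd.1 hmod)
    obtain ⟨⟨c, hc'⟩⟩ := (Nat.card_ne_zero.1 hne).1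
    induction c using QuotientGroup.induction_on with
    | _ g =>
      refine ⟨g, ?_⟩
      have h1 := hc' ⟨xK, Subgroup.mem_zpowers xK⟩
      have h2 := QuotientGroup.eq.1 h1
      have h3 := inv_mem h2
      simpa [mul_assoc] using h3
  obtain ⟨ω, hω⟩ := IsCyclic.exists_generator (α := Eˣ)
  have hωord : orderOf ω = m := by
    rw [orderOf_eq_card_of_forall_mem_zpowers hω, Nat.card_units]
  have hωz : ∀ k : ℤ, ω ^ k = 1 ↔ (m : ℤ) ∣ k := fun k => by
    rw [← orderOf_dvd_iff_zpow_eq_one, hωord]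
  have hωeq : ∀ k l : ℤ, ω ^ k = ω ^ l ↔ (m : ℤ) ∣ k - l := fun k l => by
    rw [← hωz, _root_.zpow_sub, mul_inv_eq_one]
  let T : (Fin Q.X.n → ℤ) → G := fun a => Fr.tor (powTuple ω a)
  have hTeq : ∀ a b, T a = T b ↔ ∀ j, (m : ℤ) ∣ a j - b j := fun a b => by
    constructor
    · intro h j; exact (hωeq _ _).1 (congrFun (Fr.tor_inj h) j)
    · intro h; exact congrArg Fr.tor (funext fun j => (hωeq _ _).2 (h j))
  have hTsurj : ∀ h ∈ Fr.S.H, ∃ a, h = T a := by
    intro h hh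
    obtain ⟨v, rfl⟩ := Fr.exists_tor hh
    choose a ha using fun j => Subgroup.mem_zpowers_iff.1 (hω (v j))
    exact ⟨a, congrArg Fr.tor (funext fun j => (ha j).symm)⟩
  have hTH : ∀ a, T a ∈ Fr.S.H := fun a => Fr.tor_mem _
  have hTadd : ∀ a b, T (a + b) = T a * T b := fun a b => by
    show Fr.tor _ = Fr.tor _ * Fr.tor _
    rw [← map_mul]; congr 1; funext j; exact _root_.zpow_add ω (a j) (b j)
  have hT0 : T 0 = 1 := by
    show Fr.tor _ = 1
    rw [show powTuple (n := Q.X.n) ω 0 = 1 from funext fun j => zpow_zero ω, map_one]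
  have hTsmul : ∀ (k : ℕ) a, T ((k : ℤ) • a) = T a ^ k := fun k a => by
    show Fr.tor _ = Fr.tor _ ^ k
    rw [← map_pow]; congr 1; funext j
    simp only [powTuple, Pi.pow_apply, Pi.smul_apply, smul_eq_mul]
    rw [← zpow_natCast (ω ^ a j), ← _root_.zpow_mul, mul_comm]
  have hφT : ∀ a, φ (T a) = T ((q : ℤ) • a) := by
    intro a
    show φ (Fr.tor _) = Fr.tor _
    rw [A.map_tor]
    congr 1
    funext j
    refine Units.ext ?_
    show frobE F p d (((ω ^ a j : Eˣ)) : E) = ((ω ^ ((q : ℤ) * a j) : Eˣ) : E)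
    rw [frobE_apply, Nat.card_eq_fintype_card, hq, mul_comm, _root_.zpow_mul, zpow_natCast,
      Units.val_pow_eq_pow_val]
  have hconjT : ∀ w a, Fr.S.rep w * T a * (Fr.S.rep w)⁻¹ = T ((wmat Q w).mulVec a) :=
    fun w a => Fr.rep_conj_tor hA0 w ω a
  have hregT : ∀ a, (∀ s, s < D.nroots → ¬ (m : ℤ) ∣ pr Q.X.n D s a) → ∀ s, s < D.nroots →
      ∀ u : E, ∀ t' : E, T a * Fr.S.x s u * (T a)⁻¹ = Fr.S.x s t' → t' = u → u = 0 := by
    intro a ha s hs u t' h1 h2
    rw [h2, show T a = Fr.tor (powTuple ω a) from rfl, Fr.tor_conj_x ω a hs] at h1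
    by_contra hu
    refine ha s hs ((hωz _).1 (Units.ext (mul_right_cancel₀ hu ?_)))
    rw [Units.val_one, one_mul]
    exact Fr.x_inj s hs h1
  obtain ⟨a, ha⟩ := hTsurj _ hg
  set t := T a with ht
  have ha' : g⁻¹ * xK * g = t := ha
  obtain ⟨mr, hmr⟩ := hrm
  have hmr0 : mr ≠ 0 := fun h => by rw [h, mul_zero] at hmr; omega
  have hab : ∀ j, (mr : ℤ) ∣ a j := by
    intro j
    have h1 : T ((r : ℤ) • a) = T 0 := by
      rw [hTsmul, hT0, show T a = g⁻¹ * xK * g from ha'.symm, show g⁻¹ * xK * g = g⁻¹ * xK * g⁻¹⁻¹ by rw [inv_inv], conj_pow,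
        ← hxord, pow_orderOf_eq_one, mul_one, mul_inv_cancel]
    have h2 := (hTeq _ _).1 h1 j
    simp only [Pi.smul_apply, smul_eq_mul, Pi.zero_apply, sub_zero, hmr, Nat.cast_mul] at h2
    exact Int.dvd_of_mul_dvd_mul_left (by exact_mod_cast hr.out.ne_zero) h2
  choose b hb using hab
  have habv : a = (mr : ℤ) • b := funext fun j => by simp [hb j]
  have hdvd : ∀ k : ℤ, (m : ℤ) ∣ (mr : ℤ) * k ↔ (r : ℤ) ∣ k := fun k => by
    rw [hmr, Nat.cast_mul, mul_comm (r : ℤ)]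
    exact Int.mul_dvd_mul_iff_left (by exact_mod_cast hmr0)
  have hbne : ∃ j, ¬ (r : ℤ) ∣ b j := by
    by_contra hall
    push Not at hall
    have h1 : t = 1 := by
      rw [ht, ← hT0, hTeq]
      intro j
      rw [habv, Pi.smul_apply, Pi.zero_apply, sub_zero, smul_eq_mul, hdvd]
      exact hall j
    rw [← ha'] at h1
    have h2 : xK = 1 := by
      have : g⁻¹ * xK = g⁻¹ := mul_eq_one_iff_eq_inv.1 h1
      exact mul_eq_left.1 this
    rw [h2, orderOf_one] at hxord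
    exact hr.out.one_lt.ne hxord
  set nn := g⁻¹ * φ g with hnn
  have htwist : t * nn = nn * φ t := by
    rw [← ha', map_mul, map_mul, map_inv, hxK, hfix, hnn]
    group
  -- a Weyl group element twisting `b`
  have htw : ∀ w, Fr.S.rep w * φ t * (Fr.S.rep w)⁻¹ = t →
      ∀ j, (r : ℤ) ∣ (q : ℤ) * b j - (wmat Q w⁻¹).mulVec b j := by
    intro w hw j
    rw [ht, hφT, hconjT, hTeq] at hw
    have h1 := dvd_mulVec (wmat Q w⁻¹) hw j
    rw [show (fun i => ((wmat Q w).mulVec ((q : ℤ) • a)) i - a i) = (wmat Q w).mulVec ((q : ℤ) • a) - a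
      from rfl, mulVec_sub, mulVec_mulVec, ← wmat_mul Q hA0, inv_mul_cancel, wmat_one Q hA0,
      one_mulVec, habv, mulVec_smul] at h1
    rw [← hdvd]
    convert h1 using 1
    simp only [Pi.sub_apply, Pi.smul_apply, smul_eq_mul]
    ring
  obtain ⟨w0, hw0⟩ := Fr.conj_weyl (hφT a ▸ hTH _) (hTH a) htwist
  have hbreg : ∀ s, s < D.nroots → ¬ (r : ℤ) ∣ pr Q.X.n D s b :=
    (hlat w0 b hbne (htw w0 hw0)).1
  have harega : ∀ s, s < D.nroots → ¬ (m : ℤ) ∣ pr Q.X.n D s a := fun s hs h => by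
    rw [habv, pr_smul, hdvd] at h
    exact hbreg s hs h
  have hqa : ∀ s, s < D.nroots → ¬ (m : ℤ) ∣ pr Q.X.n D s ((q : ℤ) • a) := fun s hs h => by
    rw [habv, smul_comm, pr_smul, hdvd, pr_smul] at h
    rcases (Nat.prime_iff_prime_int.1 hr.out).dvd_or_dvd h with h | h
    · exact hrq (Int.natCast_dvd_natCast.1 h)
    · exact hbreg s hs h
  obtain ⟨h0, hh0, w, hnw, hw⟩ := Fr.conj_regular (hφT a ▸ hTH _) (hTH a)
    (by rw [ht, hφT]; exact hregT _ hqa) (hregT a harega) htwist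
  obtain ⟨-, hBdet0, hcyc⟩ := hlat w b hbne (htw w hw)
  set M := wmat Q w⁻¹ with hMdef
  set B := (q : ℤ) • (1 : Matrix (Fin Q.X.n) (Fin Q.X.n) ℤ) - M with hB
  have hBdet : B.det = e := hBdet0
  have he0 : e ≠ 0 := fun h => by
    rw [h] at hem
    have := eq_zero_of_zero_dvd hem
    omega
  obtain ⟨me, hme⟩ := hem
  set Cm := (me : ℤ) • B.adjugate with hCm
  have hBC : ∀ y, B.mulVec (Cm.mulVec y) = (m : ℤ) • y := fun y => by
    rw [mulVec_mulVec, hCm, Matrix.mul_smul, mul_adjugate, hBdet, smul_smul, smul_mulVec,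
      one_mulVec, hme]
    congr 1
    push_cast; ring
  have hBinj : ∀ u v, B.mulVec u = B.mulVec v → u = v := fun u v h =>
    sub_eq_zero.1 (eq_zero_of_mulVec_eq_zero (by rw [hBdet]; exact_mod_cast he0)
      (by rw [mulVec_sub, h, sub_self]))
  have hBa : ∀ a', (∀ j, (m : ℤ) ∣ B.mulVec a' j) → ∃ y, a' = Cm.mulVec y := by
    intro a' h
    choose y hy using h
    exact ⟨y, hBinj _ _ (by rw [hBC]; funext j; simpa using hy j)⟩
  -- fixed torus elements
  have hfixT : ∀ a', φ (g * T a' * g⁻¹) = g * T a' * g⁻¹ ↔ ∀ j, (m : ℤ) ∣ B.mulVec a' j := by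
    intro a'
    have e1 : φ (g * T a' * g⁻¹) = g * T ((wmat Q w).mulVec ((q : ℤ) • a')) * g⁻¹ := by
      have e2 : φ g = g * (h0 * Fr.S.rep w) := by rw [← hnw, hnn, mul_inv_cancel_left]
      rw [map_mul, map_mul, map_inv, hφT, e2, ← hconjT]
      have e3 : Fr.S.rep w * T ((q : ℤ) • a') * (Fr.S.rep w)⁻¹ ∈ Fr.S.H :=
        Fr.S.rep_conj_H w (hTH _)
      have e4 := Fr.H_comm hh0 e3
      calc g * (h0 * Fr.S.rep w) * T ((q : ℤ) • a') * (g * (h0 * Fr.S.rep w))⁻¹
          = g * (h0 * (Fr.S.rep w * T ((q : ℤ) • a') * (Fr.S.rep w)⁻¹) * h0⁻¹) * g⁻¹ := by group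
        _ = _ := by rw [e4, mul_inv_cancel_right]
    rw [e1, mul_left_inj, mul_right_inj, hTeq]
    constructor
    · intro h j
      have h1 := dvd_mulVec (wmat Q w⁻¹) h j
      rw [show (fun i => ((wmat Q w).mulVec ((q : ℤ) • a')) i - a' i)
        = (wmat Q w).mulVec ((q : ℤ) • a') - a' from rfl, mulVec_sub, mulVec_mulVec,
        ← wmat_mul Q hA0, inv_mul_cancel, wmat_one Q hA0, one_mulVec] at h1
      rw [hB, sub_mulVec, smul_mulVec, one_mulVec]
      exact h1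
    · intro h j
      have h1 := dvd_mulVec (wmat Q w) h j
      rw [hB, sub_mulVec, smul_mulVec,
        one_mulVec, mulVec_sub, mulVec_mulVec, hMdef, ← wmat_mul Q hA0, mul_inv_cancel,
        wmat_one Q hA0, one_mulVec] at h1
      exact h1
  let Ψ : (Fin Q.X.n → ℤ) →+ Additive G :=
    { toFun := fun y => Additive.ofMul (g * T (Cm.mulVec y) * g⁻¹)
      map_zero' := by rw [mulVec_zero, hT0, mul_one, mul_inv_cancel]; rfl
      map_add' := fun y y' => by
        rw [mulVec_add, hTadd, ← ofMul_mul]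
        congr 1
        group }
  set HF := Subgroup.centralizer ({x} : Set G₀) with hHF
  have hmapHF : ∀ z, z ∈ HF.map ι ↔ ∃ y, g * T (Cm.mulVec y) * g⁻¹ = z := by
    intro z
    constructor
    · rintro ⟨z0, hz0, rfl⟩
      have hcomm : ι z0 * xK = xK * ι z0 := by
        rw [hxK, ← map_mul, ← map_mul, Subgroup.mem_centralizer_singleton_iff.1 hz0]
      have hc' : t * (g⁻¹ * ι z0 * g) = (g⁻¹ * ι z0 * g) * t := by
        rw [← ha']
        calc _ = g⁻¹ * (xK * ι z0) * g := by group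
          _ = g⁻¹ * (ι z0 * xK) * g := by rw [hcomm]
          _ = _ := by group
      obtain ⟨h1, hh1, w', e1, e2⟩ :=
        Fr.conj_regular (hTH a) (hTH a) (hregT a harega) (hregT a harega) hc'
      have hw' : w' = 1 := by
        refine hstab b hbreg w' fun j => ?_
        rw [hconjT, hTeq] at e2
        have := e2 j
        rw [habv, mulVec_smul, Pi.smul_apply, Pi.smul_apply, ← smul_sub, smul_eq_mul, hdvd] at this
        exact this
      rw [hw', Fr.S.rep_one, mul_one] at e1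
      obtain ⟨a', ha'⟩ := hTsurj h1 hh1
      have e3 : ι z0 = g * T a' * g⁻¹ := by rw [← ha', ← e1]; group
      have hfixa : φ (g * T a' * g⁻¹) = g * T a' * g⁻¹ := by rw [← e3]; exact hfix z0
      obtain ⟨y, rfl⟩ := hBa a' ((hfixT a').1 hfixa)
      exact ⟨y, e3.symm⟩
    · rintro ⟨y, rfl⟩
      have hf : φ (g * T (Cm.mulVec y) * g⁻¹) = g * T (Cm.mulVec y) * g⁻¹ :=
        (hfixT _).2 fun j => by rw [hBC]; exact dvd_mul_right _ _
      obtain ⟨z0, hz0⟩ := A.mem_range_iff.2 hf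
      refine ⟨z0, Subgroup.mem_centralizer_singleton_iff.2 (hι ?_), hz0⟩
      show ι (z0 * x) = ι (x * z0)
      rw [map_mul, map_mul, show ι z0 = g * T (Cm.mulVec y) * g⁻¹ from hz0, ← hxK,
        show xK = g * (g⁻¹ * xK * g) * g⁻¹ by group, ha']
      show g * T (Cm.mulVec y) * g⁻¹ * (g * T a * g⁻¹) = g * T a * g⁻¹ * (g * T (Cm.mulVec y) * g⁻¹)
      calc g * T (Cm.mulVec y) * g⁻¹ * (g * T a * g⁻¹) = g * (T (Cm.mulVec y) * T a) * g⁻¹ := by group
        _ = g * (T a * T (Cm.mulVec y)) * g⁻¹ := by rw [Fr.H_comm (hTH _) (hTH a)]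
        _ = _ := by group
  have hcardHF : Nat.card HF = e := by
    have h1 : Nat.card HF = Nat.card Ψ.range := by
      rw [Nat.card_congr (HF.equivMapOfInjective ι (hι)).toEquiv]
      exact Nat.card_congr (Equiv.subtypeEquiv Additive.ofMul fun z => by
        rw [hmapHF, AddMonoidHom.mem_range]
        exact exists_congr fun y => Additive.ofMul.injective.eq_iff.symm)
    rw [h1, ← AddSubgroup.index_ker Ψ]
    have hker : Ψ.ker = B.mulVecLin.range.toAddSubgroup := by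
      ext y
      rw [AddMonoidHom.mem_ker, Submodule.mem_toAddSubgroup, LinearMap.mem_range]
      show Additive.ofMul (g * T (Cm.mulVec y) * g⁻¹) = 0 ↔ _
      rw [ofMul_eq_zero, conj_eq_one_iff, ← hT0, hTeq]
      constructor
      · intro h
        choose z hz using h
        refine ⟨z, ?_⟩
        show B.mulVec z = y
        have h2 : Cm.mulVec y = (m : ℤ) • z := funext fun j => by simpa using hz j
        have h3 := hBC y
        rw [h2, mulVec_smul] at h3
        exact smul_right_injective _ (show (m : ℤ) ≠ 0 by omega) h3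
      · rintro ⟨z, rfl⟩ j
        have h2 : Cm.mulVec (B.mulVec z) = (m : ℤ) • z := hBinj _ _ (by rw [hBC, mulVec_smul])
        rw [show B.mulVecLin z = B.mulVec z from rfl, h2]
        simp
    rw [hker, index_range B (by rw [hBdet]; exact_mod_cast he0), hBdet, Int.natAbs_natCast]
  have hcomm : ∀ u v : HF, u * v = v * u := fun u v => by
    obtain ⟨y, hy⟩ := (hmapHF (ι u)).1 ⟨_, u.2, rfl⟩
    obtain ⟨y', hy'⟩ := (hmapHF (ι v)).1 ⟨_, v.2, rfl⟩
    refine Subtype.ext (hι ?_)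
    show ι ((u : G₀) * v) = ι (v * u)
    rw [map_mul, map_mul, ← hy, ← hy']
    calc _ = g * (T (Cm.mulVec y) * T (Cm.mulVec y')) * g⁻¹ := by group
      _ = g * (T (Cm.mulVec y') * T (Cm.mulVec y)) * g⁻¹ := by rw [Fr.H_comm (hTH _) (hTH _)]
      _ = _ := by group
  refine ⟨x, ω, g, h0, w, b, hω, hx, ?_, hcardHF, hh0, by rw [← hnw, hnn], hbne, htw w hw, ?_, ?_⟩
  · letI : CommGroup HF := { (inferInstance : Group HF) with mul_comm := hcomm }
    refine isCyclic_of_prime_torsion fun l hl => ?_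
    haveI : Fact l.Prime := ⟨hl⟩
    by_cases hlB : ¬ l * l ∣ e
    · let S : Subgroup HF := (powMonoidHom (α := HF) l).ker
      have hS : IsPGroup l S := fun z => ⟨1, by rw [pow_one]; exact Subtype.ext z.2⟩
      obtain ⟨k, hk⟩ := IsPGroup.iff_card.1 hS
      have hdvdk : l ^ k ∣ e := by rw [← hk, ← hcardHF]; exact S.card_subgroup_dvd_card
      have hk1 : k ≤ 1 := by
        by_contra hk2
        exact hlB (dvd_trans (by rw [← sq]; exact pow_dvd_pow l (by omega)) hdvdk)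
      calc Nat.card {z : HF // z ^ l = 1} = Nat.card S :=
            Nat.card_congr (Equiv.subtypeEquivRight fun z => Iff.rfl)
        _ = l ^ k := hk
        _ ≤ l ^ 1 := Nat.pow_le_pow_right hl.pos hk1
        _ = l := pow_one l
    · push Not at hlB
      obtain ⟨fv, hfv⟩ := hcyc l hl hlB
      choose y hy using fun z : HF => (hmapHF (ι z)).1 ⟨_, z.2, rfl⟩
      let f : {z : HF // z ^ l = 1} → {u : Eˣ // u ^ l = 1} := fun z =>
        ⟨ω ^ dotProduct fv (Cm.mulVec (y z.1)), by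
          have h1 : g * T (Cm.mulVec (y z.1)) ^ l * g⁻¹ = 1 := by
            rw [← conj_pow, hy, ← map_pow,
              show ((z.1 : HF) : G₀) ^ l = ((z.1 ^ l : HF) : G₀) from rfl, z.2]
            exact map_one ι
          rw [conj_eq_one_iff, ← hTsmul, ← hT0, hTeq] at h1
          rw [← zpow_natCast, ← _root_.zpow_mul, hωz, mul_comm, ← smul_eq_mul, ← dotProduct_smul]
          exact Finset.dvd_sum fun j _ => dvd_mul_of_dvd_right (by simpa using h1 j) _⟩
      have hfinj : Function.Injective f := by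
        intro z z' he'
        have h1 := (hωeq _ _).1 (congrArg Subtype.val he')
        rw [← dotProduct_sub, ← mulVec_sub] at h1
        set dd := Cm.mulVec (y z.1 - y z'.1) with hdd
        have hl' : ∀ j, (m : ℤ) ∣ (l : ℤ) * dd j := by
          intro j
          have h3 : ∀ z : {z : HF // z ^ l = 1}, ∀ j, (m : ℤ) ∣ (l : ℤ) * Cm.mulVec (y z.1) j := by
            intro z j
            have h1 : g * T (Cm.mulVec (y z.1)) ^ l * g⁻¹ = 1 := by
              rw [← conj_pow, hy, ← map_pow,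
                show ((z.1 : HF) : G₀) ^ l = ((z.1 ^ l : HF) : G₀) from rfl, z.2]
              exact map_one ι
            rw [conj_eq_one_iff, ← hTsmul, ← hT0, hTeq] at h1
            simpa using h1 j
          rw [hdd, mulVec_sub, Pi.sub_apply, mul_sub]
          exact dvd_sub (h3 z j) (h3 z' j)
        have h2 := hfv (m : ℤ) dd (fun j => by rw [hdd, hBC]; exact dvd_mul_right _ _) hl' h1
        have hTT : T (Cm.mulVec (y z.1)) = T (Cm.mulVec (y z'.1)) := by
          rw [hTeq]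
          intro j
          have := h2 j
          rwa [hdd, mulVec_sub, Pi.sub_apply] at this
        refine Subtype.ext (Subtype.ext (hι ?_))
        show ι _ = ι _
        rw [← hy, ← hy, hTT]
      refine le_trans (Nat.card_le_card_of_injective f hfinj) ?_
      rw [Nat.card_eq_fintype_card, Fintype.card_subtype]
      exact IsCyclic.card_pow_eq_one_le hl.pos
  · have hdiv : (Nat.card E - 1) / r = mr := by
      rw [← hm, hmr, Nat.mul_div_cancel_left _ hr.out.pos]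
    rw [hdiv, ← habv, ← hxK, show xK = g * (g⁻¹ * xK * g) * g⁻¹ by group, ha']
  · intro z hz
    obtain ⟨y, hy⟩ := (hmapHF (ι z)).1 ⟨_, hz, rfl⟩
    refine ⟨Cm.mulVec y, hy.symm, fun j => ?_⟩
    have h1 : (m : ℤ) ∣ B.mulVec (Cm.mulVec y) j := by rw [hBC]; exact dvd_mul_right _ _
    rw [hB, sub_mulVec, smul_mulVec, one_mulVec] at h1
    exact h1

/-- The centraliser of an element of prime order with a regular eigenvector. -/
theorem exists_cyclic {D : ChevalleyDatum} {F : Type*} [Field F] [Fintype F] {q : ℕ}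
    (hq : Fintype.card F = q) {p : ℕ} [Fact p.Prime] [CharP F p] {d : ℕ} [NeZero d]
    {Q : H37.Chev.Data D (FiniteField.Extension F p d)} {G : Type*} [Group G] [Finite G]
    {G₀ : Type*} [Group G₀] [Finite G₀] (Fr : Frame Q G) {ι : G₀ →* G}
    (hι : Function.Injective ι) {φ : MulAut G} (A : FrobLift Fr ι φ (frobE F p d))
    {degs : List ℕ} (hdeg : Q.X.C.degCheck Q.X.n degs = true) (hA0 : (cartanT Q).det ≠ 0)
    {e : ℕ} (hem0 : e ∣ q ^ d - 1)
    {r : ℕ} [hr : Fact r.Prime] (hre : r ∣ e) (hrdegs : ¬ r ∣ degs.prod)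
    (hrG : r ∣ Nat.card G₀)
    (hlat : ∀ w : Q.X.M.Group, ∀ b : Fin Q.X.n → ℤ, (∃ j, ¬ (r : ℤ) ∣ b j) →
      (∀ j, (r : ℤ) ∣ (q : ℤ) * b j - (wmat Q w⁻¹).mulVec b j) →
      (∀ s, s < D.nroots → ¬ (r : ℤ) ∣ pr Q.X.n D s b) ∧
      ((q : ℤ) • (1 : Matrix (Fin Q.X.n) (Fin Q.X.n) ℤ) - wmat Q w⁻¹).det = e ∧
      ∀ l : ℕ, l.Prime → l * l ∣ e → ∃ f : Fin Q.X.n → ℤ, ∀ (m : ℤ) (a : Fin Q.X.n → ℤ),
        (∀ j, m ∣ ((q : ℤ) • (1 : Matrix (Fin Q.X.n) (Fin Q.X.n) ℤ) - wmat Q w⁻¹).mulVec a j) →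
        (∀ j, m ∣ (l : ℤ) * a j) → m ∣ dotProduct f a → ∀ j, m ∣ a j)
    (hstab : ∀ b : Fin Q.X.n → ℤ, (∀ s, s < D.nroots → ¬ (r : ℤ) ∣ pr Q.X.n D s b) →
      ∀ v : Q.X.M.Group, (∀ j, (r : ℤ) ∣ (wmat Q v).mulVec b j - b j) → v = 1) :
    ∃ x : G₀, orderOf x = r ∧ IsCyclic ↥(Subgroup.centralizer ({x} : Set G₀)) ∧
      Nat.card ↥(Subgroup.centralizer ({x} : Set G₀)) = e := by
  obtain ⟨x, -, -, -, -, -, -, hx, hc, he, -⟩ :=
    exists_cyclic_data hq Fr hι A hdeg hA0 hem0 hre hrdegs hrG hlat hstab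
  exact ⟨x, hx, hc, he⟩

end Cfsg.Agent.Chevalley.TwTorus.Sc
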