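import Cfsg.Agent.Chevalley.TwTorus.Lattice

/-!
Isometries of finite order of a positive even indecomposable lattice of rank six and discriminant
three having a twelfth root of unity as an eigenvalue.
-/
set_option autoImplicit false
set_option linter.style.haveILetI false
set_option linter.unusedSectionVars false

namespace Cfsg.Agent.Chevalley.TwTorus.Sc

open Matrix Polynomial

variable {n : ℕ}

/-- The twelfth cyclotomic polynomial at a matrix. -/
def P12 (M : Matrix (Fin n) (Fin n) ℤ) : Matrix (Fin n) (Fin n) ℤ := M ^ 4 - M ^ 2 + 1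

/-- The third cyclotomic polynomial at a matrix. -/
def P3 (M : Matrix (Fin n) (Fin n) ℤ) : Matrix (Fin n) (Fin n) ℤ := M ^ 2 + M + 1

theorem cyclotomic_twelve : cyclotomic 12 ℤ = X ^ 4 - X ^ 2 + 1 := by
  have h6 : cyclotomic 6 ℤ = X ^ 2 - X + 1 := cyclotomic_six ℤ
  rw [show (12 : ℕ) = 6 * 2 by norm_num,
    ← cyclotomic_expand_eq_cyclotomic Nat.prime_two (by norm_num : 2 ∣ 6) ℤ, h6]
  simp [expand_X, ← pow_mul]

theorem aeval_twelve (M : Matrix (Fin n) (Fin n) ℤ) :
    aeval M (cyclotomic 12 ℤ) = P12 M := by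
  simp [cyclotomic_twelve, P12]

/-- The cofactor argument: the cyclotomic polynomial is singular at the matrix. -/
theorem det_cyclo_eq_zero (M : Matrix (Fin n) (Fin n) ℤ) {N d r : ℕ} [hr : Fact r.Prime]
    (hN : 0 < N) (hMN : M ^ N = 1) (hrN : ¬ r ∣ N) (hrd : ¬ r ∣ d) {q : ℤ}
    (hq : (r : ℤ) ∣ (cyclotomic d ℤ).eval q) {b : Fin n → ℤ} (hb : ∃ j, ¬ (r : ℤ) ∣ b j)
    (hMb : ∀ j, (r : ℤ) ∣ M.mulVec b j - q * b j) :
    (aeval M (cyclotomic d ℤ)).det = 0 := by
  set φ := Int.castRingHom (ZMod r)
  set M' := M.map φ with hM'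
  set b' : Fin n → ZMod r := fun j => φ (b j) with hb'
  set q' : ZMod r := φ q with hq'
  have hbne : b' ≠ 0 := fun h => by
    obtain ⟨j, hj⟩ := hb
    exact hj ((ZMod.intCast_zmod_eq_zero_iff_dvd _ r).1 (congrFun h j))
  have heig : M'.mulVec b' = q' • b' := by
    funext j
    rw [Pi.smul_apply, smul_eq_mul, hM', hb', show (M.map φ).mulVec (fun j => φ (b j)) j
      = φ (M.mulVec b j) from (RingHom.map_mulVec φ M b j).symm, hq', ← map_mul]
    exact sub_eq_zero.1 (by rw [← map_sub]; exact (ZMod.intCast_zmod_eq_zero_iff_dvd _ r).2 (hMb j))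
  have hroot : (cyclotomic d (ZMod r)).IsRoot q' := by
    rw [IsRoot, ← map_cyclotomic d φ, eval_map, hq', eval₂_at_apply]
    exact (ZMod.intCast_zmod_eq_zero_iff_dvd _ r).2 hq
  haveI : NeZero (d : ZMod r) := ⟨fun h => hrd ((CharP.cast_eq_zero_iff (ZMod r) r d).1 h)⟩
  have hprim := isRoot_cyclotomic_iff.1 hroot
  have hqN : q' ^ N = 1 := by
    have h1 := aeval_mulVec M' heig (X ^ N)
    rw [map_pow, aeval_X, eval_pow, eval_X, show M' ^ N = (M ^ N).map φ from
      (map_pow φ.mapMatrix M N).symm, hMN] at h1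
    rw [show (1 : Matrix (Fin n) (Fin n) ℤ).map φ = 1 from map_one φ.mapMatrix, one_mulVec] at h1
    by_contra hne
    obtain ⟨j, hj⟩ := Function.ne_iff.1 hbne
    have h2 := congrFun h1 j
    rw [Pi.smul_apply, smul_eq_mul] at h2
    exact hne (mul_right_cancel₀ hj (by rw [← h2, one_mul]))
  have hdN : d ∣ N := hprim.eq_orderOf ▸ orderOf_dvd_of_pow_eq_one hqN
  obtain ⟨g, hg⟩ : cyclotomic d ℤ ∣ X ^ N - 1 := by
    rw [← prod_cyclotomic_eq_X_pow_sub_one hN]
    exact Finset.dvd_prod_of_mem _ (Nat.mem_divisors.2 ⟨hdN, hN.ne'⟩)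
  have hprod : aeval M (cyclotomic d ℤ) * aeval M g = 0 := by
    rw [← map_mul, ← hg, map_sub, map_pow, aeval_X, hMN, map_one, sub_self]
  set P := aeval M (cyclotomic d ℤ) with hP
  by_contra hdet
  have hg0 : aeval M g = 0 := by
    have := congrArg (fun x => P.adjugate * x) hprod
    simp only [← mul_assoc, adjugate_mul, mul_zero, smul_one_mul] at this
    exact (smul_eq_zero.1 this).resolve_left hdet
  set g' := g.map φ
  have hg' : aeval M' g' = 0 := by
    have h1 := aeval_algHom_apply φ.mapMatrix.toIntAlgHom M g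
    rw [hg0, map_zero] at h1
    show aeval M' (g.map φ) = 0
    rw [show φ = algebraMap ℤ (ZMod r) from (algebraMap_int_eq _).symm, aeval_map_algebraMap]
    exact h1
  have hgq : g'.eval q' = 0 := by
    have h1 := aeval_mulVec M' heig g'
    rw [hg', zero_mulVec] at h1
    exact (smul_eq_zero.1 h1.symm).resolve_right hbne
  have hfac : (X ^ N - 1 : (ZMod r)[X]) = cyclotomic d (ZMod r) * g' := by
    have := congrArg (Polynomial.map φ) hg
    rwa [Polynomial.map_sub, Polynomial.map_pow, map_X, Polynomial.map_one, Polynomial.map_mul,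
      map_cyclotomic] at this
  have hder := congrArg (fun p => (derivative p).eval q') hfac
  simp only [derivative_sub, derivative_one, sub_zero, derivative_X_pow, derivative_mul, eval_add,
    eval_mul, eval_C, eval_pow, eval_X, hgq, mul_zero, add_zero, hroot.eq_zero, zero_mul] at hder
  have hq0 : q' ≠ 0 := fun h => by
    rw [h, zero_pow hN.ne'] at hqN
    exact zero_ne_one hqN
  rcases mul_eq_zero.1 hder with h | h
  · exact hrN ((CharP.cast_eq_zero_iff (ZMod r) r N).1 h)
  · exact pow_ne_zero _ hq0 h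

/-- The determinant of a Gram matrix from a rectangular factor is bounded by its diagonal. -/
theorem gram_det_le' {k : ℕ} (P : Matrix (Fin k) (Fin n) ℤ) {L : ℕ} (hL : 0 < L)
    (h : ∀ i, (P.transpose * P) i i ≤ L) : (P.transpose * P).det ≤ (L : ℤ) ^ n := by
  set A : Matrix (Fin k) (Fin n) ℝ := P.map (Int.castRingHom ℝ) with hA
  set B := A.transpose * A with hB
  have hPSD : B.PosSemidef := by
    have := Matrix.posSemidef_conjTranspose_mul_self A
    rwa [conjTranspose_eq_transpose_of_trivial] at this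
  have hBmap : B = (P.transpose * P).map (Int.castRingHom ℝ) := by
    rw [hB, hA, Matrix.map_mul, Matrix.transpose_map]
  have hdet : B.det = (((P.transpose * P).det : ℤ) : ℝ) := by
    rw [hBmap, ← RingHom.mapMatrix_apply, ← RingHom.map_det]
    rfl
  have htr : B.trace ≤ n * L := by
    calc B.trace = ∑ i, (((P.transpose * P) i i : ℤ) : ℝ) := by
          rw [hBmap]; rfl
      _ ≤ ∑ _i : Fin n, (L : ℝ) := Finset.sum_le_sum fun i _ => by exact_mod_cast h i
      _ = n * L := by simp
  have hev := hPSD.eigenvalues_nonneg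
  have h1 := hPSD.1.det_eq_prod_eigenvalues
  have h2 := hPSD.1.trace_eq_sum_eigenvalues
  simp only [RCLike.ofReal_real_eq_id, id_eq] at h1 h2
  have hLr : (0 : ℝ) < L := by exact_mod_cast hL
  have hexp : ∏ i, hPSD.1.eigenvalues i / L ≤ 1 := by
    calc ∏ i, hPSD.1.eigenvalues i / L ≤ ∏ i, Real.exp (hPSD.1.eigenvalues i / L - 1) :=
          Finset.prod_le_prod (fun i _ => div_nonneg (hev i) hLr.le) fun i _ => by
            have := Real.add_one_le_exp (hPSD.1.eigenvalues i / L - 1)
            linarith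
      _ = Real.exp (∑ i, (hPSD.1.eigenvalues i / L - 1)) := (Real.exp_sum _ _).symm
      _ ≤ Real.exp 0 := Real.exp_le_exp.2 (by
          rw [Finset.sum_sub_distrib, ← Finset.sum_div, ← h2, Finset.sum_const, Finset.card_univ,
            Fintype.card_fin, nsmul_one, sub_nonpos, div_le_iff₀ hLr]
          exact htr)
      _ = 1 := Real.exp_zero
  rw [Finset.prod_div_distrib, ← h1, hdet, Finset.prod_const, Finset.card_univ, Fintype.card_fin,
    div_le_one (pow_pos hLr n)] at hexp
  exact_mod_cast hexp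

/-- The hypotheses on an isometry. -/
structure Iso6 (A M : Matrix (Fin 6) (Fin 6) ℤ) : Prop where
  symm : A.transpose = A
  diag : ∀ i, A i i = 2
  even : ∀ x : Fin 6 → ℤ, 2 ∣ dotProduct x (A.mulVec x)
  pos : ∀ x : Fin 6 → ℤ, x ≠ 0 → 0 < dotProduct x (A.mulVec x)
  conn : ∀ f : Fin 6 → Prop, (∀ i j, A i j ≠ 0 → (f i ↔ f j)) → (∀ i, f i) ∨ (∀ i, ¬ f i)
  det : A.det = 3
  iso : M.transpose * A * M = A
  fin : ∃ N, 0 < N ∧ M ^ N = 1
  disc : ∀ i j, (3 : ℤ) ∣ ((1 - M) * A.adjugate) i j
  sing : (P12 M).det = 0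

namespace Iso6

variable {A M : Matrix (Fin 6) (Fin 6) ℤ} (H : Iso6 A M)
include H

theorem sum_smul_pow {k : ℕ} (c : Fin k → ℤ) :
    aeval M (∑ j : Fin k, Polynomial.C (c j) * X ^ (j : ℕ)) = ∑ j : Fin k, c j • M ^ (j : ℕ) := by
  rw [map_sum]
  refine Finset.sum_congr rfl fun j _ => ?_
  rw [map_mul, aeval_C, map_pow, aeval_X, ← Algebra.smul_def]

theorem isom (x y : Fin 6 → ℤ) :
    dotProduct (M.mulVec x) (A.mulVec (M.mulVec y)) = dotProduct x (A.mulVec y) := by
  conv_rhs => rw [← H.iso]
  rw [← mulVec_mulVec, ← mulVec_mulVec, dotProduct_mulVec x, ← mulVec_transpose, transpose_transpose]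

theorem pow_iso (k : ℕ) : (M ^ k).transpose * A * M ^ k = A := by
  induction k with
  | zero => simp
  | succ k ih =>
    rw [pow_succ, transpose_mul]
    calc M.transpose * (M ^ k).transpose * A * (M ^ k * M)
        = M.transpose * ((M ^ k).transpose * A * M ^ k) * M := by simp only [Matrix.mul_assoc]
      _ = A := by rw [ih, H.iso]

theorem P12_adj : (P12 M).transpose * A * M ^ 4 = A * P12 M := by
  have h2 : (M ^ 2).transpose * A * M ^ 4 = A * M ^ 2 := by
    rw [show (4 : ℕ) = 2 + 2 by norm_num, pow_add, ← Matrix.mul_assoc, H.pow_iso 2]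
  rw [P12, transpose_add, transpose_sub, transpose_one, Matrix.add_mul, Matrix.add_mul,
    Matrix.sub_mul, Matrix.sub_mul, H.pow_iso 4, h2, Matrix.one_mul, Matrix.mul_add, Matrix.mul_sub,
    Matrix.mul_one]
  abel

/-- An integral self-adjoint projection is trivial. -/
theorem split (K : Matrix (Fin 6) (Fin 6) ℤ) (hK : K.transpose * A * K = A * K) : K = 0 ∨ K = 1 := by
  set e : Fin 6 → Fin 6 → ℤ := fun i => Pi.single i 1
  have horth : ∀ i j, dotProduct (K.mulVec (e i)) (A.mulVec (e j - K.mulVec (e j))) = 0 := by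
    intro i j
    have hsymm : K.transpose * A = A * K := by
      have := congrArg Matrix.transpose hK
      rw [transpose_mul, transpose_mul, transpose_transpose, H.symm, ← Matrix.mul_assoc, hK,
        transpose_mul, H.symm] at this
      exact this.symm
    rw [mulVec_sub, dotProduct_sub, mulVec_mulVec, dotProduct_comm (K *ᵥ e i),
      dotProduct_comm (K *ᵥ e i), ← vecMul_transpose A, ← dotProduct_mulVec, H.symm,
      ← vecMul_transpose (A * K), ← dotProduct_mulVec, mulVec_mulVec, mulVec_mulVec, transpose_mul,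
      H.symm, hK, sub_self]
  have hcase : ∀ i, K.mulVec (e i) = 0 ∨ K.mulVec (e i) = e i := by
    intro i
    set x := K.mulVec (e i) with hx
    set y := e i - x with hy
    have hee : dotProduct (e i) (A.mulVec (e i)) = 2 := by simp [e, H.diag i]
    have hxy : dotProduct y (A.mulVec x) = 0 := by
      rw [dotProduct_mulVec, ← mulVec_transpose, H.symm, dotProduct_comm]
      exact horth i i
    have hsum : dotProduct x (A.mulVec x) + dotProduct y (A.mulVec y) = 2 := by
      rw [← hee, show e i = x + y by rw [hy]; abel, mulVec_add, dotProduct_add, add_dotProduct,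
        add_dotProduct, hxy, horth i i]
      ring
    by_cases hx0 : x = 0
    · exact Or.inl hx0
    by_cases hy0 : y = 0
    · exact Or.inr (sub_eq_zero.1 hy0).symm
    have h1 := H.pos x hx0
    have h2 := H.pos y hy0
    obtain ⟨a, ha⟩ := H.even x
    obtain ⟨b, hb⟩ := H.even y
    omega
  rcases H.conn (fun i => K.mulVec (e i) = 0) (fun i j hij => by
    constructor
    · intro hi
      rcases hcase j with hj | hj
      · exact hj
      · have h := horth j i
        rw [hj, hi, sub_zero] at h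
        exfalso
        apply hij
        have : A j i = 0 := by simpa [e] using h
        rw [← H.symm, transpose_apply]
        exact this
    · intro hj
      rcases hcase i with hi | hi
      · exact hi
      · have h := horth i j
        rw [hi, hj, sub_zero] at h
        exfalso
        exact hij (by simpa [e] using h)) with h | h
  · exact Or.inl (Matrix.ext_of_mulVec_single fun i => by rw [zero_mulVec]; exact h i)
  · exact Or.inr (Matrix.ext_of_mulVec_single fun i => by
      rw [one_mulVec]; exact (hcase i).resolve_left (h i))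

/-- The characteristic polynomial. -/
theorem charpoly_eq : M.charpoly = cyclotomic 12 ℤ * (X ^ 2 + X + 1) := by
  obtain ⟨N, hN, hMN⟩ := H.fin
  have hsing : (aeval M (cyclotomic 12 ℤ)).det = 0 := by rw [aeval_twelve]; exact H.sing
  set Φ := (Int.castRingHom ℚ).mapMatrix (m := Fin 6)
  have hdvd : cyclotomic 12 ℤ ∣ M.charpoly := by
    refine (map_dvd_map (Int.castRingHom ℚ) Int.cast_injective (cyclotomic.monic 12 ℤ)).1 ?_
    rw [map_cyclotomic, ← charpoly_map]
    by_contra hnd
    obtain ⟨u, v, huv⟩ := ((cyclotomic.irreducible_rat (n := 12) (by norm_num)).coprime_iff_not_dvd).2 hnd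
    have h1 := congrArg (fun p => (aeval (Φ M) p).det) huv
    simp only [map_add, map_mul, map_one, det_one] at h1
    rw [show M.map (Int.castRingHom ℚ) = Φ M from rfl, aeval_self_charpoly, mul_zero, add_zero,
      det_mul, ← map_cyclotomic 12 (Int.castRingHom ℚ), ← algebraMap_int_eq, aeval_map_algebraMap,
      show aeval (Φ M) (cyclotomic 12 ℤ) = Φ (aeval M (cyclotomic 12 ℤ)) from
        aeval_algHom_apply Φ.toIntAlgHom M _, ← RingHom.map_det, hsing, map_zero, mul_zero] at h1
    exact zero_ne_one h1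
  obtain ⟨R, hR⟩ := hdvd
  have hRm : R.Monic := (cyclotomic.monic 12 ℤ).of_mul_monic_left (hR ▸ charpoly_monic M)
  have hRd : R.natDegree = 2 := by
    have := congrArg Polynomial.natDegree hR
    rw [charpoly_natDegree_eq_dim, Fintype.card_fin,
      (cyclotomic.monic 12 ℤ).natDegree_mul hRm, natDegree_cyclotomic,
      show Nat.totient 12 = 4 by decide] at this
    omega
  set a := R.coeff 1
  set b := R.coeff 0
  have hR2 : R = X ^ 2 + Polynomial.C a * X + Polynomial.C b := by
    conv_lhs => rw [R.as_sum_range_C_mul_X_pow, hRd]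
    rw [Finset.sum_range_succ, Finset.sum_range_succ, Finset.sum_range_one,
      show R.coeff 2 = 1 by rw [← hRd]; exact hRm.coeff_natDegree]
    simp only [pow_zero, pow_one, mul_one, map_one, one_mul]
    ring
  have hnorm : ∀ z : ℂ, z ^ 2 + (a : ℂ) * z + (b : ℂ) = 0 → ‖z‖ = 1 := by
    intro z hz
    set MC := M.map (Int.castRingHom ℂ)
    have hdet : (Matrix.scalar (Fin 6) z - MC).det = 0 := by
      rw [← eval_charpoly, charpoly_map, hR, hR2]
      simp [hz]
    obtain ⟨v, hv0, hv⟩ := exists_mulVec_eq_zero_iff.2 hdet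
    have heig : MC.mulVec v = z • v := by
      rw [sub_mulVec, sub_eq_zero] at hv
      rw [← hv, Matrix.scalar_apply]
      funext i
      simp [Matrix.mulVec_diagonal]
    have hpow := aeval_mulVec MC heig (X ^ N)
    rw [map_pow, aeval_X, eval_pow, eval_X, show MC ^ N = (M ^ N).map (Int.castRingHom ℂ) from
      (map_pow (Int.castRingHom ℂ).mapMatrix M N).symm, hMN,
      show (1 : Matrix (Fin 6) (Fin 6) ℤ).map (Int.castRingHom ℂ) = 1 from
        map_one (Int.castRingHom ℂ).mapMatrix, one_mulVec] at hpow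
    have hzN : z ^ N = 1 := by
      obtain ⟨j, hj⟩ := Function.ne_iff.1 hv0
      have h2 := congrFun hpow j
      rw [Pi.smul_apply, smul_eq_mul] at h2
      exact mul_right_cancel₀ hj (by rw [← h2, one_mul])
    exact Complex.norm_eq_one_of_pow_eq_one hzN hN.ne'
  obtain ⟨z, hz⟩ : ∃ z : ℂ, z ^ 2 + (a : ℂ) * z + (b : ℂ) = 0 := by
    obtain ⟨z, hz⟩ := IsAlgClosed.exists_root (X ^ 2 + Polynomial.C (a : ℂ) * X + Polynomial.C (b : ℂ)) (by
      rw [show (X ^ 2 + Polynomial.C (a : ℂ) * X + Polynomial.C (b : ℂ) : ℂ[X]).degree = 2 by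
        compute_degree!]
      exact two_ne_zero)
    exact ⟨z, by simpa using hz⟩
  have hw : (-(a : ℂ) - z) ^ 2 + (a : ℂ) * (-(a : ℂ) - z) + (b : ℂ) = 0 := by linear_combination hz
  have hn1 := hnorm z hz
  have hn2 := hnorm _ hw
  have hb1 : b = 1 ∨ b = -1 := by
    have : ‖(b : ℂ)‖ = 1 := by
      rw [show (b : ℂ) = z * (-(a : ℂ) - z) by linear_combination hz, norm_mul, hn1, hn2, one_mul]
    rw [Complex.norm_intCast] at this
    have h : |b| = 1 := by exact_mod_cast this
    exact abs_eq (by norm_num) |>.1 h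
  have ha2 : -2 ≤ a ∧ a ≤ 2 := by
    have : ‖(a : ℂ)‖ ≤ 2 := by
      rw [← norm_neg, show -(a : ℂ) = z + (-(a : ℂ) - z) by ring]
      refine (norm_add_le _ _).trans ?_
      rw [hn1, hn2]; norm_num
    rw [Complex.norm_intCast] at this
    have h : |a| ≤ 2 := by exact_mod_cast this
    exact abs_le.1 h
  have h1 : (1 - M).det = 1 + a + b := by
    have := eval_charpoly M 1
    rw [hR, hR2, cyclotomic_twelve, show Matrix.scalar (Fin 6) (1 : ℤ) = 1 from map_one _] at this
    rw [← this]
    simp
  have hdisc : (3 : ℤ) ∣ (1 - M).det := by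
    choose K hK using H.disc
    have h := congrArg Matrix.det (show (1 - M) * A.adjugate = (3 : ℤ) • Matrix.of K from
      Matrix.ext fun i j => by simp [hK i j])
    rw [det_mul, det_adjugate, H.det, det_smul, Fintype.card_fin] at h
    refine ⟨(Matrix.of K).det, mul_right_cancel₀ (show ((3 : ℤ) ^ (6 - 1)) ≠ 0 by norm_num) ?_⟩
    rw [h]; ring
  rw [h1] at hdisc
  by_cases hgood : a = 1 ∧ b = 1
  · rw [hR, hR2, hgood.1, hgood.2, map_one, one_mul]
  exfalso
  have hR1 : 1 + a + b = 0 := by
    rcases hb1 with hb' | hb' <;> omega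
  have hbad : (a = 0 ∧ b = -1) ∨ (a = -2 ∧ b = 1) := by
    rcases hb1 with hb' | hb' <;> omega
  set P := P12 M with hP
  have hCH : P * (M ^ 2 + a • M + b • (1 : Matrix (Fin 6) (Fin 6) ℤ)) = 0 := by
    have h := aeval_self_charpoly M
    rw [hR, hR2, map_mul, aeval_twelve] at h
    rw [← h]
    congr 1
    simp [Algebra.algebraMap_eq_smul_one]
  have hM2 : P * M ^ 2 = P := by
    rcases hbad with ⟨ha, hb'⟩ | ⟨ha, hb'⟩
    · rw [ha, hb', zero_smul, add_zero, neg_one_smul, ← sub_eq_add_neg, Matrix.mul_sub,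
        Matrix.mul_one, sub_eq_zero] at hCH
      exact hCH
    · rw [ha, hb', one_smul] at hCH
      set Y := P * (M - 1) with hY
      have hYM : Y * M = Y := by
        rw [← sub_eq_zero, show Y * M - Y = P * (M ^ 2 + (-2 : ℤ) • M + 1) by
          rw [hY]; noncomm_ring]
        exact hCH
      have hk : ∀ k : ℕ, P * M ^ k = P + (k : ℤ) • Y := by
        intro k
        induction k with
        | zero => simp
        | succ k ih =>
          rw [pow_succ, ← Matrix.mul_assoc, ih, Matrix.add_mul, Matrix.smul_mul, hYM,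
            show P * M = P + Y by rw [hY]; noncomm_ring]
          push_cast
          rw [add_smul, one_smul]
          abel
      have hY0 : Y = 0 := by
        have h := hk N
        rw [hMN, Matrix.mul_one, left_eq_add] at h
        exact (smul_eq_zero.1 h).resolve_left (by exact_mod_cast hN.ne')
      rw [hk 2, hY0, smul_zero, add_zero]
  have hM4 : M ^ 4 * P = P := by
    have hc : M ^ 4 * P = P * M ^ 4 := by rw [hP, P12]; noncomm_ring
    rw [hc, show (4 : ℕ) = 2 + 2 by norm_num, pow_add, ← Matrix.mul_assoc, hM2, hM2]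
  have hPP : P * P = P := by
    conv_lhs => arg 2; rw [hP, P12]
    rw [Matrix.mul_add, Matrix.mul_sub, Matrix.mul_one, show (4 : ℕ) = 2 + 2 by norm_num, pow_add,
      ← Matrix.mul_assoc, hM2, hM2, sub_self, zero_add]
  have hKP : P.transpose * A * P = A * P := by
    calc P.transpose * A * P = P.transpose * A * (M ^ 4 * P) := by rw [hM4]
      _ = P.transpose * A * M ^ 4 * P := by rw [← Matrix.mul_assoc]
      _ = A * P * P := by rw [hP, H.P12_adj]
      _ = A * P := by rw [Matrix.mul_assoc, hPP]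
  rcases H.split P hKP with h | h
  · obtain ⟨v, hv0, hv⟩ := exists_mulVec_eq_zero_iff.2 (show (1 - M).det = 0 by rw [h1, hR1])
    rw [sub_mulVec, one_mulVec, sub_eq_zero] at hv
    refine hv0 ?_
    have hPv : P.mulVec v = v := by
      have hp : ∀ k : ℕ, (M ^ k).mulVec v = v := by
        intro k
        induction k with
        | zero => simp
        | succ k ih => rw [pow_succ, ← mulVec_mulVec, ← hv, ih]
      rw [hP, P12, add_mulVec, sub_mulVec, hp, hp, one_mulVec, sub_self, zero_add]
    rw [← hPv, h, zero_mulVec]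
  · have := H.sing
    rw [← hP, h, det_one] at this
    exact one_ne_zero this

theorem det_twist6 (q : ℤ) :
    (q • (1 : Matrix (Fin 6) (Fin 6) ℤ) - M).det = (q ^ 4 - q ^ 2 + 1) * (q ^ 2 + q + 1) := by
  have h := eval_charpoly M q
  rw [H.charpoly_eq, cyclotomic_twelve] at h
  have e : Matrix.scalar (Fin 6) q = q • (1 : Matrix (Fin 6) (Fin 6) ℤ) := by
    rw [Matrix.scalar_apply, Matrix.smul_one_eq_diagonal]
  rw [e] at h
  rw [← h]
  simp

theorem CH : P12 M * P3 M = 0 := by
  have h := aeval_self_charpoly M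
  rw [H.charpoly_eq, map_mul, aeval_twelve] at h
  rw [← h, P3]
  simp

theorem commute_P12 : P12 M * M = M * P12 M := by rw [P12]; noncomm_ring

theorem P12_on {x : Fin 6 → ℤ} (hx : (P3 M).mulVec x = 0) :
    (P12 M).mulVec x = (-2 : ℤ) • (M ^ 2).mulVec x := by
  have e : P12 M + (2 : ℤ) • M ^ 2 = (M ^ 2 - M + 1) * P3 M := by rw [P12, P3]; noncomm_ring
  have h := congrArg (fun X => X.mulVec x) e
  simp only [add_mulVec, ← mulVec_mulVec, hx, mulVec_zero, smul_mulVec] at h
  rw [eq_neg_of_add_eq_zero_left h, neg_smul]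

/-- Two elements with no common annihilating part give no relation of small degree. -/
theorem no_rel {f : ℤ[X]} {x : Fin 6 → ℤ} (hx : x ≠ 0) (hf : f ≠ 0) (hd : f.natDegree < 4)
    (h12 : (P12 M).mulVec x = 0) : (aeval M f).mulVec x ≠ 0 := by
  intro h
  have hinj : Function.Injective (Int.castRingHom ℚ) := Int.cast_injective
  have hcop : IsCoprime (cyclotomic 12 ℚ) (f.map (Int.castRingHom ℚ)) := by
    refine (cyclotomic.irreducible_rat (by norm_num)).coprime_iff_not_dvd.2 fun h => ?_
    have := natDegree_le_of_dvd h ((Polynomial.map_ne_zero_iff hinj).2 hf)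
    rw [natDegree_cyclotomic, show Nat.totient 12 = 4 by decide,
      natDegree_map_eq_of_injective hinj] at this
    omega
  obtain ⟨u, v, huv⟩ := hcop
  set Φ := (Int.castRingHom ℚ).mapMatrix (m := Fin 6)
  set xQ : Fin 6 → ℚ := fun i => (x i : ℚ)
  have hmap : ∀ p : ℤ[X], (aeval (Φ M) (p.map (Int.castRingHom ℚ))).mulVec xQ
      = fun i => (((aeval M p).mulVec x i : ℤ) : ℚ) := fun p => by
    rw [← algebraMap_int_eq, aeval_map_algebraMap,
      show aeval (Φ M) p = Φ (aeval M p) from aeval_algHom_apply Φ.toIntAlgHom M p]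
    funext i
    exact (RingHom.map_mulVec (Int.castRingHom ℚ) (aeval M p) x i).symm
  have h1 := congrArg (fun p => (aeval (Φ M) p).mulVec xQ) huv
  simp only [map_add, map_mul, add_mulVec, ← mulVec_mulVec, map_one, one_mulVec] at h1
  rw [← map_cyclotomic 12 (Int.castRingHom ℚ), hmap, hmap, aeval_twelve, h12, h] at h1
  refine hx (funext fun i => ?_)
  have := congrFun h1 i
  simpa [xQ, mulVec, dotProduct] using this.symm

theorem exists_ker12 : ∃ x : Fin 6 → ℤ, x ≠ 0 ∧ (P12 M).mulVec x = 0 :=
  exists_mulVec_eq_zero_iff.2 H.sing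

theorem lin_two {a b : ℤ} {z : Fin 6 → ℤ} (hz : z ≠ 0) (h3 : (P3 M).mulVec z = 0)
    (h : a • z + b • M.mulVec z = 0) : a = 0 ∧ b = 0 := by
  have h2 : (M ^ 2).mulVec z = -z - M.mulVec z := by
    rw [P3, add_mulVec, add_mulVec, one_mulVec, add_assoc] at h3
    rw [eq_neg_of_add_eq_zero_left h3]
    abel
  have h' : (-b) • z + (a - b) • M.mulVec z = 0 := by
    have := congrArg M.mulVec h
    rw [mulVec_add, mulVec_smul, mulVec_smul, mulVec_zero, mulVec_mulVec, ← sq, h2] at this
    rw [← this]
    module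
  have h'' : (a * a - a * b + b * b) • z = 0 := by
    have e : (a * a - a * b + b * b) • z = (a - b) • (a • z + b • M.mulVec z)
        - b • ((-b) • z + (a - b) • M.mulVec z) := by module
    rw [e, h, h', smul_zero, smul_zero, sub_zero]
  have h0 : a * a - a * b + b * b = 0 := (smul_eq_zero.1 h'').resolve_right hz
  have ha : a = 0 := by nlinarith [sq_nonneg (a - 2 * b), sq_nonneg a, sq_nonneg b]
  subst ha
  refine ⟨rfl, ?_⟩
  nlinarith

theorem P3_P12 (y : Fin 6 → ℤ) : (P3 M).mulVec ((P12 M).mulVec y) = 0 := by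
  rw [mulVec_mulVec, show P3 M * P12 M = P12 M * P3 M by rw [P12, P3]; noncomm_ring, H.CH,
    zero_mulVec]

/-- No vector of norm two is killed by the third cyclotomic polynomial. -/
theorem norm_two_not_ker {v : Fin 6 → ℤ} (hv : dotProduct v (A.mulVec v) = 2) :
    (P3 M).mulVec v ≠ 0 := by
  intro h3
  set u := M.mulVec v with hu
  have hv0 : v ≠ 0 := fun h => by rw [h] at hv; simp at hv
  have huu : dotProduct u (A.mulVec u) = 2 := by rw [hu, H.isom, hv]
  have hsym : ∀ x y : Fin 6 → ℤ, dotProduct x (A.mulVec y) = dotProduct y (A.mulVec x) := fun x y => by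
    rw [dotProduct_mulVec, ← mulVec_transpose, H.symm, dotProduct_comm]
  have hw : (M ^ 2).mulVec v = -(v + u) := by
    rw [P3, add_mulVec, add_mulVec, one_mulVec, add_assoc] at h3
    rw [eq_neg_of_add_eq_zero_left h3, hu, add_comm]
  have huv : dotProduct v (A.mulVec u) = -1 := by
    have h := H.isom u u
    rw [hu, mulVec_mulVec, ← sq, hw, ← hu, mulVec_neg, dotProduct_neg, neg_dotProduct, _root_.neg_neg,
      mulVec_add, dotProduct_add, add_dotProduct, add_dotProduct, hv, huu, hsym u v] at h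
    omega
  have hu3 : (P3 M).mulVec u = 0 := by
    rw [hu, mulVec_mulVec, show P3 M * M = M * P3 M by rw [P3]; noncomm_ring, ← mulVec_mulVec, h3,
      mulVec_zero]
  -- the lattice part in the kernel
  have hspan : ∀ z : Fin 6 → ℤ, (P3 M).mulVec z = 0 →
      (3 : ℤ) • z = (2 * dotProduct v (A.mulVec z) + dotProduct u (A.mulVec z)) • v
        + (dotProduct v (A.mulVec z) + 2 * dotProduct u (A.mulVec z)) • u := by
    intro z hz
    set z' := (3 : ℤ) • z - ((2 * dotProduct v (A.mulVec z) + dotProduct u (A.mulVec z)) • v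
        + (dotProduct v (A.mulVec z) + 2 * dotProduct u (A.mulVec z)) • u) with hz'
    have hz3 : (P3 M).mulVec z' = 0 := by
      rw [hz', mulVec_sub, mulVec_add, mulVec_smul, mulVec_smul, mulVec_smul, hz, h3, hu3]
      simp
    have hzv : dotProduct v (A.mulVec z') = 0 := by
      rw [hz', mulVec_sub, mulVec_add, mulVec_smul, mulVec_smul, mulVec_smul, dotProduct_sub,
        dotProduct_add, dotProduct_smul, dotProduct_smul, dotProduct_smul, hv, huv]
      simp only [smul_eq_mul]; ring
    have hzu : dotProduct u (A.mulVec z') = 0 := by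
      rw [hz', mulVec_sub, mulVec_add, mulVec_smul, mulVec_smul, mulVec_smul, dotProduct_sub,
        dotProduct_add, dotProduct_smul, dotProduct_smul, dotProduct_smul, hsym u v, huu, huv]
      simp only [smul_eq_mul]; ring
    by_contra hne
    have hz0 : z' ≠ 0 := fun h => hne (sub_eq_zero.1 h)
    obtain ⟨x, hx0, hx⟩ := H.exists_ker12
    let fam : Fin 7 → (Fin 6 → ℤ) := ![x, M.mulVec x, (M ^ 2).mulVec x, (M ^ 3).mulVec x, v, u, z']
    have hli : LinearIndependent ℤ fam := by
      rw [Fintype.linearIndependent_iff]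
      intro c hc
      set f : ℤ[X] := ∑ j : Fin 4, Polynomial.C (c (Fin.castLE (by norm_num) j)) * X ^ (j : ℕ) with hf
      set y := c 4 • v + c 5 • u + c 6 • z' with hy
      have hsplit : (aeval M f).mulVec x + y = 0 := by
        rw [hf, H.sum_smul_pow, Matrix.sum_mulVec, Fin.sum_univ_four, hy, ← hc, Fin.sum_univ_seven]
        simp only [smul_mulVec, fam]
        simp [add_assoc]
      have hy3 : (P3 M).mulVec y = 0 := by
        rw [hy, mulVec_add, mulVec_add, mulVec_smul, mulVec_smul, mulVec_smul, h3, hu3, hz3]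
        simp
      have hy0 : y = 0 := by
        have h := congrArg (P12 M).mulVec hsplit
        rw [mulVec_add, mulVec_zero, mulVec_mulVec, ← aeval_twelve, ← map_mul, mul_comm, map_mul,
          ← mulVec_mulVec, aeval_twelve, hx, mulVec_zero, zero_add, H.P12_on hy3] at h
        have hMy : (M ^ 2).mulVec y = 0 := (smul_eq_zero.1 h).resolve_left (by norm_num)
        obtain ⟨N, hN, hMN⟩ := H.fin
        have h' := congrArg ((M ^ (2 * (N - 1))).mulVec) hMy
        rw [mulVec_mulVec, mulVec_zero, ← pow_add,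
          show 2 * (N - 1) + 2 = N * 2 by omega, pow_mul, hMN, one_pow, one_mulVec] at h'
        exact h'
      have ev : ∀ r : Fin 6 → ℤ, dotProduct r (A.mulVec y) = c 4 * dotProduct r (A.mulVec v)
          + c 5 * dotProduct r (A.mulVec u) + c 6 * dotProduct r (A.mulVec z') := fun r => by
        rw [hy, mulVec_add, mulVec_add, mulVec_smul, mulVec_smul, mulVec_smul, dotProduct_add,
          dotProduct_add, dotProduct_smul, dotProduct_smul, dotProduct_smul]
        simp only [smul_eq_mul]
      have e1 := ev v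
      have e2 := ev u
      rw [hy0, mulVec_zero, dotProduct_zero, hzv, hv, huv] at e1
      rw [hy0, mulVec_zero, dotProduct_zero, hzu, hsym u v, huu, huv] at e2
      have h4 : c 4 = 0 := by omega
      have h5 : c 5 = 0 := by omega
      have h6 : c 6 = 0 := by
        rw [hy, h4, h5, zero_smul, zero_smul, zero_add, zero_add] at hy0
        exact (smul_eq_zero.1 hy0).resolve_right hz0
      have hf0 : f = 0 := by
        by_contra hne'
        refine H.no_rel hx0 hne' ?_ hx (by simpa [hy0] using hsplit)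
        rw [natDegree_lt_iff_degree_lt hne']
        refine lt_of_le_of_lt (degree_sum_le _ _) ?_
        exact (Finset.sup_lt_iff (WithBot.bot_lt_coe 4)).2 fun j _ =>
          (degree_C_mul_X_pow_le _ _).trans_lt (WithBot.coe_lt_coe.2 j.isLt)
      have hcj : ∀ j : Fin 4, c (Fin.castLE (by norm_num) j) = 0 := fun j => by
        have := congrArg (fun p => p.coeff (j : ℕ)) hf0
        simpa [hf, coeff_C_mul, Fin.val_inj] using this
      intro i
      fin_cases i
      · exact hcj 0
      · exact hcj 1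
      · exact hcj 2
      · exact hcj 3
      · exact h4
      · exact h5
      · exact h6
    have := hli.fintype_card_le_finrank
    simp at this
  -- the cyclotomic value is even
  have heven : ∀ (y s : Fin 6 → ℤ), (P3 M).mulVec s = 0 →
      2 ∣ dotProduct s (A.mulVec ((P12 M).mulVec y)) := by
    intro y s hs
    have h := H.P12_adj
    have e : dotProduct s (A.mulVec ((P12 M).mulVec y))
        = dotProduct ((P12 M).mulVec s) (A.mulVec ((M ^ 4).mulVec y)) := by
      rw [mulVec_mulVec, ← h, ← mulVec_mulVec, ← mulVec_mulVec, dotProduct_mulVec,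
        vecMul_transpose]
    rw [e, H.P12_on hs, smul_dotProduct, smul_eq_mul]
    exact dvd_mul_of_dvd_left (by norm_num) _
  have hP2 : ∀ i j, 2 ∣ P12 M i j := by
    intro i j
    set z := (P12 M).mulVec (Pi.single j 1) with hzdef
    have hz : (P3 M).mulVec z = 0 := H.P3_P12 _
    obtain ⟨a, ha⟩ := heven (Pi.single j 1) v h3
    obtain ⟨b, hb⟩ := heven (Pi.single j 1) u hu3
    have h := congrFun (hspan z hz) i
    rw [← hzdef] at ha hb
    rw [ha, hb] at h
    simp only [Pi.add_apply, Pi.smul_apply, smul_eq_mul] at h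
    have e : P12 M i j = z i := by simp [hzdef]
    rw [e]
    exact ⟨(2 * a + b) * v i + (a + 2 * b) * u i - z i, by linear_combination h⟩
  choose K hK using hP2
  set K' := Matrix.of K
  have hPK : P12 M = (2 : ℤ) • K' := Matrix.ext fun i j => by simp [K', hK i j]
  have hcancel : ∀ {X Y : Matrix (Fin 6) (Fin 6) ℤ}, (2 : ℤ) • X = (2 : ℤ) • Y → X = Y :=
    fun h => smul_right_injective _ (two_ne_zero (α := ℤ)) h
  have hK3 : P3 M * K' = 0 := hcancel (by
    rw [← Matrix.mul_smul, ← hPK, smul_zero,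
      show P3 M * P12 M = P12 M * P3 M by rw [P12, P3]; noncomm_ring, H.CH])
  have hcomm : K' * M = M * K' := hcancel (by
    rw [← Matrix.smul_mul, ← Matrix.mul_smul, ← hPK, H.commute_P12])
  have hM3 : M ^ 3 * K' = K' := by
    rw [← sub_eq_zero, show M ^ 3 * K' - K' = (M - 1) * (P3 M * K') by rw [P3]; noncomm_ring, hK3,
      Matrix.mul_zero]
  have hKK : K' * K' = -(M ^ 2 * K') := by
    refine hcancel ?_
    rw [← Matrix.smul_mul, ← hPK, smul_neg, eq_neg_iff_add_eq_zero,
      ← Matrix.smul_mul, ← Matrix.add_mul]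
    rw [show P12 M + (2 : ℤ) • M ^ 2 = (M ^ 2 - M + 1) * P3 M by rw [P12, P3]; noncomm_ring,
      Matrix.mul_assoc, hK3, Matrix.mul_zero]
  have hadj : K'.transpose * A * M ^ 4 = A * K' := hcancel (by
    rw [← Matrix.smul_mul, ← Matrix.smul_mul, ← transpose_smul, ← hPK, ← Matrix.mul_smul, ← hPK,
      H.P12_adj])
  have hPi : (-(M * K')).transpose * A * (-(M * K')) = A * (-(M * K')) := by
    rw [transpose_neg, transpose_mul, Matrix.neg_mul, Matrix.neg_mul, Matrix.mul_neg, _root_.neg_neg]
    calc K'.transpose * M.transpose * A * (M * K')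
        = K'.transpose * (M.transpose * A * M) * K' := by simp only [Matrix.mul_assoc]
      _ = K'.transpose * A * (M ^ 3 * (M ^ 3 * K')) := by rw [H.iso, hM3, hM3]
      _ = K'.transpose * A * M ^ 4 * (M ^ 2 * K') := by
          simp only [Matrix.mul_assoc, ← pow_add]
          simp only [← Matrix.mul_assoc, ← pow_add]
      _ = A * (K' * (M ^ 2 * K')) := by rw [hadj, Matrix.mul_assoc]
      _ = A * (M ^ 2 * (K' * K')) := by
          rw [← Matrix.mul_assoc K', ← Matrix.mul_assoc (M ^ 2)]
          rw [show K' * M ^ 2 = M ^ 2 * K' from Commute.pow_right hcomm 2]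
      _ = A * -(M * K') := by
          rw [hKK, Matrix.mul_neg (M ^ 2), ← Matrix.mul_assoc (M ^ 2), ← pow_add,
            show M ^ (2 + 2) * K' = M * (M ^ 3 * K') by rw [← Matrix.mul_assoc, ← pow_succ'], hM3]
  rcases H.split _ hPi with h | h
  · have hv' := congrArg (fun X => X.mulVec v) h
    simp only [neg_mulVec, zero_mulVec, neg_eq_zero, ← mulVec_mulVec] at hv'
    have h2 : (P12 M).mulVec v = 0 := by
      rw [hPK, smul_mulVec]
      have hKv : K'.mulVec v = (M ^ 2).mulVec (M.mulVec (K'.mulVec v)) := by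
        rw [mulVec_mulVec, mulVec_mulVec, ← pow_succ, hM3]
      rw [hKv, hv', mulVec_zero, smul_zero]
    rw [H.P12_on h3, hw, smul_neg, neg_eq_zero, smul_eq_zero] at h2
    have h2' := h2.resolve_left (by norm_num)
    have := congrArg (fun x => dotProduct v (A.mulVec x)) h2'
    simp only [mulVec_add, dotProduct_add, hv, huv, mulVec_zero, dotProduct_zero] at this
    omega
  · have hs := H.sing
    rw [hPK, det_smul, Fintype.card_fin, mul_eq_zero] at hs
    have hKdet : K'.det = 0 := hs.resolve_left (by norm_num)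
    have := congrArg Matrix.det h
    rw [det_one, det_neg, det_mul, hKdet, mul_zero, mul_zero] at this
    exact zero_ne_one this

/-- A vector with two nonzero parts spans with its images a lattice of full rank. -/
theorem orbit_det {v : Fin 6 → ℤ} (h3 : (P3 M).mulVec v ≠ 0) (h12 : (P12 M).mulVec v ≠ 0) :
    (Matrix.of fun i j : Fin 6 => (M ^ (j : ℕ)).mulVec v i).det ≠ 0 := by
  intro hdet
  obtain ⟨c, hc0, hc⟩ := exists_mulVec_eq_zero_iff.2 hdet
  set f : ℤ[X] := ∑ j : Fin 6, Polynomial.C (c j) * X ^ (j : ℕ) with hf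
  have hfv : (aeval M f).mulVec v = 0 := by
    rw [← hc, hf, H.sum_smul_pow, Matrix.sum_mulVec]
    funext i
    simp only [Finset.sum_apply, smul_mulVec, Pi.smul_apply, smul_eq_mul, mulVec, dotProduct,
      Matrix.of_apply]
    exact Finset.sum_congr rfl fun j _ => mul_comm _ _
  -- reduce to the twelfth part
  have hx : (P12 M).mulVec ((P3 M).mulVec v) = 0 := by rw [mulVec_mulVec, H.CH, zero_mulVec]
  have hz : (P3 M).mulVec ((P12 M).mulVec v) = 0 := H.P3_P12 v
  have hmon : (X ^ 2 + X + 1 : ℤ[X]).Monic := by monicity!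
  have hmon12 : (cyclotomic 12 ℤ).Monic := cyclotomic.monic 12 ℤ
  have hred : ∀ (y : Fin 6 → ℤ) (m : ℤ[X]), (aeval M m).mulVec y = 0 →
      (aeval M (f %ₘ m)).mulVec y = (aeval M f).mulVec y := fun y m hy => by
    conv_rhs => rw [← modByMonic_add_div f m]
    rw [map_add, mul_comm, map_mul, add_mulVec, ← mulVec_mulVec, hy, mulVec_zero, add_zero]
  have hf3 : (aeval M f).mulVec ((P3 M).mulVec v) = 0 := by
    rw [mulVec_mulVec, show aeval M f * P3 M = P3 M * aeval M f from ?_, ← mulVec_mulVec, hfv,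
      mulVec_zero]
    rw [show P3 M = aeval M (X ^ 2 + X + 1 : ℤ[X]) by simp [P3], ← map_mul, ← map_mul, mul_comm]
  have hf12 : (aeval M f).mulVec ((P12 M).mulVec v) = 0 := by
    rw [mulVec_mulVec, show aeval M f * P12 M = P12 M * aeval M f from ?_, ← mulVec_mulVec, hfv,
      mulVec_zero]
    rw [← aeval_twelve, ← map_mul, ← map_mul, mul_comm]
  have hd12 : cyclotomic 12 ℤ ∣ f := by
    rw [← modByMonic_eq_zero_iff_dvd hmon12]
    by_contra hne
    refine H.no_rel h3 hne ?_ hx ?_
    · have := natDegree_modByMonic_lt f hmon12 (fun h => by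
        have := congrArg Polynomial.natDegree h
        rw [natDegree_cyclotomic, natDegree_one] at this
        exact absurd this (by decide))
      rwa [natDegree_cyclotomic, show Nat.totient 12 = 4 by decide] at this
    · rw [hred _ _ (by rw [aeval_twelve]; exact hx), hf3]
  have hd3 : (X ^ 2 + X + 1 : ℤ[X]) ∣ f := by
    rw [← modByMonic_eq_zero_iff_dvd hmon]
    set g := f %ₘ (X ^ 2 + X + 1 : ℤ[X]) with hg
    have hdeg : g.natDegree ≤ 1 := by
      have := natDegree_modByMonic_lt f hmon (fun h => by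
        have := congrArg (fun p : ℤ[X] => p.coeff 2) h
        simp [coeff_one, coeff_X] at this)
      rw [show (X ^ 2 + X + 1 : ℤ[X]).natDegree = 2 by compute_degree!] at this
      show (f %ₘ (X ^ 2 + X + 1 : ℤ[X])).natDegree ≤ 1
      omega
    have hgv : (aeval M g).mulVec ((P12 M).mulVec v) = 0 := by
      rw [hg, hred _ _ (by simpa [P3] using hz), hf12]
    rw [eq_X_add_C_of_natDegree_le_one hdeg, map_add, map_mul, aeval_C, aeval_C, aeval_X,
      ← Algebra.smul_def, Algebra.algebraMap_eq_smul_one, add_mulVec, smul_mulVec, smul_mulVec,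
      one_mulVec, add_comm] at hgv
    obtain ⟨e0, e1⟩ := H.lin_two h12 hz hgv
    rw [eq_X_add_C_of_natDegree_le_one hdeg, e0, e1]
    simp
  have hd : cyclotomic 12 ℤ * (X ^ 2 + X + 1) ∣ f := by
    obtain ⟨g, hg⟩ := hd3
    rw [hg, mul_comm (cyclotomic 12 ℤ)]
    refine mul_dvd_mul_left _ ?_
    refine (map_dvd_map (Int.castRingHom ℚ) Int.cast_injective hmon12).1 ?_
    rw [map_cyclotomic]
    have hirr := cyclotomic.irreducible_rat (n := 12) (by norm_num)
    have h12f : cyclotomic 12 ℚ ∣ f.map (Int.castRingHom ℚ) := by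
      rw [← map_cyclotomic 12 (Int.castRingHom ℚ)]; exact Polynomial.map_dvd _ hd12
    rw [hg, Polynomial.map_mul] at h12f
    refine (hirr.prime.dvd_or_dvd h12f).resolve_left fun h => ?_
    have hne : (X ^ 2 + X + 1 : ℤ[X]).map (Int.castRingHom ℚ) ≠ 0 := (hmon.map _).ne_zero
    have := natDegree_le_of_dvd h hne
    rw [natDegree_cyclotomic, hmon.natDegree_map, show (X ^ 2 + X + 1 : ℤ[X]).natDegree = 2 by
      compute_degree!] at this
    exact absurd this (by decide)
  have hf0 : f = 0 := by
    by_contra hne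
    have h6 : f.natDegree < 6 := by
      rw [natDegree_lt_iff_degree_lt hne]
      refine lt_of_le_of_lt (degree_sum_le _ _) ?_
      exact (Finset.sup_lt_iff (WithBot.bot_lt_coe 6)).2 fun j _ =>
        (degree_C_mul_X_pow_le _ _).trans_lt (WithBot.coe_lt_coe.2 j.isLt)
    have := natDegree_le_of_dvd hd hne
    rw [hmon12.natDegree_mul hmon, natDegree_cyclotomic, show Nat.totient 12 = 4 by decide,
      show (X ^ 2 + X + 1 : ℤ[X]).natDegree = 2 by compute_degree!] at this
    omega
  refine hc0 (funext fun j => ?_)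
  have := congrArg (fun p => p.coeff (j : ℕ)) hf0
  simpa [hf, coeff_C_mul, Fin.val_inj] using this

/-- Four images and two outside vectors. -/
def mixed (M : Matrix (Fin 6) (Fin 6) ℤ) (v y : Fin 6 → ℤ) : Fin 6 → (Fin 6 → ℤ) :=
  ![v, M.mulVec v, (M ^ 2).mulVec v, (M ^ 3).mulVec v, y, M.mulVec y]

theorem mixed_coeff {v y : Fin 6 → ℤ} (hv12 : (P12 M).mulVec v = 0) (hy12 : (P12 M).mulVec y ≠ 0)
    {c : Fin 6 → ℤ} {s : Fin 6 → ℤ} (hc : ∑ k, c k • mixed M v y k = s)
    (hs : (P12 M).mulVec s = 0) : c 4 = 0 ∧ c 5 = 0 := by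
  have h := congrArg (P12 M).mulVec hc
  rw [hs, mulVec_sum] at h
  simp only [Fin.sum_univ_six, mulVec_smul] at h
  have hp : ∀ k : ℕ, (P12 M).mulVec ((M ^ k).mulVec v) = 0 := fun k => by
    rw [mulVec_mulVec, show P12 M * M ^ k = M ^ k * P12 M from
      Commute.pow_right H.commute_P12 k, ← mulVec_mulVec, hv12, mulVec_zero]
  have hp1 : (P12 M).mulVec (M.mulVec v) = 0 := by simpa using hp 1
  have hyM : (P12 M).mulVec (M.mulVec y) = M.mulVec ((P12 M).mulVec y) := by
    rw [mulVec_mulVec, mulVec_mulVec, H.commute_P12]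
  simp [mixed, hv12, hp1, hp 2, hp 3, hyM, -zsmul_eq_mul] at h
  exact H.lin_two hy12 (H.P3_P12 y) (by rw [mulVec_mulVec]; exact h)

theorem mixed_det {v y : Fin 6 → ℤ} (hv0 : v ≠ 0) (hv12 : (P12 M).mulVec v = 0)
    (hy12 : (P12 M).mulVec y ≠ 0) :
    (Matrix.of fun i j : Fin 6 => mixed M v y j i).det ≠ 0 := by
  intro hdet
  obtain ⟨c, hc0, hc⟩ := exists_mulVec_eq_zero_iff.2 hdet
  have hsum : ∑ k, c k • mixed M v y k = 0 := by
    rw [← hc]
    funext i
    simp only [Finset.sum_apply, Pi.smul_apply, smul_eq_mul, mulVec, dotProduct, Matrix.of_apply]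
    exact Finset.sum_congr rfl fun j _ => mul_comm _ _
  obtain ⟨h4, h5⟩ := H.mixed_coeff hv12 hy12 hsum (mulVec_zero _)
  set f : ℤ[X] := ∑ j : Fin 4, Polynomial.C (c (Fin.castLE (by norm_num) j)) * X ^ (j : ℕ) with hf
  have hfv : (aeval M f).mulVec v = 0 := by
    rw [hf, H.sum_smul_pow, Matrix.sum_mulVec, Fin.sum_univ_four, ← hsum, Fin.sum_univ_six, h4, h5]
    simp [smul_mulVec, mixed, -zsmul_eq_mul]
  have hf0 : f = 0 := by
    by_contra hne
    refine H.no_rel hv0 hne ?_ hv12 hfv
    rw [natDegree_lt_iff_degree_lt hne]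
    refine lt_of_le_of_lt (degree_sum_le _ _) ?_
    exact (Finset.sup_lt_iff (WithBot.bot_lt_coe 4)).2 fun j _ =>
      (degree_C_mul_X_pow_le _ _).trans_lt (WithBot.coe_lt_coe.2 j.isLt)
  have hcj : ∀ j : Fin 4, c (Fin.castLE (by norm_num) j) = 0 := fun j => by
    have := congrArg (fun p => p.coeff (j : ℕ)) hf0
    simpa [hf, coeff_C_mul, Fin.val_inj] using this
  refine hc0 (funext fun i => ?_)
  fin_cases i
  · exact hcj 0
  · exact hcj 1
  · exact hcj 2
  · exact hcj 3
  · exact h4
  · exact h5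

end Iso6

end Cfsg.Agent.Chevalley.TwTorus.Sc
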